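import Cfsg.Agent.Lib.Invol.MTwelveType.Fusion

/-!
# The two classes of involutions

One normal elementary subgroup is pure; the involutions outside it in the extraspecial subgroup form the other class.
-/

set_option autoImplicit false
set_option linter.unusedSectionVars false
set_option linter.style.haveILetI false
set_option maxRecDepth 10000

namespace CfsgLib.Invol.MTwelveType

open Subgroup
open CfsgLib.Invol
open CfsgLib.Coprime (conjBy)

universe u

namespace W12

theorem max_one : ∀ w : W12, Inv2 w → w.x = w.s → ∃ c, c * w * c⁻¹ ∈ [gz, gu, gu', gas] := by decide +kernel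
theorem max_two : ∀ w : W12, Inv2 w → w.x = 0 → ∃ c, c * w * c⁻¹ ∈ [gz, gu, gu', gs] := by decide +kernel
theorem max_three : ∀ w : W12, Inv2 w → w.s = par w.p + par w.q →
    ∃ c, c * w * c⁻¹ ∈ [gz, gu, gu', gp, ga] := by decide +kernel
theorem max_six : ∀ w : W12, Inv2 w → w.x + w.s + par w.p + par w.q = 0 →
    ∃ c, c * w * c⁻¹ ∈ [gz, gu, gu', gr, gas] := by decide +kernel
theorem shift_reps : (∃ c, c * shift gp * c⁻¹ = ga) ∧ shift gs = gs ∧ shift gu' = gu' ∧ shift gz = gz ∧
    shift gu = gu ∧ shift ga = gp ∧ (∃ c, c * shift gas * c⁻¹ = gas) ∧ (∃ c, c * shift gr * c⁻¹ = gr) := by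
  decide +kernel
theorem cent_s_z : ∀ v : W12, v * gs = gs * v → Inv2 v → v = gz ∨ ∃ c, c * v * c⁻¹ ∈ [gp, ga, gs, gas] := by
  decide +kernel
theorem s_card : (Finset.univ.filter fun v => v * gs = gs * v).card = 16 ∧ gu * gp = gp * gu ∧ gz * gp = gp * gz := by
  decide +kernel
theorem perm_fixed : ∀ σ : Equiv.Perm C4, σ * σ * σ = 1 → σ 0 = 0 →
    (σ (1, 1) ≠ (1, 1) ∨ ∀ c, σ c = c) := by decide +kernel
theorem idx_gp_ne : idx gp ≠ 0 := by decide +kernel
theorem s_maps : gs ≠ 1 ∧ Inv2 gs ∧ Inv2 gp ∧ Inv2 ga ∧ Inv2 gas ∧ Inv2 gr := by decide +kernel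

end W12

variable {G : Type u} [Group G] [Finite G]

namespace Frame

variable (F : Frame G)

/-- the fusion of involutions -/
structure Core : Prop where
  turn : ∃ h, F.Turn0 h
  p : F.Rel W12.gz W12.gp
  na : ¬ F.Rel W12.gz W12.ga
  as_ : F.Rel W12.ga W12.gs
  aas : F.Rel W12.ga W12.gas
  r : F.Rel W12.gz W12.gr ∨ F.Rel W12.ga W12.gr

/-- Thompson transfer -/
theorem fuse (h2 : ∀ H : Subgroup G, H.index ≠ 2) (H : W12 → Prop) [DecidablePred H] (h1 : H 1)
    (hmul : ∀ a b, H a → H b → H (a * b)) (hcard : (Finset.univ.filter H).card = 32) {w : W12}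
    (hw : W12.Inv2 w) : ∃ w', H w' ∧ W12.Inv2 w' ∧ F.Rel w w' := by
  by_contra hcon
  push Not at hcon
  let K : Subgroup W12 :=
    { carrier := {v | H v}
      one_mem' := h1
      mul_mem' := fun {a b} ha hb => hmul a b ha hb
      inv_mem' := fun {a} (ha : H a) => by
        show H a⁻¹
        have e : a⁻¹ = a ^ (orderOf a - 1) := by
          refine inv_eq_of_mul_eq_one_left ?_
          rw [← pow_succ, Nat.sub_add_cancel (orderOf_pos a), pow_orderOf_eq_one]
        rw [e]
        induction (orderOf a - 1) with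
        | zero => simpa using h1
        | succ n ih => rw [pow_succ]; exact hmul _ _ ih ha }
  haveI : DecidablePred (· ∈ K) := fun v => Classical.dec _
  have hle := F.map_le_T K
  have hrel : (K.map F.hom).relIndex (F.T : Subgroup G) = 2 := by
    have hc : Nat.card (K.map F.hom) = 32 := by
      rw [F.card_map K, ← hcard]
      exact congrArg Finset.card (Finset.filter_congr fun v _ => Iff.rfl)
    have h := ((K.map F.hom).subgroupOf (F.T : Subgroup G)).card_mul_index
    rw [Nat.card_congr (subgroupOfEquivOfLe hle).toEquiv, hc, F.card_T] at h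
    show ((K.map F.hom).subgroupOf (F.T : Subgroup G)).index = 2
    omega
  obtain ⟨M, -, hM, -⟩ := CfsgLib.Fusion.thompson_transfer F.T hle hrel (u := F.hom w)
    (by rw [pow_two, ← map_mul, hw.2, map_one]) (fun g hg => by
      obtain ⟨v, hv, hve⟩ := hg
      have hvi : W12.Inv2 v := F.hom_invol.1 (hve ▸ invol_conj (F.hom_invol.2 hw) g)
      exact hcon v hv hvi (isConj_iff.2 ⟨g, hve.symm⟩))
  exact h2 M hM

theorem rel_conj {w r : W12} {c : W12} (h : c * w * c⁻¹ = r) : F.Rel w r := F.isConj_hom h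

theorem fuse_one (h2 : ∀ H : Subgroup G, H.index ≠ 2) (hzu : IsConj F.z F.u) {w : W12} (hw : W12.Inv2 w) :
    F.Rel W12.gz w ∨ F.Rel W12.gas w := by
  obtain ⟨w', hH, hi, hc⟩ := F.fuse h2 (fun v => v.x = v.s) rfl
    (by decide +kernel) (by decide +kernel) hw
  obtain ⟨c, hcm⟩ := W12.max_one w' hi hH
  simp only [List.mem_cons, List.not_mem_nil, or_false] at hcm
  have h' := hc.trans (F.rel_conj (c := c) (w := w') rfl)
  rcases hcm with e | e | e | e <;> rw [e] at h'
  · exact Or.inl h'.symm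
  · exact Or.inl ((show F.Rel W12.gz W12.gu from hzu).trans h'.symm)
  · exact Or.inl (((show F.Rel W12.gz W12.gu from hzu).trans F.rel_s).trans h'.symm)
  · exact Or.inr h'.symm

theorem fuse_two (h2 : ∀ H : Subgroup G, H.index ≠ 2) (hzu : IsConj F.z F.u) {w : W12} (hw : W12.Inv2 w) :
    F.Rel W12.gz w ∨ F.Rel W12.gs w := by
  obtain ⟨w', hH, hi, hc⟩ := F.fuse h2 (fun v => v.x = 0) rfl
    (by decide +kernel) (by decide +kernel) hw
  obtain ⟨c, hcm⟩ := W12.max_two w' hi hH
  simp only [List.mem_cons, List.not_mem_nil, or_false] at hcm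
  have h' := hc.trans (F.rel_conj (c := c) (w := w') rfl)
  rcases hcm with e | e | e | e <;> rw [e] at h'
  · exact Or.inl h'.symm
  · exact Or.inl ((show F.Rel W12.gz W12.gu from hzu).trans h'.symm)
  · exact Or.inl (((show F.Rel W12.gz W12.gu from hzu).trans F.rel_s).trans h'.symm)
  · exact Or.inr h'.symm

theorem fuse_three (h2 : ∀ H : Subgroup G, H.index ≠ 2) (hzu : IsConj F.z F.u) {w : W12} (hw : W12.Inv2 w) :
    F.Rel W12.gz w ∨ F.Rel W12.gp w ∨ F.Rel W12.ga w := by
  obtain ⟨w', hH, hi, hc⟩ := F.fuse h2 (fun v => v.s = W12.par v.p + W12.par v.q) (by decide +kernel)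
    (by decide +kernel) (by decide +kernel) hw
  obtain ⟨c, hcm⟩ := W12.max_three w' hi hH
  simp only [List.mem_cons, List.not_mem_nil, or_false] at hcm
  have h' := hc.trans (F.rel_conj (c := c) (w := w') rfl)
  rcases hcm with e | e | e | e | e <;> rw [e] at h'
  · exact Or.inl h'.symm
  · exact Or.inl ((show F.Rel W12.gz W12.gu from hzu).trans h'.symm)
  · exact Or.inl (((show F.Rel W12.gz W12.gu from hzu).trans F.rel_s).trans h'.symm)
  · exact Or.inr (Or.inl h'.symm)
  · exact Or.inr (Or.inr h'.symm)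

/-- every involution is conjugate into the seven representatives -/
theorem rel_reps (hzu : IsConj F.z F.u) {x : G} (hx : orderOf x = 2) :
    ∃ r ∈ [W12.gz, W12.gp, W12.gr, W12.ga, W12.gs, W12.gas], IsConj x (F.hom r) := by
  haveI : Fact (Nat.Prime 2) := ⟨Nat.prime_two⟩
  obtain ⟨k, hk⟩ := exists_conj_le_sylow (Q := zpowers x)
    (IsPGroup.of_card (n := 1) (by rw [Nat.card_zpowers, hx, pow_one])) F.T
  obtain ⟨w, hw⟩ := F.exists_of_mem (hk x (mem_zpowers x))
  have hwi : W12.Inv2 w := F.hom_invol.1 (hw ▸ invol_conj hx k)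
  obtain ⟨c, hcm⟩ := W12.rep_cases w hwi
  have hxw : IsConj x (F.hom w) := isConj_iff.2 ⟨k, hw.symm⟩
  have h' := hxw.trans (F.rel_conj (c := c) (w := w) rfl)
  simp only [List.mem_cons, List.not_mem_nil, or_false] at hcm
  rcases hcm with e | e | e | e | e | e | e | e <;> rw [e] at h'
  · exact ⟨_, List.mem_cons_self, h'⟩
  · exact ⟨_, List.mem_cons_self, h'.trans hzu.symm⟩
  · exact ⟨_, List.mem_cons_self, h'.trans (F.rel_s.symm.trans hzu.symm)⟩
  all_goals exact ⟨_, by simp, h'⟩

/-- **one normal elementary subgroup is pure** -/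
theorem exists_core (h2 : ∀ H : Subgroup G, H.index ≠ 2) {h : G} (H : F.Turn h)
    (htwo : ∃ x y : G, orderOf x = 2 ∧ orderOf y = 2 ∧ ¬ IsConj x y) : F.Core ∨ F.shift.Core := by
  haveI : Fact (Nat.Prime 2) := ⟨Nat.prime_two⟩
  have hzu : IsConj F.z F.u := isConj_iff.2 ⟨h, H.hz⟩
  obtain ⟨-, -, hp0, ha0, has0, hr0⟩ := W12.s_maps
  have hs0 : W12.Inv2 W12.gs := W12.s_maps.2.1
  -- `p` and `r` are fused by the turn
  have hpr : F.Rel W12.gp W12.gr := by
    obtain ⟨w, hw, e, hi⟩ := F.act_spec H.mem (show W12.InX W12.gp by decide +kernel)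
    have hh : F.act h (W12.idx W12.gp) ≠ W12.idx W12.gp := by
      intro e1
      obtain ⟨h3, h1⟩ := H.toTurn0.perm
      have h0 : F.act h 0 = 0 := by
        obtain ⟨w0, hw0, e0, hi0⟩ := F.act_spec H.mem (show W12.InX W12.ga by decide +kernel)
        rw [show h * F.hom W12.ga * h⁻¹ = F.hom W12.ga from mul_inv_eq_iff_eq_mul.2 H.ha.eq] at e0
        rw [F.hom_injective e0, W12.idx_small.1] at hi0
        exact hi0.symm
      rw [W12.idx_small.2.1] at e1
      refine h1 (Equiv.ext fun c => ?_)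
      rcases W12.perm_fixed (F.rho ⟨h, H.mem⟩) h3 h0 with e | e
      · exact absurd e1 e
      · exact e c
    rcases W12.C4_cases (W12.idx w) with hj | hj | hj | hj
    · exfalso
      obtain ⟨w0, hw0, e0, hi0⟩ := F.act_spec H.mem (show W12.InX W12.ga by decide +kernel)
      rw [show h * F.hom W12.ga * h⁻¹ = F.hom W12.ga from mul_inv_eq_iff_eq_mul.2 H.ha.eq] at e0
      rw [F.hom_injective e0, W12.idx_small.1] at hi0
      have hinj : (F.rho ⟨h, H.mem⟩) (W12.idx W12.gp) = (F.rho ⟨h, H.mem⟩) 0 := by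
        rw [F.rho_apply, F.rho_apply]
        exact hi.symm.trans (hj.trans hi0)
      exact W12.idx_gp_ne ((F.rho ⟨h, H.mem⟩).injective hinj)
    · exact absurd (hi.symm.trans (hj.trans W12.idx_small.2.1.symm)) hh
    all_goals
      have h' : F.Rel W12.gp w := isConj_iff.2 ⟨h, e.symm⟩
      obtain ⟨c, hc⟩ := W12.R_conj w ⟨hw, by simp [hj]⟩
      exact h'.trans (F.rel_conj hc)
  -- an involution not fused to the centre
  have key : ¬ (F.Rel W12.gz W12.gp ∧ F.Rel W12.gz W12.ga) := by
    rintro ⟨hp, ha⟩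
    have hs : F.Rel W12.gz W12.gs := by
      rcases F.fuse_three h2 hzu hs0 with h | h | h
      exacts [h, hp.trans h, ha.trans h]
    have has : F.Rel W12.gz W12.gas := by
      rcases F.fuse_three h2 hzu has0 with h | h | h
      exacts [h, hp.trans h, ha.trans h]
    obtain ⟨x, y, hx, hy, hne⟩ := htwo
    have hall : ∀ v : G, orderOf v = 2 → IsConj F.z v := by
      intro v hv
      obtain ⟨r, hr, hvr⟩ := F.rel_reps hzu hv
      simp only [List.mem_cons, List.not_mem_nil, or_false] at hr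
      rcases hr with rfl | rfl | rfl | rfl | rfl | rfl
      exacts [hvr.symm, hp.trans hvr.symm, (hp.trans hpr).trans hvr.symm, ha.trans hvr.symm, hs.trans hvr.symm,
        has.trans hvr.symm]
    exact hne ((hall x hx).symm.trans (hall y hy))
  by_cases hp : F.Rel W12.gz W12.gp
  · have hna : ¬ F.Rel W12.gz W12.ga := fun ha => key ⟨hp, ha⟩
    exact Or.inl ⟨⟨h, H.toTurn0⟩, hp, hna, ((F.fuse_two h2 hzu ha0).resolve_left hna).symm,
      ((F.fuse_one h2 hzu ha0).resolve_left hna).symm, Or.inl (hp.trans hpr)⟩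
  · have hps : F.Rel W12.gs W12.gp := (F.fuse_two h2 hzu hp0).resolve_left hp
    have hpas : F.Rel W12.gas W12.gp := (F.fuse_one h2 hzu hp0).resolve_left hp
    have ha : F.Rel W12.gz W12.ga := by
      by_contra hna
      have hsa : F.Rel W12.gs W12.ga := (F.fuse_two h2 hzu ha0).resolve_left hna
      -- the Sylow subgroup of `C(s)` has one involution of the class of `z`, that of `C(p)` three
      have hcls : ∀ v, W12.Inv2 v → v * W12.gs = W12.gs * v → F.Rel W12.gz v → v = W12.gz := by
        intro v hv hvs hvz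
        rcases W12.cent_s_z v hvs hv with h | ⟨c, hc⟩
        · exact h
        exfalso
        have h' := hvz.trans (F.rel_conj (c := c) (w := v) rfl)
        simp only [List.mem_cons, List.not_mem_nil, or_false] at hc
        rcases hc with e | e | e | e <;> rw [e] at h'
        exacts [hp h', hna h', hp (h'.trans hps), hp (h'.trans hpas)]
      set C := centralizer ({F.hom W12.gs} : Set G) with hC
      set R0 := (F.T : Subgroup G) ⊓ C with hR0
      haveI : Fintype R0 := Fintype.ofFinite _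
      have hR016 : 16 ≤ Nat.card R0 := by
        rw [← W12.s_card.1, ← Nat.card_eq_finsetCard]
        exact Nat.card_le_card_of_injective (fun v => ⟨F.hom v.1, F.hom_mem _,
          mem_centralizer_singleton_iff.2 (F.hom_commute.2 (Finset.mem_filter.1 v.2).2).eq⟩)
          fun v v' e => Subtype.ext (F.hom_injective (congrArg (fun x : R0 => (x : G)) e))
      obtain ⟨P, hP⟩ := ((F.T.2.to_le (inf_le_left : R0 ≤ _)).of_equiv
        (subgroupOfEquivOfLe (inf_le_right : R0 ≤ C)).symm).exists_le_sylow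
      obtain ⟨k, hk⟩ := exists_conj_le_sylow (P.2.map C.subtype) F.T
      obtain ⟨y, hy⟩ := F.exists_of_mem (hk (F.hom W12.gs) ⟨⟨_, mem_centralizer_singleton_iff.2 rfl⟩,
        hP (show _ ∈ R0.subgroupOf C from ⟨F.hom_mem _, mem_centralizer_singleton_iff.2 rfl⟩), rfl⟩)
      have hyi : W12.Inv2 y := F.hom_invol.1 (hy ▸ invol_conj (F.hom_invol.2 hs0) k)
      have hyz : ¬ F.Rel W12.gz y := fun h' => hp ((h'.trans (isConj_iff.2 ⟨k, hy.symm⟩).symm).trans hps)
      have hle : conjBy k ((P : Subgroup C).map C.subtype) ≤ (F.T : Subgroup G) := by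
        rintro _ ⟨x, hx, rfl⟩; exact hk x hx
      have hP16 : Nat.card ((P : Subgroup C).map C.subtype) ≤ 16 := by
        rw [← CfsgLib.Coprime.card_conjBy k]
        refine (F.card_le_of_central hle (y := y) ?_).trans (W12.small_cent y hyi (fun e => hyz (e ▸ .refl _))
          (fun e => hyz (e ▸ hzu)) (fun e => hyz (e ▸ (show F.Rel W12.gz W12.gu from hzu).trans F.rel_s)))
        rintro _ ⟨_, ⟨x, hx, rfl⟩, rfl⟩
        rw [hy]
        exact Commute.map (show Commute (x : G) (F.hom W12.gs) from mem_centralizer_singleton_iff.1 x.2)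
          (MulAut.conj k).toMonoidHom
      have hPR : (P : Subgroup C).map C.subtype = R0 := by
        refine (eq_of_le_of_card_ge ?_ (hP16.trans hR016)).symm
        intro x hx
        exact ⟨⟨x, hx.2⟩, hP hx, rfl⟩
      obtain ⟨g, hg⟩ := isConj_iff.1 hps.symm
      obtain ⟨c, hc⟩ := exists_conj_le_sylow (G := C)
        (Q := (conjBy g ((F.T : Subgroup G) ⊓ centralizer ({F.hom W12.gp} : Set G))).subgroupOf C)
        (((F.T.2.to_le inf_le_left).map _).of_equiv (subgroupOfEquivOfLe (by
          rintro _ ⟨x, hx, rfl⟩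
          refine mem_centralizer_singleton_iff.2 ?_
          rw [← hg]
          exact (Commute.map (show Commute x (F.hom W12.gp) from mem_centralizer_singleton_iff.1 hx.2)
            (MulAut.conj g).toMonoidHom).eq)).symm) P
      have himg : ∀ v : W12, v * W12.gp = W12.gp * v → F.Rel W12.gz v → W12.Inv2 v →
          (c : G) * (g * F.hom v * g⁻¹) * (c : G)⁻¹ = F.z := by
        intro v hv hvz hvi
        have hin : g * F.hom v * g⁻¹ ∈ C := mem_centralizer_singleton_iff.2 (by
          rw [← hg]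
          exact (Commute.map (F.hom_commute.2 hv) (MulAut.conj g).toMonoidHom).eq)
        have hm : (c : G) * (g * F.hom v * g⁻¹) * (c : G)⁻¹ ∈ R0 := by
          rw [← hPR]
          exact ⟨_, hc ⟨_, hin⟩ ⟨F.hom v, ⟨F.hom_mem v, mem_centralizer_singleton_iff.2 (F.hom_commute.2 hv).eq⟩, rfl⟩,
            rfl⟩
        obtain ⟨v', hv'⟩ := F.exists_of_mem hm.1
        rw [← hv'] at hm ⊢
        have hv'i : W12.Inv2 v' := F.hom_invol.1 (hv' ▸ invol_conj (invol_conj (F.hom_invol.2 hvi) g) _)
        rw [hcls v' hv'i (F.hom_commute.1 (mem_centralizer_singleton_iff.1 hm.2))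
          (hvz.trans (isConj_iff.2 ⟨(c : G) * g, by rw [hv']; group⟩))]
        rfl
      have h1 := himg W12.gu W12.s_card.2.1 hzu (by decide +kernel)
      have h2' := himg W12.gz W12.s_card.2.2 (.refl _) (by decide +kernel)
      exact absurd (F.hom_injective (mul_left_cancel (mul_right_cancel
        (mul_left_cancel (mul_right_cancel (h1.trans h2'.symm)))))) (by decide +kernel)
    obtain ⟨⟨c1, hc1⟩, hss, -, hsz, -, hsa, ⟨c3, hc3⟩, ⟨c4, hc4⟩⟩ := W12.shift_reps
    refine Or.inr ⟨⟨h, H.toTurn0.shift⟩, ?_, ?_, ?_, ?_, Or.inr ?_⟩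
    · show IsConj (F.shift.hom W12.gz) (F.shift.hom W12.gp)
      rw [F.shift_hom, F.shift_hom, hsz]
      exact ha.trans (F.rel_conj hc1).symm
    · show ¬ IsConj (F.shift.hom W12.gz) (F.shift.hom W12.ga)
      rw [F.shift_hom, F.shift_hom, hsz, hsa]
      exact hp
    · show IsConj (F.shift.hom W12.ga) (F.shift.hom W12.gs)
      rw [F.shift_hom, F.shift_hom, hsa, hss]
      exact hps.symm
    · show IsConj (F.shift.hom W12.ga) (F.shift.hom W12.gas)
      rw [F.shift_hom, F.shift_hom, hsa]
      exact hpas.symm.trans (F.rel_conj hc3).symm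
    · show IsConj (F.shift.hom W12.ga) (F.shift.hom W12.gr)
      rw [F.shift_hom, F.shift_hom, hsa]
      exact hpr.trans (F.rel_conj hc4).symm

end Frame

end CfsgLib.Invol.MTwelveType
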