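import Cfsg.Agent.Lib.Invol.MTwelveType.Model
import Cfsg.Agent.Lib.Invol.Basic
import Cfsg.Agent.Lib.ProdFusion.OddQuot
import Cfsg.Prelude.Def_Transfer
import Cfsg.Agent.Lib.Coprime.Core

/-!
# Coordinates on a Sylow two-subgroup of type `M₁₂`
-/

set_option autoImplicit false
set_option linter.unusedSectionVars false
set_option linter.style.haveILetI false

namespace CfsgLib.Invol.MTwelveType

open Subgroup
open CfsgLib.Invol
open CfsgLib.Coprime (conjBy mem_conjBy)
open CfsgLib.ProdFusion (OC OC_le odd_card_OC)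

universe u

variable {G : Type u} [Group G] [Finite G]

/-- coordinates on a Sylow subgroup -/
structure Frame (G : Type u) [Group G] where
  /-- the Sylow subgroup -/
  T : Sylow 2 G
  /-- the coordinates -/
  e : W12 ≃* (T : Subgroup G)

/-- the frame with the two normal elementary subgroups of rank three meeting `x` exchanged -/
noncomputable def Frame.shift (F : Frame G) : Frame G := ⟨F.T, W12.shiftEquiv.trans F.e⟩

namespace Frame

variable (F : Frame G)

/-- the coordinates as a homomorphism -/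
def hom : W12 →* G := (F.T : Subgroup G).subtype.comp F.e.toMonoidHom

/-- the centraliser of `u` in the Sylow subgroup -/
def M5 : Subgroup G := W12.subM.map F.hom

/-- the extraspecial subgroup -/
def Q : Subgroup G := W12.subQ.map F.hom

/-- the pure elementary subgroup -/
def E0 : Subgroup G := W12.subE0.map F.hom

/-- the mixed elementary subgroup -/
def E1 : Subgroup G := W12.subE1.map F.hom

/-- a third elementary subgroup -/
def ER : Subgroup G := W12.subER.map F.hom

/-- the four group -/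
def V : Subgroup G := W12.subV.map F.hom

/-- the central involution -/
def z : G := F.hom W12.gz

/-- an involution with centraliser of order thirty-two in the Sylow subgroup -/
def u : G := F.hom W12.gu

/-- an involution of the other class -/
def a : G := F.hom W12.ga

/-- its centraliser -/
abbrev Cz : Subgroup G := centralizer ({F.z} : Set G)

/-- the odd core of a centraliser -/
abbrev θ (a : G) : Subgroup G := OC (centralizer ({a} : Set G))

theorem shift_hom (w : W12) : F.shift.hom w = F.hom (W12.shift w) := rfl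

theorem hom_injective : Function.Injective F.hom := Subtype.val_injective.comp F.e.injective

theorem hom_mem (w : W12) : F.hom w ∈ (F.T : Subgroup G) := (F.e w).2

theorem exists_of_mem {x : G} (hx : x ∈ (F.T : Subgroup G)) : ∃ w, F.hom w = x :=
  ⟨F.e.symm ⟨x, hx⟩, congrArg Subtype.val (F.e.apply_symm_apply ⟨x, hx⟩)⟩

theorem hom_eq_one {w : W12} : F.hom w = 1 ↔ w = 1 :=
  ⟨fun h => F.hom_injective (h.trans (map_one _).symm), fun h => by rw [h, map_one]⟩

theorem hom_commute {v w : W12} : Commute (F.hom v) (F.hom w) ↔ v * w = w * v :=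
  ⟨fun h => F.hom_injective (by rw [map_mul, map_mul]; exact h.eq), fun h => by
    show F.hom v * F.hom w = F.hom w * F.hom v
    rw [← map_mul, h, map_mul]⟩

theorem hom_invol {w : W12} : orderOf (F.hom w) = 2 ↔ W12.Inv2 w := by
  rw [invol_iff, ← map_mul, F.hom_eq_one, ne_eq, F.hom_eq_one]
  exact and_comm

theorem hom_conj (v w : W12) : F.hom v * F.hom w * (F.hom v)⁻¹ = F.hom (v * w * v⁻¹) := by
  rw [map_mul, map_mul, map_inv]

theorem isConj_hom {v w c : W12} (h : c * v * c⁻¹ = w) : IsConj (F.hom v) (F.hom w) :=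
  isConj_iff.2 ⟨F.hom c, by rw [F.hom_conj, h]⟩

theorem mem_M5 {w : W12} : F.hom w ∈ F.M5 ↔ w ∈ W12.subM := mem_map_iff_mem F.hom_injective
theorem mem_Q {w : W12} : F.hom w ∈ F.Q ↔ w ∈ W12.subQ := mem_map_iff_mem F.hom_injective
theorem mem_E0 {w : W12} : F.hom w ∈ F.E0 ↔ w ∈ W12.subE0 := mem_map_iff_mem F.hom_injective
theorem mem_E1 {w : W12} : F.hom w ∈ F.E1 ↔ w ∈ W12.subE1 := mem_map_iff_mem F.hom_injective
theorem mem_ER {w : W12} : F.hom w ∈ F.ER ↔ w ∈ W12.subER := mem_map_iff_mem F.hom_injective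
theorem mem_V {w : W12} : F.hom w ∈ F.V ↔ w ∈ W12.subV := mem_map_iff_mem F.hom_injective

theorem map_le_T (H : Subgroup W12) : H.map F.hom ≤ (F.T : Subgroup G) := by
  rintro _ ⟨w, -, rfl⟩; exact F.hom_mem w

theorem M5_le : F.M5 ≤ (F.T : Subgroup G) := F.map_le_T _
theorem Q_le : F.Q ≤ (F.T : Subgroup G) := F.map_le_T _
theorem E0_le : F.E0 ≤ (F.T : Subgroup G) := F.map_le_T _
theorem E1_le : F.E1 ≤ (F.T : Subgroup G) := F.map_le_T _
theorem ER_le : F.ER ≤ (F.T : Subgroup G) := F.map_le_T _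
theorem V_le : F.V ≤ (F.T : Subgroup G) := F.map_le_T _

theorem card_T : Nat.card (F.T : Subgroup G) = 64 := by
  rw [← Nat.card_congr F.e.toEquiv, Nat.card_eq_fintype_card, W12.card_W12]

theorem card_map (H : Subgroup W12) [DecidablePred (· ∈ H)] :
    Nat.card (H.map F.hom) = (Finset.univ.filter (· ∈ H)).card := by
  rw [card_map_of_injective F.hom_injective, ← Nat.card_eq_finsetCard]
  exact Nat.card_congr (Equiv.subtypeEquivRight fun w => by simp)

theorem card_M5 : Nat.card F.M5 = 32 := (F.card_map _).trans (by decide +kernel)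
theorem card_Q : Nat.card F.Q = 32 := (F.card_map _).trans (by decide +kernel)
theorem card_E0 : Nat.card F.E0 = 8 := (F.card_map _).trans (by decide +kernel)
theorem card_E1 : Nat.card F.E1 = 8 := (F.card_map _).trans (by decide +kernel)
theorem card_ER : Nat.card F.ER = 8 := (F.card_map _).trans (by decide +kernel)
theorem card_V : Nat.card F.V = 4 := (F.card_map _).trans (by decide +kernel)

theorem z_central {t : G} (ht : t ∈ (F.T : Subgroup G)) : t * F.z = F.z * t := by
  obtain ⟨w, rfl⟩ := F.exists_of_mem ht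
  exact (F.hom_commute.2 (W12.gz_central w)).eq

theorem T_le_Cz : (F.T : Subgroup G) ≤ F.Cz := fun _ ht => mem_centralizer_singleton_iff.2 (F.z_central ht)

theorem z_ord : orderOf F.z = 2 := F.hom_invol.2 (by decide)
theorem u_ord : orderOf F.u = 2 := F.hom_invol.2 (by decide)
theorem a_ord : orderOf F.a = 2 := F.hom_invol.2 (by decide)

theorem conjBy_map {v : W12} {H K : Subgroup W12} (h : ∀ w, w ∈ H ↔ v * w * v⁻¹ ∈ K) :
    conjBy (F.hom v) (H.map F.hom) = K.map F.hom := by
  refine le_antisymm ?_ ?_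
  · rintro _ ⟨_, ⟨w, hw, rfl⟩, rfl⟩
    exact ⟨_, (h w).1 hw, (F.hom_conj v w).symm⟩
  · rintro _ ⟨k, hk, rfl⟩
    refine mem_conjBy.2 ⟨v⁻¹ * k * v, (h _).2 (by simpa [mul_assoc] using hk), ?_⟩
    simp [map_mul, map_inv, mul_assoc]

theorem conj_mem_map {v w : W12} {H : Subgroup W12} (h : v * w * v⁻¹ ∈ H) :
    F.hom v * F.hom w * (F.hom v)⁻¹ ∈ H.map F.hom := ⟨_, h, (F.hom_conj v w).symm⟩

/-- a Sylow subgroup of a subgroup containing a given two-subgroup -/
theorem exists_conj_into {R C : Subgroup G} (hR : R ≤ C) (h2 : IsPGroup 2 R)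
    {P : Subgroup G} (hP : P ≤ C) (hP2 : IsPGroup 2 P) (hidx : ¬ 2 ∣ (P.subgroupOf C).index) :
    ∃ c ∈ C, ∀ r ∈ R, c * r * c⁻¹ ∈ P := by
  haveI : Fact (Nat.Prime 2) := ⟨Nat.prime_two⟩
  obtain ⟨c, hc⟩ := exists_conj_le_sylow (h2.of_equiv (subgroupOfEquivOfLe hR).symm)
    ((hP2.of_equiv (subgroupOfEquivOfLe hP).symm).toSylow hidx)
  exact ⟨c, c.2, fun r hr => hc ⟨r, hR hr⟩ hr⟩

theorem not_dvd_index_sub {C : Subgroup G} (hC : (F.T : Subgroup G) ≤ C) :
    ¬ 2 ∣ ((F.T : Subgroup G).subgroupOf C).index := fun h => F.T.not_dvd_index (h.trans (by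
  rw [← (F.T : Subgroup G).relIndex_mul_index hC]
  exact dvd_mul_right _ _))

/-- two-subgroups of the centraliser of `z` can be moved into the Sylow subgroup inside it -/
theorem into_T_Cz {R : Subgroup G} (hR : R ≤ F.Cz) (h2 : IsPGroup 2 R) :
    ∃ c ∈ F.Cz, ∀ r ∈ R, c * r * c⁻¹ ∈ (F.T : Subgroup G) :=
  exists_conj_into hR h2 F.T_le_Cz F.T.2 (F.not_dvd_index_sub F.T_le_Cz)

/-- conjugates of the central involution are moved back with their centraliser in the Sylow subgroup -/
theorem exists_back {x : G} (h : IsConj F.z x) {R : Subgroup G} (hR : R ≤ centralizer ({x} : Set G))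
    (h2 : IsPGroup 2 R) : ∃ g : G, g * x * g⁻¹ = F.z ∧ ∀ r ∈ R, g * r * g⁻¹ ∈ (F.T : Subgroup G) := by
  obtain ⟨k, hk⟩ := isConj_iff.1 h
  have hle : conjBy k⁻¹ R ≤ F.Cz := by
    rintro _ ⟨r, hr, rfl⟩
    refine mem_centralizer_singleton_iff.2 ?_
    have hc := mem_centralizer_singleton_iff.1 (hR hr)
    show k⁻¹ * r * k⁻¹⁻¹ * F.z = F.z * (k⁻¹ * r * k⁻¹⁻¹)
    rw [← hk] at hc
    calc k⁻¹ * r * k⁻¹⁻¹ * F.z = k⁻¹ * (r * (k * F.z * k⁻¹)) * k := by group
      _ = k⁻¹ * (k * F.z * k⁻¹ * r) * k := by rw [hc]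
      _ = _ := by group
  obtain ⟨c, hc, hcR⟩ := F.into_T_Cz hle (h2.map _)
  refine ⟨c * k⁻¹, ?_, fun r hr => ?_⟩
  · rw [← hk]
    calc c * k⁻¹ * (k * F.z * k⁻¹) * (c * k⁻¹)⁻¹ = c * F.z * c⁻¹ := by group
      _ = F.z := by rw [mem_centralizer_singleton_iff.1 hc, mul_inv_cancel_right]
  · have := hcR _ ⟨r, hr, rfl⟩
    show c * k⁻¹ * r * (c * k⁻¹)⁻¹ ∈ (F.T : Subgroup G)
    simpa [mul_assoc] using this

/-- the image of an involution under conjugation is the image of an involution -/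
theorem exists_of_conj {g : G} {w : W12} (h : g * F.hom w * g⁻¹ ∈ (F.T : Subgroup G)) :
    ∃ w' : W12, F.hom w' = g * F.hom w * g⁻¹ ∧ (w' * w' = 1 ↔ w * w = 1) ∧ (w' = 1 ↔ w = 1) := by
  obtain ⟨w', hw'⟩ := F.exists_of_mem h
  refine ⟨w', hw', ?_, ?_⟩
  · rw [← F.hom_eq_one (w := w' * w'), ← F.hom_eq_one (w := w * w), map_mul, map_mul, hw',
      show g * F.hom w * g⁻¹ * (g * F.hom w * g⁻¹) = g * (F.hom w * F.hom w) * g⁻¹ by group, conj_eq_one_iff]
  · rw [← F.hom_eq_one (w := w'), ← F.hom_eq_one (w := w), hw', conj_eq_one_iff]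

end Frame

end CfsgLib.Invol.MTwelveType
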