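import Cfsg.Agent.Lib.Invol.MTwelveType.Local
import Cfsg.Agent.Lib.Invol.EightTypeThree.Local
import Cfsg.Agent.Lib.Fusion.Tate

/-!
# The centraliser of `z` is its odd core times the normaliser of the extraspecial subgroup
-/

set_option autoImplicit false
set_option linter.unusedSectionVars false
set_option linter.style.haveILetI false
set_option maxRecDepth 10000

namespace CfsgLib.Invol.MTwelveType

open Subgroup
open CfsgLib.Invol
open CfsgLib.ProdFusion (OC OC_le OC_le_OC odd_card_OC le_OC le_normalizer_OC le_normalizer_OC_self)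
open CfsgLib.Coprime (conjBy mem_conjBy conjBy_eq_self_iff)

universe u

namespace W12

theorem central_facts : gu ∈ subQ ∧ ga ∈ subQ ∧ gu ≠ 1 ∧ gu ≠ gz ∧ ga ≠ 1 ∧ ga ≠ gz ∧
    (∃ c d : W12, c * d * c⁻¹ * d⁻¹ = gz) ∧ gu' = gu * gz := by decide +kernel
theorem ga_z : ∃ c, c * (ga * gz) * c⁻¹ ∈ [ga, gs, gas] := by decide +kernel
theorem sq_Q : ∀ w : W12, w ∈ subQ → w * w = 1 ∨ w * w = gz := by decide +kernel

end W12

variable {G : Type u} [Group G] [Finite G]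

namespace Frame

variable (F : Frame G)

theorem mem_zz {x : G} : x ∈ zpowers F.z ↔ x = 1 ∨ x = F.z := by
  constructor
  · intro h
    obtain ⟨k, rfl⟩ := mem_zpowers_iff.1 h
    rw [zpow_eq_zpow_emod' k (pow_orderOf_eq_one F.z), F.z_ord]
    have h1 : k % ((2 : ℕ) : ℤ) = 0 ∨ k % ((2 : ℕ) : ℤ) = 1 := Int.emod_two_eq_zero_or_one k
    rcases h1 with e | e <;> rw [e]
    exacts [Or.inl (zpow_zero _), Or.inr (zpow_one _)]
  · rintro (rfl | rfl)
    exacts [one_mem _, mem_zpowers _]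

theorem card_zz : Nat.card (zpowers F.z) = 2 := by rw [Nat.card_zpowers, F.z_ord]

theorem zz_le_Q : zpowers F.z ≤ F.Q := zpowers_le.2 F.z_mem_Q

/-- the centraliser of `E0` -/
abbrev CE : Subgroup G := centralizer (F.E0 : Set G)

theorem CE_le_Cz : F.CE ≤ F.Cz := centralizer_le (Set.singleton_subset_iff.2 F.z_mem_E0)

theorem norm_CE : normalizer (F.E0 : Set G) ≤ normalizer (F.CE : Set G) := fun n hn => by
  refine CfsgLib.ProdFusion.mem_of_forall_conj_mem fun c hc => mem_centralizer_iff.2 fun x hx => ?_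
  have hx' : n⁻¹ * x * n⁻¹⁻¹ ∈ F.E0 := (mem_normalizer_iff.1 (inv_mem hn) x).1 hx
  have h := mem_centralizer_iff.1 hc _ hx'
  calc x * (n * c * n⁻¹) = n * (n⁻¹ * x * n⁻¹⁻¹ * c) * n⁻¹ := by group
    _ = n * (c * (n⁻¹ * x * n⁻¹⁻¹)) * n⁻¹ := by rw [h]
    _ = n * c * n⁻¹ * x := by group

theorem E0_le_CE : F.E0 ≤ F.CE := fun x hx => mem_centralizer_iff.2 fun y hy => (F.comm_E0 hy hx).eq

/-- `E0` is a Sylow subgroup of its centraliser -/
theorem not_dvd_CE : ¬ 2 ∣ (F.E0.subgroupOf F.CE).index := by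
  haveI : Fact (Nat.Prime 2) := ⟨Nat.prime_two⟩
  have hCN : F.CE ≤ F.N0 := le_inf (fun c hc => CfsgLib.ProdFusion.mem_of_forall_conj_mem fun x hx => by
    rw [show c * x * c⁻¹ = x by rw [← mem_centralizer_iff.1 hc x hx, mul_inv_cancel_right]]
    exact hx) F.CE_le_Cz
  obtain ⟨P, hP⟩ := ((F.T.2.to_le F.E0_le).of_equiv (subgroupOfEquivOfLe F.E0_le_CE).symm).exists_le_sylow
  obtain ⟨d, hd, hdP⟩ := exists_conj_into (R := (P : Subgroup F.CE).map F.CE.subtype)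
    ((map_subtype_le _).trans hCN) (P.2.map _) F.T_le_N0 F.T.2 (F.not_dvd_index_sub F.T_le_N0)
  have hc : Nat.card ((P : Subgroup F.CE).map F.CE.subtype) ≤ 8 := by
    rw [← CfsgLib.Coprime.card_conjBy d, ← F.card_E0]
    refine Nat.le_of_dvd Nat.card_pos (card_dvd_of_le ?_)
    rintro _ ⟨x, hx, rfl⟩
    obtain ⟨w, hw⟩ := F.exists_of_mem (hdP x hx)
    show d * x * d⁻¹ ∈ F.E0
    have hk : d * x * d⁻¹ ∈ F.CE := (mem_normalizer_iff.1 (F.norm_CE hd.1) x).1 (map_subtype_le _ hx)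
    rw [← hw] at hk ⊢
    refine F.mem_E0.2 (W12.cent_E0 w ?_ ?_)
    · exact F.hom_commute.1 (mem_centralizer_iff.1 hk _ F.u_mem_E0).symm
    · exact F.hom_commute.1 (mem_centralizer_iff.1 hk _ (F.mem_E0.2 W12.E0_class.2.2.2.2.2.1)).symm
  have hPE : (P : Subgroup F.CE) = F.E0.subgroupOf F.CE := by
    refine (eq_of_le_of_card_ge hP ?_).symm
    rw [Nat.card_congr (subgroupOfEquivOfLe F.E0_le_CE).toEquiv, F.card_E0]
    rwa [card_map_of_injective F.CE.subtype_injective] at hc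
  exact hPE ▸ P.not_dvd_index

end Frame

namespace Frame.Core

variable {F : Frame G} (hC : F.Core)
include hC

/-- the index two subgroup of the centraliser of `z` with Sylow subgroup `Q` -/
theorem exists_half : ∃ H0 : Subgroup G, H0 ≤ F.Cz ∧ F.Cz ≤ normalizer (H0 : Set G) ∧ F.Q ≤ H0 ∧
    ¬ 2 ∣ (F.Q.subgroupOf H0).index ∧ ∀ g ∈ F.Cz, g ∈ H0 ∨ g * F.hom W12.gr ∈ H0 := by
  haveI : Fact (Nat.Prime 2) := ⟨Nat.prime_two⟩
  set P : Sylow 2 F.Cz := (F.T.2.of_equiv (subgroupOfEquivOfLe F.T_le_Cz).symm).toSylow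
    (F.not_dvd_index_sub F.T_le_Cz) with hPdef
  have hQT : F.Q.relIndex (F.T : Subgroup G) = 2 := by
    have h := (F.Q.subgroupOf (F.T : Subgroup G)).card_mul_index
    rw [Nat.card_congr (subgroupOfEquivOfLe F.Q_le).toEquiv, F.card_Q, F.card_T] at h
    show (F.Q.subgroupOf (F.T : Subgroup G)).index = 2
    omega
  have hrel : (F.Q.subgroupOf F.Cz).relIndex (P : Subgroup F.Cz) = 2 := by
    show (F.Q.subgroupOf F.Cz).relIndex ((F.T : Subgroup G).subgroupOf F.Cz) = 2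
    rw [relIndex_subgroupOf F.T_le_Cz, hQT]
  have hrC : F.hom W12.gr ∈ F.Cz := F.T_le_Cz (F.hom_mem _)
  have hr2 : (⟨F.hom W12.gr, hrC⟩ : F.Cz) ^ 2 = 1 := Subtype.ext (by
    push_cast
    rw [pow_two, ← map_mul, W12.s_maps.2.2.2.2.2.2, map_one])
  obtain ⟨M, hMn, hM2, hrM⟩ := CfsgLib.Fusion.thompson_transfer P (comap_mono F.Q_le) hrel hr2
    (fun g hg => hC.r_not_Q g.2 (by simpa [mem_subgroupOf] using hg))
  set H0 : Subgroup G := M.map F.Cz.subtype with hH0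
  have hH0le : H0 ≤ F.Cz := map_subtype_le _
  have hH0n : F.Cz ≤ normalizer (H0 : Set G) := fun c hc => by
    refine CfsgLib.ProdFusion.mem_of_forall_conj_mem ?_
    rintro _ ⟨x, hx, rfl⟩
    exact ⟨⟨c, hc⟩ * x * ⟨c, hc⟩⁻¹, hMn.conj_mem x hx _, rfl⟩
  have hmem : ∀ x : F.Cz, x ∈ M ↔ (x : G) ∈ H0 := fun x => (mem_map_iff_mem F.Cz.subtype_injective).symm
  have hcomm : ∀ x ∈ F.Cz, ∀ y ∈ F.Cz, x * y * x⁻¹ * y⁻¹ ∈ H0 := by
    intro x hx y hy
    rw [show x * y * x⁻¹ * y⁻¹ = (((⟨x, hx⟩ : F.Cz) * ⟨y, hy⟩ * ⟨x, hx⟩⁻¹ * ⟨y, hy⟩⁻¹ : F.Cz) : G) from rfl,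
      ← hmem, mul_mem_iff_of_index_two hM2, mul_mem_iff_of_index_two hM2, mul_mem_iff_of_index_two hM2,
      inv_mem_iff, inv_mem_iff]
    tauto
  have hzH : F.z ∈ H0 := by
    obtain ⟨c, d, e⟩ := W12.central_facts.2.2.2.2.2.2.1
    rw [show F.z = F.hom (c * d * c⁻¹ * d⁻¹) by rw [e]; rfl, map_mul, map_mul, map_mul, map_inv, map_inv]
    exact hcomm _ (F.T_le_Cz (F.hom_mem c)) _ (F.T_le_Cz (F.hom_mem d))
  have hQH : F.Q ≤ H0 := by
    classical
    obtain ⟨n, hn, hr⟩ := hC.exists_rot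
    set f : F.Q → G := fun q => n * q * n⁻¹ * (q : G)⁻¹ with hf
    haveI : Fintype F.Q := Fintype.ofFinite _
    have hz : n * F.z * n⁻¹ = F.z := mul_inv_eq_iff_eq_mul.2 (mem_centralizer_singleton_iff.1 hn.2)
    have hfib : ∀ b ∈ (Finset.univ : Finset F.Q).image f,
        ((Finset.univ : Finset F.Q).filter fun q => f q = b).card ≤ 2 := by
      intro b hb
      obtain ⟨q0, -, rfl⟩ := Finset.mem_image.1 hb
      refine (Finset.card_le_card (t := {q0, q0 * ⟨F.z, F.z_mem_Q⟩}) ?_).trans Finset.card_le_two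
      intro q hq
      have hq' := (Finset.mem_filter.1 hq).2
      have e : n * ((q0 : G)⁻¹ * q) * n⁻¹ * ((q0 : G)⁻¹ * q)⁻¹ = 1 := by
        have h1 : n * (q : G) * n⁻¹ = n * (q0 : G) * n⁻¹ * (q0 : G)⁻¹ * q :=
          (mul_inv_eq_iff_eq_mul.1 hq').trans rfl
        calc _ = (n * (q0 : G) * n⁻¹)⁻¹ * (n * (q : G) * n⁻¹) * ((q0 : G)⁻¹ * q)⁻¹ := by group
          _ = 1 := by rw [h1]; group
      rcases hC.fpf hn hr (F.Q.mul_mem (F.Q.inv_mem q0.2) q.2) (Or.inl e) with h | h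
      · rw [Finset.mem_insert]
        exact Or.inl (Subtype.ext (inv_mul_eq_one.1 h).symm)
      · rw [Finset.mem_insert, Finset.mem_singleton]
        exact Or.inr (Subtype.ext (inv_mul_eq_iff_eq_mul.1 h))
    have hsub : (Finset.univ : Finset F.Q).image f ⊆
        ((Set.toFinite ((H0 ⊓ F.Q : Subgroup G) : Set G)).toFinset).erase F.z := by
      intro b hb
      obtain ⟨q, -, rfl⟩ := Finset.mem_image.1 hb
      refine Finset.mem_erase.2 ⟨fun e => ?_, (Set.Finite.mem_toFinset _).2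
        ⟨hcomm n hn.2 _ (F.T_le_Cz (F.Q_le q.2)),
          F.Q.mul_mem ((mem_normalizer_iff.1 hn.1 _).1 q.2) (F.Q.inv_mem q.2)⟩⟩
      rcases hC.fpf hn hr q.2 (Or.inr e) with h | h <;> rw [hf] at e <;> simp only [h] at e
      · simp only [mul_one, mul_inv_cancel, inv_one, one_mul] at e
        exact invol_ne_one F.z_ord e.symm
      · rw [hz, mul_inv_cancel] at e
        exact invol_ne_one F.z_ord e.symm
    have h1 := Finset.card_le_mul_card_image (Finset.univ : Finset F.Q) 2 hfib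
    have h2 := Finset.card_le_card hsub
    have hz' : F.z ∈ (Set.toFinite ((H0 ⊓ F.Q : Subgroup G) : Set G)).toFinset :=
      (Set.Finite.mem_toFinset _).2 ⟨hzH, F.z_mem_Q⟩
    have hJ : (Set.toFinite ((H0 ⊓ F.Q : Subgroup G) : Set G)).toFinset.card = Nat.card (H0 ⊓ F.Q : Subgroup G) := by
      rw [← Set.ncard_eq_toFinset_card _ _, ← Nat.card_coe_set_eq]
      rfl
    rw [Finset.card_erase_of_mem hz', hJ] at h2
    rw [Finset.card_univ, ← Nat.card_eq_fintype_card, F.card_Q] at h1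
    have h3 : Nat.card (H0 ⊓ F.Q : Subgroup G) ∣ 32 := F.card_Q ▸ card_dvd_of_le inf_le_right
    have h4 : Nat.card (H0 ⊓ F.Q : Subgroup G) ≥ 17 := by omega
    have h5 : (H0 ⊓ F.Q : Subgroup G) = F.Q := eq_of_le_of_card_ge inf_le_right (by
      rw [F.card_Q]
      obtain ⟨c, hc⟩ := h3
      rcases Nat.lt_or_ge c 2 with hc2 | hc2
      · interval_cases c <;> omega
      · have := Nat.mul_le_mul_left (Nat.card (H0 ⊓ F.Q : Subgroup G)) hc2
        omega)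
    exact h5 ▸ inf_le_left
  refine ⟨H0, hH0le, hH0n, hQH, ?_, fun g hg => ?_⟩
  · have hH2 : H0.relIndex F.Cz = 2 := by
      show (H0.subgroupOf F.Cz).index = 2
      rw [hH0, subgroupOf, comap_map_eq_self_of_injective F.Cz.subtype_injective]
      exact hM2
    have h1 := relIndex_mul_relIndex _ _ _ hQH hH0le
    rw [← relIndex_mul_relIndex _ _ _ F.Q_le F.T_le_Cz, hH2, hQT] at h1
    have h2 : ¬ 2 ∣ (F.T : Subgroup G).relIndex F.Cz := F.not_dvd_index_sub F.T_le_Cz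
    show ¬ 2 ∣ F.Q.relIndex H0
    rwa [show F.Q.relIndex H0 = (F.T : Subgroup G).relIndex F.Cz by omega]
  · by_cases h : g ∈ H0
    · exact Or.inl h
    · refine Or.inr ?_
      rw [show g * F.hom W12.gr = (((⟨g, hg⟩ : F.Cz) * ⟨F.hom W12.gr, hrC⟩ : F.Cz) : G) from rfl, ← hmem,
        mul_mem_iff_of_index_two hM2]
      exact iff_of_false (fun h' => h ((hmem _).1 h')) hrM

/-- the factorisation in the index two subgroup -/
theorem half_factor {H0 : Subgroup G} (hle : H0 ≤ F.Cz) (hn0 : F.Cz ≤ normalizer (H0 : Set G)) (hQH : F.Q ≤ H0)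
    (hidxQ : ¬ 2 ∣ (F.Q.subgroupOf H0).index) {g : G} (hg : g ∈ H0) :
    ∃ o ∈ θ F.z, ∃ n ∈ normalizer (F.Q : Set G) ⊓ F.Cz, g = o * n := by
  haveI : Fact (Nat.Prime 2) := ⟨Nat.prime_two⟩
  set Zs := (zpowers F.z).subgroupOf H0 with hZs
  haveI hZn : Zs.Normal := ⟨fun a ha k => by
    rw [hZs, mem_subgroupOf] at ha ⊢
    push_cast
    have hk : ∀ y, y = 1 ∨ y = F.z → (k : G) * y * (k : G)⁻¹ = y := by
      rintro y (rfl | rfl)
      · group
      · exact mul_inv_eq_iff_eq_mul.2 (mem_centralizer_singleton_iff.1 (hle k.2))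
    rw [hk _ (F.mem_zz.1 ha)]
    exact ha⟩
  set q := QuotientGroup.mk' Zs with hq
  have hqs : Function.Surjective q := QuotientGroup.mk'_surjective Zs
  have hqk : ∀ a : H0, q a = 1 ↔ ((a : G) = 1 ∨ (a : G) = F.z) := fun a =>
    (QuotientGroup.eq_one_iff a).trans F.mem_zz
  set T' := F.Q.subgroupOf H0 with hT'
  have hZT : Zs ≤ T' := comap_mono F.zz_le_Q
  have hker : q.ker ≤ T' := by rw [hq, QuotientGroup.ker_mk']; exact hZT
  have hEidx : ¬ 2 ∣ (T'.map q).index := by rwa [index_map_eq T' hqs hker]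
  let E : Sylow 2 (H0 ⧸ Zs) := (((F.T.2.to_le F.Q_le).of_equiv (subgroupOfEquivOfLe hQH).symm).map q).toSylow hEidx
  have hEmem : ∀ a : H0, q a ∈ (E : Subgroup (H0 ⧸ Zs)) ↔ (a : G) ∈ F.Q := fun a => by
    show q a ∈ T'.map q ↔ _
    refine ⟨fun ⟨b, hb, hbe⟩ => ?_, fun h => ⟨a, h, rfl⟩⟩
    have h1 : b⁻¹ * a ∈ q.ker := by rw [MonoidHom.mem_ker, map_mul, map_inv, hbe, inv_mul_cancel]
    have h2 := T'.mul_mem hb (hker h1)
    rwa [mul_inv_cancel_left] at h2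
  have hsq : ∀ a ∈ (E : Subgroup (H0 ⧸ Zs)), a * a = 1 := by
    intro a ha
    obtain ⟨a, rfl⟩ := hqs a
    rw [← map_mul, hqk]
    obtain ⟨w, hw, e⟩ := (hEmem a).1 ha
    push_cast
    rw [← e, ← map_mul]
    rcases W12.sq_Q w hw with h | h <;> rw [h]
    exacts [Or.inl (map_one _), Or.inr rfl]
  have hE : Cfsg.IsElementaryAbelian 2 (E : Subgroup (H0 ⧸ Zs)) := by
    refine ⟨⟨⟨fun a b => Subtype.ext ?_⟩⟩, fun a ha => by rw [pow_two]; exact hsq a ha⟩
    have hi : ∀ c ∈ (E : Subgroup (H0 ⧸ Zs)), c⁻¹ = c := fun c hc => inv_eq_of_mul_eq_one_right (hsq c hc)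
    show (a : H0 ⧸ Zs) * b = b * a
    rw [← hi _ (mul_mem a.2 b.2), mul_inv_rev, hi _ a.2, hi _ b.2]
  have hE3 : 2 ^ 3 ≤ Nat.card (E : Subgroup (H0 ⧸ Zs)) := by
    show 2 ^ 3 ≤ Nat.card (T'.map q)
    have e1 : Nat.card (T'.map q) * Nat.card Zs = Nat.card T' := by
      have := (Zs.subgroupOf T').card_mul_index
      rw [Nat.card_congr (subgroupOfEquivOfLe hZT).toEquiv] at this
      rw [show Nat.card (T'.map q) = q.ker.relIndex T' from (Subgroup.relIndex_ker (K := T') q).symm,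
        hq, QuotientGroup.ker_mk', mul_comm]
      exact this
    rw [Nat.card_congr (subgroupOfEquivOfLe hQH).toEquiv, F.card_Q,
      Nat.card_congr (subgroupOfEquivOfLe (F.zz_le_Q.trans hQH)).toEquiv, F.card_zz] at e1
    omega
  have hnorm : ∀ a : H0, q a ∈ normalizer ((E : Subgroup (H0 ⧸ Zs)) : Set (H0 ⧸ Zs)) →
      (a : G) ∈ normalizer (F.Q : Set G) ⊓ F.Cz := fun a ha =>
    ⟨CfsgLib.ProdFusion.mem_of_forall_conj_mem fun t ht => by
      have h2 := (mem_normalizer_iff.1 ha _).1 ((hEmem ⟨t, hQH ht⟩).2 ht)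
      rw [← map_inv, ← map_mul, ← map_mul] at h2
      exact (hEmem _).1 h2, hle a.2⟩
  have hfix : ∀ e ∈ (E : Subgroup (H0 ⧸ Zs)), e ≠ 1 →
      ∀ n ∈ normalizer ((E : Subgroup (H0 ⧸ Zs)) : Set (H0 ⧸ Zs)),
      Odd (orderOf n) → Commute n e → n ∈ centralizer ((E : Subgroup (H0 ⧸ Zs)) : Set (H0 ⧸ Zs)) := by
    intro e he he1 n hn hno hne
    obtain ⟨h₀, rfl⟩ := hqs n
    obtain ⟨t, rfl⟩ := hqs e
    set a := (orderOf h₀).factorization 2
    have hr0 : orderOf h₀ ≠ 0 := (orderOf_pos h₀).ne'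
    set h := h₀ ^ 2 ^ a with hh
    have hho : Odd (orderOf (h : G)) := by
      rw [Subgroup.orderOf_coe, hh, orderOf_pow' _ (by positivity), Nat.gcd_eq_right (Nat.ordProj_dvd _ 2)]
      have := Nat.not_dvd_ordCompl Nat.prime_two hr0
      exact Nat.odd_iff.2 (by omega)
    have hhN : (h : G) ∈ normalizer (F.Q : Set G) ⊓ F.Cz := hnorm h (by rw [hh, map_pow]; exact pow_mem hn _)
    have hcomm : Commute (q h) (q t) := by rw [hh, map_pow]; exact hne.pow_left _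
    rcases F.rot_or_cent (hC.NQ_le_N0 hhN) hho with hrot | hcent
    · exfalso
      have h1 : q (h * t * h⁻¹ * t⁻¹) = 1 := by
        rw [map_mul, map_mul, map_mul, map_inv, map_inv, hcomm.eq, mul_inv_cancel_right, mul_inv_cancel]
      have h2 := (hqk _).1 h1
      push_cast at h2
      exact he1 ((hqk t).2 (hC.fpf hhN hrot ((hEmem t).1 he) h2))
    obtain ⟨b, hb'⟩ : ∃ b : ℤ, q h₀ = (q h) ^ b := by
      rw [hh, map_pow]
      have hcop : Nat.Coprime (2 ^ a) (orderOf (q h₀)) :=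
        (Nat.prime_two.coprime_iff_not_dvd.2 (fun h2 => Nat.not_even_iff_odd.2 hno (even_iff_two_dvd.2 h2))).pow_left a
      have hb := Nat.gcd_eq_gcd_ab (2 ^ a) (orderOf (q h₀))
      rw [hcop] at hb
      refine ⟨Nat.gcdA (2 ^ a) (orderOf (q h₀)), ?_⟩
      conv_lhs => rw [← zpow_one (q h₀), show (1 : ℤ) = ((1 : ℕ) : ℤ) from rfl, hb, zpow_add, zpow_mul (q h₀) ((orderOf (q h₀) : ℕ) : ℤ),
        zpow_natCast _ (orderOf (q h₀)), pow_orderOf_eq_one, one_zpow, mul_one, zpow_mul, zpow_natCast]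
    rw [hb']
    refine Subgroup.zpow_mem _ (mem_centralizer_iff.2 fun s hs => ?_) b
    obtain ⟨s, rfl⟩ := hqs s
    rw [← map_mul, ← map_mul]
    exact congrArg q (Subtype.ext (hC.cent_Q hhN hho hcent ((hEmem s).1 hs)).symm.eq)
  obtain ⟨hu, ha, hu1, huz, ha1, haz, -, -⟩ := W12.central_facts
  set a' : H0 := ⟨F.u, hQH (F.mem_Q.2 hu)⟩ with ha'
  set b' : H0 := ⟨F.a, hQH (F.mem_Q.2 ha)⟩ with hb'
  have ha'1 : q a' ≠ 1 := fun e => by
    rcases (hqk a').1 e with h | h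
    exacts [hu1 (F.hom_eq_one.1 h), huz (F.hom_injective h)]
  have hb'1 : q b' ≠ 1 := fun e => by
    rcases (hqk b').1 e with h | h
    exacts [ha1 (F.hom_eq_one.1 h), haz (F.hom_injective h)]
  have hab : ¬ IsConj (q a') (q b') := by
    intro hc
    obtain ⟨k, hk⟩ := isConj_iff.1 hc
    obtain ⟨k, rfl⟩ := hqs k
    have h1 : q (b'⁻¹ * (k * a' * k⁻¹)) = 1 := by
      rw [map_mul, map_mul, map_mul, map_inv, map_inv, hk, inv_mul_cancel]
    have h2 := (hqk _).1 h1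
    push_cast at h2
    rcases h2 with h | h
    · exact hC.na (hC.zu.trans (isConj_iff.2 ⟨k, (inv_mul_eq_one.1 h).symm⟩))
    · refine hC.not_z W12.ga_z (hC.zu.trans (isConj_iff.2 ⟨k, ?_⟩))
      rw [map_mul]
      exact inv_mul_eq_iff_eq_mul.1 h
  obtain ⟨o, ho, n, hn, he⟩ := CfsgLib.Invol.EightTypeThree.factor_of_abelian_sylow E hE hE3 hfix
    ((hEmem a').2 (F.mem_Q.2 hu)) ha'1 ((hEmem b').2 (F.mem_Q.2 ha)) hb'1 hab (q ⟨g, hg⟩)
  obtain ⟨m, rfl⟩ := hqs n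
  haveI : (Cfsg.pPrimeCore 2 (H0 ⧸ Zs)).Normal := by
    haveI := CfsgLib.Coprime.pPrimeCore_characteristic (G := H0 ⧸ Zs) 2
    infer_instance
  set P₀ : Subgroup G := ((Cfsg.pPrimeCore 2 (H0 ⧸ Zs)).comap q).map H0.subtype with hP₀
  have hP₀H : P₀ ≤ H0 := map_subtype_le _
  have hgm : g * (m : G)⁻¹ ∈ P₀ := by
    refine ⟨⟨g, hg⟩ * m⁻¹, ?_, rfl⟩
    rw [SetLike.mem_coe, mem_comap, map_mul, map_inv, he, mul_inv_cancel_right]
    exact ho
  have hzP : zpowers F.z ≤ P₀ := fun x hx => ⟨⟨x, hQH (F.zz_le_Q hx)⟩, by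
    rw [SetLike.mem_coe, mem_comap, (hqk _).2 (F.mem_zz.1 hx)]; exact one_mem _, rfl⟩
  have hidx0 : ¬ 2 ∣ ((zpowers F.z).subgroupOf P₀).index := by
    show ¬ 2 ∣ (zpowers F.z).relIndex P₀
    rw [hP₀, ← relIndex_comap, show (zpowers F.z).comap H0.subtype = q.ker by
      rw [hq, QuotientGroup.ker_mk']; rfl, relIndex_ker, map_comap_eq_self_of_surjective hqs]
    exact CfsgLib.Coprime.pPrimeCore_not_dvd Nat.prime_two
  obtain ⟨c, hc, d, hd, hcd⟩ := CfsgLib.Invol.EightTypeThree.decomp_in hzP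
    (F.T.2.to_le (F.zz_le_Q.trans F.Q_le)) hidx0
    (fun n hn _ => mem_centralizer_iff.2 fun x hx => by
      rcases F.mem_zz.1 hx with rfl | rfl
      · rw [one_mul, mul_one]
      · exact (mem_centralizer_singleton_iff.1 (hle (hP₀H hn))).symm) hgm
  have hdH : d ∈ θ F.z := OC_le_OC hle hn0 (OC_le_OC hP₀H (fun k hk => by
    refine CfsgLib.ProdFusion.mem_of_forall_conj_mem ?_
    rintro _ ⟨a, ha, rfl⟩
    exact ⟨⟨k, hk⟩ * a * ⟨k, hk⟩⁻¹,
      (inferInstance : ((Cfsg.pPrimeCore 2 (H0 ⧸ Zs)).comap q).Normal).conj_mem a ha _, rfl⟩) hd)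
  refine ⟨d, hdH, c * (m : G), mul_mem ⟨le_normalizer (F.zz_le_Q hc), F.T_le_Cz (F.Q_le (F.zz_le_Q hc))⟩
    (hnorm m hn), ?_⟩
  have hdc : d * c = c * d := by
    rcases F.mem_zz.1 hc with rfl | rfl
    · rw [one_mul, mul_one]
    · exact mem_centralizer_singleton_iff.1 (OC_le _ hdH)
  rw [← mul_assoc, hdc, ← hcd, inv_mul_cancel_right]

/-- **the shape of the centraliser of `z`** -/
theorem toFactor : F.Factor := by
  haveI : Fact (Nat.Prime 2) := ⟨Nat.prime_two⟩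
  have hfac : ∀ g ∈ F.Cz, ∃ o ∈ θ F.z, ∃ n ∈ normalizer (F.Q : Set G) ⊓ F.Cz, g = o * n := by
    obtain ⟨H0, hle, hn0, hQH, hidx, hcase⟩ := hC.exists_half
    intro g hg
    rcases hcase g hg with h | h
    · exact hC.half_factor hle hn0 hQH hidx h
    · obtain ⟨o, ho, n, hn, e⟩ := hC.half_factor hle hn0 hQH hidx h
      exact ⟨o, ho, n * (F.hom W12.gr)⁻¹,
        mul_mem hn (inv_mem ⟨F.T_le_normQ (F.hom_mem _), F.T_le_Cz (F.hom_mem _)⟩),
        by rw [← mul_assoc, ← e, mul_inv_cancel_right]⟩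
  have hDO : OC F.CE ≤ θ F.z := by
    have hDC : OC F.CE ≤ F.Cz := (OC_le _).trans F.CE_le_Cz
    have hCO : F.Cz ≤ normalizer (θ F.z : Set G) := le_normalizer_OC_self _
    have h1 : OC F.CE ⊔ θ F.z ≤ θ F.z := le_OC (sup_le hDC (OC_le _))
      (CfsgLib.Invol.EightTypeThree.odd_sup (hDC.trans hCO) (odd_card_OC _) (odd_card_OC _)) (fun g hg => by
        obtain ⟨o, ho, n, hn, rfl⟩ := hfac g hg
        refine mul_mem (le_normalizer (mem_sup_right ho)) ?_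
        have e1 := conjBy_eq_self_iff.2 (hCO hn.2)
        have e2 : conjBy n (OC F.CE) = OC F.CE :=
          conjBy_eq_self_iff.2 (le_normalizer_OC _ (F.norm_CE (hC.norm_E0 hn)))
        rw [← conjBy_eq_self_iff]
        simp only [conjBy, Subgroup.map_sup] at e1 e2 ⊢
        rw [e1, e2])
    exact le_sup_left.trans h1
  refine ⟨hfac, hC.norm_E0, fun n hn hfp => ?_, fun n hn hr q hq => hC.fpf hn hr hq, hC.exists_rot⟩
  obtain ⟨wu, wp, hok, eu, ep, hi⟩ := F.exists_imgs (hC.NQ_le_N0 hn)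
  have hwu : wu = W12.gu ∨ wu = W12.gu' := by
    rcases hfp with h | h
    exacts [Or.inl (F.hom_injective (eu.trans h)), Or.inr (F.hom_injective (eu.trans h))]
  obtain ⟨t, htu, htp⟩ := W12.fix_pair wu hok.1 wp hok.2.1 hok hwu
  have hcN : (F.hom t)⁻¹ * n ∈ F.N0 := F.N0.mul_mem (F.N0.inv_mem (F.T_le_N0 (F.hom_mem t))) (hC.NQ_le_N0 hn)
  obtain ⟨cu, cp, hok', eu', ep', hi'⟩ := F.exists_imgs hcN
  have hfx : ∀ (w w' : W12), t * w * t⁻¹ = w' → F.hom w' = n * F.hom w * n⁻¹ →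
      (F.hom t)⁻¹ * n * F.hom w * ((F.hom t)⁻¹ * n)⁻¹ = F.hom w := by
    intro w w' e e'
    calc (F.hom t)⁻¹ * n * F.hom w * ((F.hom t)⁻¹ * n)⁻¹ = (F.hom t)⁻¹ * (n * F.hom w * n⁻¹) * F.hom t := by group
      _ = _ := by rw [← e', ← e, map_mul, map_mul, map_inv]; group
  obtain rfl : cu = W12.gu := F.hom_injective (eu'.trans (hfx _ _ htu eu))
  obtain rfl : cp = W12.gp := F.hom_injective (ep'.trans (hfx _ _ htp ep))
  have hcCE : (F.hom t)⁻¹ * n ∈ F.CE := mem_centralizer_iff.2 fun x hx => by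
    obtain ⟨w, hw, rfl⟩ := hx
    have := hi' w hw
    rw [W12.img_id w hw, mul_inv_eq_iff_eq_mul] at this
    exact this.symm
  obtain ⟨e, he, d, hd, hed⟩ := CfsgLib.Invol.EightTypeThree.decomp_in F.E0_le_CE (F.T.2.to_le F.E0_le)
    F.not_dvd_CE (fun n hn _ => hn) hcCE
  have hte : F.hom t * e ∈ (F.T : Subgroup G) := mul_mem (F.hom_mem t) (F.E0_le he)
  refine ⟨F.hom t * e * d * (F.hom t * e)⁻¹,
    (mem_normalizer_iff.1 (le_normalizer_OC_self _ (F.T_le_Cz hte)) d).1 (hDO hd), F.hom t * e, hte, ?_⟩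
  rw [inv_mul_cancel_right, mul_assoc, ← hed, mul_inv_cancel_left]

end Frame.Core

end CfsgLib.Invol.MTwelveType
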