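import Cfsg.Agent.Lib.Invol.MTwelveType.Base

/-!
# The action of the normaliser of the centraliser of `u` on its four cosets of involutions

No element acts as a double transposition, so an element fixing the four group pointwise fixes the four cosets.
-/

set_option autoImplicit false
set_option linter.unusedSectionVars false
set_option linter.style.haveILetI false
set_option maxRecDepth 10000

namespace CfsgLib.Invol.MTwelveType

open Subgroup
open CfsgLib.Invol

universe u

namespace W12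

/-- the cosets -/
abbrev C4 : Type := ZMod 2 × ZMod 2

/-- the coset of an involution -/
def idx (w : W12) : C4 := (par w.p, par w.q)

/-- lifting a residue -/
def lift2 (c : ZMod 2) : ZMod 4 := if c = 0 then 0 else 1

/-- a representative of a coset -/
def rep (c : C4) : W12 := ⟨lift2 c.1, lift2 c.2, 1, 0⟩

/-- an element of the four group -/
def vlift (c : C4) : W12 := ⟨if c.1 = 0 then 0 else 2, if c.2 = 0 then 0 else 2, 0, 0⟩

/-- membership among the sixteen involutions outside the abelian subgroup -/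
abbrev InX (w : W12) : Prop := w.s = 0 ∧ w.x = 1

theorem idx_rep : ∀ c : C4, idx (rep c) = c := by decide +kernel
theorem rep_inX : ∀ c : C4, InX (rep c) ∧ Inv2 (rep c) ∧ rep c ∈ subM ∧ rep c ∉ subV := by decide +kernel
theorem inX_facts : ∀ w : W12, InX w → Inv2 w ∧ w ∈ subM ∧ w ∉ subV ∧
    (rep (idx w))⁻¹ * w ∈ subV := by decide +kernel
theorem mul_V : ∀ w : W12, InX w → ∀ v : W12, v ∈ subV → idx (w * v) = idx w ∧ InX (w * v) := by decide +kernel
theorem subV_le : ∀ v : W12, v ∈ subV → v ∈ subM ∧ (∀ m : W12, m ∈ subM → m * v = v * m) ∧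
    (v = 1 ∨ v = gz ∨ v = gu ∨ v = gu') := by decide +kernel
theorem center_M : ∀ v : W12, v ∈ subM → (∀ m : W12, m ∈ subM → m * v = v * m) → v ∈ subV := by decide +kernel
theorem invol_M : ∀ w : W12, w ∈ subM → w * w = 1 → w ∉ subV → InX w := by decide +kernel
theorem sq_rep : ∀ w w' : W12, InX w → InX w' → w * w' * (w * w') = vlift (idx w + idx w') := by decide +kernel
theorem vlift_spec : ∀ c d : C4, (vlift c = vlift d ↔ c = d) ∧ vlift c ∈ subV := by decide +kernel
theorem conj_M : ∀ v w : W12, w ∈ subM → v * w * v⁻¹ ∈ subM := by decide +kernel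
theorem conj_rep : ∀ (v : W12) (c : C4), InX (v * rep c * v⁻¹) ∧
    (v.s = 0 → idx (v * rep c * v⁻¹) = c) ∧ (v.s = 1 → idx (v * rep c * v⁻¹) = c.swap) := by decide +kernel
theorem conj_V : ∀ v : W12, v.s = 1 → v * gu * v⁻¹ = gu' ∧ v * gu' * v⁻¹ = gu ∧ v * gz * v⁻¹ = gz := by decide +kernel
theorem translation_fix : ∀ t c : C4, t ≠ 0 → c + t ≠ c := by decide +kernel
theorem swap_moves : ∀ c : C4, c.swap.swap = c ∧ ((0 : C4).swap = 0) := by decide +kernel
theorem bit_cases : ∀ s : ZMod 2, s = 0 ∨ s = 1 := by decide +kernel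
theorem add_cancel2 : ∀ a b c : C4, a + b = c → a = c + b := by decide +kernel

end W12

open W12 (C4 idx rep vlift InX)

variable {G : Type u} [Group G] [Finite G]

namespace Frame

variable (F : Frame G)

/-- the coordinates of an element of the Sylow subgroup -/
noncomputable def pre (g : G) : W12 := Function.invFun F.hom g

theorem pre_hom (w : W12) : F.pre (F.hom w) = w := Function.leftInverse_invFun F.hom_injective w

theorem conj_M5 {n : G} (hn : n ∈ normalizer (F.M5 : Set G)) {w : W12} (hw : w ∈ W12.subM) :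
    ∃ w' ∈ W12.subM, F.hom w' = n * F.hom w * n⁻¹ := (mem_normalizer_iff.1 hn _).1 (F.mem_M5.2 hw)

theorem conj_V {n : G} (hn : n ∈ normalizer (F.M5 : Set G)) {v : W12} (hv : v ∈ W12.subV) :
    ∃ v' ∈ W12.subV, F.hom v' = n * F.hom v * n⁻¹ := by
  obtain ⟨hvM, hvc, -⟩ := W12.subV_le v hv
  obtain ⟨v', hv', e⟩ := F.conj_M5 hn hvM
  refine ⟨v', W12.center_M v' hv' fun m hm => F.hom_injective ?_, e⟩
  obtain ⟨m', hm', e'⟩ := F.conj_M5 ((normalizer (F.M5 : Set G)).inv_mem hn) hm
  rw [inv_inv] at e'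
  have h := hvc m' hm'
  have h' : F.hom m' * F.hom v = F.hom v * F.hom m' := by rw [← map_mul, h, map_mul]
  rw [e'] at h'
  rw [map_mul, map_mul, e]
  calc F.hom m * (n * F.hom v * n⁻¹) = n * (n⁻¹ * F.hom m * n * F.hom v) * n⁻¹ := by group
    _ = n * (F.hom v * (n⁻¹ * F.hom m * n)) * n⁻¹ := by rw [h']
    _ = n * F.hom v * n⁻¹ * F.hom m := by group

theorem conj_X {n : G} (hn : n ∈ normalizer (F.M5 : Set G)) {w : W12} (hw : InX w) :
    ∃ w', InX w' ∧ F.hom w' = n * F.hom w * n⁻¹ := by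
  obtain ⟨⟨-, hw2⟩, hwM, hwV, -⟩ := W12.inX_facts w hw
  obtain ⟨w', hw', e⟩ := F.conj_M5 hn hwM
  refine ⟨w', W12.invol_M w' hw' ?_ ?_, e⟩
  · apply F.hom_injective
    rw [map_mul, map_one, e, show n * F.hom w * n⁻¹ * (n * F.hom w * n⁻¹) = n * (F.hom w * F.hom w) * n⁻¹ by group,
      ← map_mul, hw2, map_one, mul_one, mul_inv_cancel]
  · intro hV
    obtain ⟨v, hv, ev⟩ := F.conj_V ((normalizer (F.M5 : Set G)).inv_mem hn) hV
    rw [e, inv_inv] at ev
    exact hwV ((F.hom_injective (ev.trans (by group : _ = F.hom w))) ▸ hv)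

/-- the image of a coset -/
noncomputable def act (n : G) (c : C4) : C4 := idx (F.pre (n * F.hom (rep c) * n⁻¹))

theorem act_spec {n : G} (hn : n ∈ normalizer (F.M5 : Set G)) {w : W12} (hw : InX w) :
    ∃ w', InX w' ∧ F.hom w' = n * F.hom w * n⁻¹ ∧ idx w' = F.act n (idx w) := by
  obtain ⟨w', hw', e⟩ := F.conj_X hn hw
  obtain ⟨r, hr, er⟩ := F.conj_X hn (W12.rep_inX (idx w)).1
  obtain ⟨v, hv, ev⟩ := F.conj_V hn (W12.inX_facts w hw).2.2.2
  have h : w' = r * v := F.hom_injective (by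
    rw [map_mul, e, er, ev, map_mul, map_inv]
    group)
  refine ⟨w', hw', e, ?_⟩
  rw [h, (W12.mul_V r hr v hv).1]
  show idx r = idx (F.pre (n * F.hom (rep (idx w)) * n⁻¹))
  rw [← er, F.pre_hom]

theorem act_mul {n m : G} (hn : n ∈ normalizer (F.M5 : Set G)) (hm : m ∈ normalizer (F.M5 : Set G)) (c : C4) :
    F.act (n * m) c = F.act n (F.act m c) := by
  obtain ⟨w, hw, e⟩ := F.conj_X hm (W12.rep_inX c).1
  obtain ⟨w', -, e', hi⟩ := F.act_spec hn hw
  have hi' : idx w = F.act m c := by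
    show idx w = idx (F.pre (m * F.hom (rep c) * m⁻¹))
    rw [← e, F.pre_hom]
  rw [← hi', ← hi]
  show idx (F.pre (n * m * F.hom (rep c) * (n * m)⁻¹)) = idx w'
  rw [show n * m * F.hom (rep c) * (n * m)⁻¹ = n * (m * F.hom (rep c) * m⁻¹) * n⁻¹ by group, ← e, ← e', F.pre_hom]

theorem act_one (c : C4) : F.act 1 c = c := by
  show idx (F.pre (1 * F.hom (rep c) * 1⁻¹)) = c
  rw [one_mul, inv_one, mul_one, F.pre_hom, W12.idx_rep]

/-- the action -/
noncomputable def rho : normalizer (F.M5 : Set G) →* Equiv.Perm C4 where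
  toFun n :=
    { toFun := F.act n
      invFun := F.act (n : G)⁻¹
      left_inv := fun c => by
        rw [← F.act_mul ((normalizer (F.M5 : Set G)).inv_mem n.2) n.2, inv_mul_cancel, F.act_one]
      right_inv := fun c => by
        rw [← F.act_mul n.2 ((normalizer (F.M5 : Set G)).inv_mem n.2), mul_inv_cancel, F.act_one] }
  map_one' := Equiv.ext F.act_one
  map_mul' n m := Equiv.ext fun c => F.act_mul n.2 m.2 c

theorem rho_apply (n : normalizer (F.M5 : Set G)) (c : C4) : F.rho n c = F.act n c := rfl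

theorem T_le_normM5 : (F.T : Subgroup G) ≤ normalizer (F.M5 : Set G) := fun t ht => by
  refine CfsgLib.ProdFusion.mem_of_forall_conj_mem ?_
  rintro _ ⟨w, hw, rfl⟩
  obtain ⟨v, rfl⟩ := F.exists_of_mem ht
  exact F.conj_mem_map (W12.conj_M v w hw)

theorem act_hom (v : W12) (c : C4) : F.act (F.hom v) c = idx (v * rep c * v⁻¹) := by
  show idx (F.pre (F.hom v * F.hom (rep c) * (F.hom v)⁻¹)) = _
  rw [F.hom_conj, F.pre_hom]

/-- **no element acts as a double transposition** -/
theorem no_double {n : G} (hn : n ∈ normalizer (F.M5 : Set G)) (h2 : ∀ c, F.act n (F.act n c) = c)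
    (hfp : ∀ c, F.act n c ≠ c) : False := by
  haveI : Fact (Nat.Prime 2) := ⟨Nat.prime_two⟩
  set N := normalizer (F.M5 : Set G) with hN
  set x : N := ⟨n, hn⟩ with hx
  have hσ2 : F.rho x * F.rho x = 1 := Equiv.ext h2
  have h0 : orderOf x ≠ 0 := (orderOf_pos x).ne'
  set m := orderOf x / 2 ^ (orderOf x).factorization 2 with hm
  have hmodd : Odd m := by
    rcases Nat.even_or_odd m with h | h
    · exact absurd (even_iff_two_dvd.1 h) (Nat.not_dvd_ordCompl Nat.prime_two h0)
    · exact h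
  have hk : F.rho (x ^ m) = F.rho x := by
    obtain ⟨j, hj⟩ : ∃ j, m = 2 * j + 1 := hmodd
    rw [hj, map_pow, pow_succ, pow_mul, pow_two, hσ2, one_pow, one_mul]
  have hp : IsPGroup 2 (zpowers (x ^ m)) := IsPGroup.of_card (n := (orderOf x).factorization 2) (by
    have hmd : m ∣ orderOf x := Nat.ordCompl_dvd _ _
    rw [Nat.card_zpowers, orderOf_pow' _ (Nat.ne_of_gt hmodd.pos), Nat.gcd_eq_right hmd, hm,
      Nat.div_div_self (Nat.ordProj_dvd _ _) h0])
  obtain ⟨c, hc⟩ := exists_conj_le_sylow hp (F.T.subtype F.T_le_normM5)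
  have hmem : ((c * x ^ m * c⁻¹ : N) : G) ∈ (F.T : Subgroup G) := hc _ (mem_zpowers _)
  obtain ⟨v, hv⟩ := F.exists_of_mem hmem
  have hact : ∀ d, idx (v * rep d * v⁻¹) = F.rho c (F.rho x ((F.rho c)⁻¹ d)) := by
    intro d
    have e : F.rho (c * x ^ m * c⁻¹) d = idx (v * rep d * v⁻¹) := by
      rw [F.rho_apply, ← hv, F.act_hom]
    rw [← e, map_mul, map_mul, map_inv, hk]
    rfl
  have hv0 : ∀ d, idx (v * rep d * v⁻¹) ≠ d := fun d e => hfp ((F.rho c)⁻¹ d) (by
    rw [hact] at e
    exact (Equiv.eq_symm_apply _).2 e)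
  rcases W12.bit_cases v.s with hs | hs
  · exact hv0 0 ((W12.conj_rep v 0).2.1 hs)
  · exact hv0 0 (((W12.conj_rep v 0).2.2 hs).trans (W12.swap_moves 0).2)

/-- fixing the four group pointwise forces fixing the four cosets -/
theorem act_of_fix {n : G} (hn : n ∈ normalizer (F.M5 : Set G)) (hz : Commute n F.z) (hu : Commute n F.u)
    (c : C4) : F.act n c = c := by
  have hV : ∀ v ∈ W12.subV, n * F.hom v * n⁻¹ = F.hom v := by
    intro v hv
    have h1 : Commute n (F.hom W12.gu') := by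
      rw [show W12.gu' = W12.gz * W12.gu from by decide +kernel, map_mul]
      exact hz.mul_right hu
    rcases (W12.subV_le v hv).2.2 with rfl | rfl | rfl | rfl
    · simp
    · exact mul_inv_eq_iff_eq_mul.2 hz.eq
    · exact mul_inv_eq_iff_eq_mul.2 hu.eq
    · exact mul_inv_eq_iff_eq_mul.2 h1.eq
  have hd : ∀ c d : C4, F.act n c + F.act n d = c + d := by
    intro c d
    obtain ⟨w, hw, e, hi⟩ := F.act_spec hn (W12.rep_inX c).1
    obtain ⟨w', hw', e', hi'⟩ := F.act_spec hn (W12.rep_inX d).1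
    rw [W12.idx_rep] at hi hi'
    rw [← hi, ← hi']
    refine ((W12.vlift_spec _ _).1).1 ?_
    apply F.hom_injective
    rw [← W12.sq_rep w w' hw hw', map_mul, map_mul, e, e',
      show n * F.hom (rep c) * n⁻¹ * (n * F.hom (rep d) * n⁻¹) * (n * F.hom (rep c) * n⁻¹ * (n * F.hom (rep d) * n⁻¹)) =
        n * (F.hom (rep c) * F.hom (rep d) * (F.hom (rep c) * F.hom (rep d))) * n⁻¹ by group, ← map_mul, ← map_mul,
      W12.sq_rep _ _ (W12.rep_inX c).1 (W12.rep_inX d).1, W12.idx_rep, W12.idx_rep]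
    exact hV _ (W12.vlift_spec (c + d) 0).2
  by_contra hne
  set t := F.act n 0 with ht
  have htr : ∀ d, F.act n d = d + t := fun d => by
    refine W12.add_cancel2 _ _ _ ?_
    rw [hd d 0, add_zero]
  have ht0 : t ≠ 0 := fun e => hne (by rw [htr c, e, add_zero])
  exact F.no_double hn (fun d => by rw [htr, htr, add_assoc, CharTwo.add_self_eq_zero, add_zero])
    fun d => by rw [htr]; exact W12.translation_fix t d ht0

theorem act_of_commute_z {n : G} (hn : n ∈ normalizer (F.M5 : Set G)) (hz : Commute n F.z) :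
    (∀ c, F.act n c = c) ∨ ∀ c, F.act n c = c.swap := by
  obtain ⟨v, hv, e⟩ := F.conj_V hn (show W12.gu ∈ W12.subV by decide +kernel)
  have hzz : n * F.z * n⁻¹ = F.z := mul_inv_eq_iff_eq_mul.2 hz.eq
  rcases (W12.subV_le v hv).2.2 with rfl | rfl | rfl | rfl
  · rw [map_one, eq_comm, conj_eq_one_iff, F.hom_eq_one] at e
    exact absurd e (by decide +kernel)
  · have h : F.hom W12.gz = F.hom W12.gu := mul_left_cancel (mul_right_cancel (hzz.trans e))
    exact absurd (F.hom_injective h) (by decide +kernel)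
  · exact Or.inl (F.act_of_fix hn hz (mul_inv_eq_iff_eq_mul.1 e.symm))
  · refine Or.inr fun c => ?_
    have hs : F.hom W12.gs ∈ normalizer (F.M5 : Set G) := F.T_le_normM5 (F.hom_mem _)
    have hsz : Commute (F.hom W12.gs) F.z := F.z_central (F.hom_mem _)
    have h1 := F.act_of_fix ((normalizer (F.M5 : Set G)).mul_mem hs hn) (hsz.mul_left hz) (mul_inv_eq_iff_eq_mul.1 (by
      show F.hom W12.gs * n * F.hom W12.gu * (F.hom W12.gs * n)⁻¹ = F.hom W12.gu
      rw [show F.hom W12.gs * n * F.hom W12.gu * (F.hom W12.gs * n)⁻¹ =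
        F.hom W12.gs * (n * F.hom W12.gu * n⁻¹) * (F.hom W12.gs)⁻¹ by group, ← e, F.hom_conj,
        (W12.conj_V W12.gs rfl).2.1])) c
    rw [F.act_mul hs hn, F.act_hom, (W12.conj_rep _ _).2.2 rfl] at h1
    exact (congrArg Prod.swap h1 : _) ▸ (W12.swap_moves _).1.symm

end Frame

end CfsgLib.Invol.MTwelveType
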