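import Cfsg.Agent.Lib.Invol.MTwelveType.Classes

/-!
# The shape of the centraliser of the central involution
-/

set_option autoImplicit false
set_option linter.unusedSectionVars false

namespace CfsgLib.Invol.MTwelveType

open Subgroup

universe u

variable {G : Type u} [Group G] [Finite G]

namespace Frame

variable (F : Frame G)

/-- an element fixing the pair `{u, u'}` -/
abbrev FixPair (n : G) : Prop := n * F.u * n⁻¹ = F.u ∨ n * F.u * n⁻¹ = F.hom W12.gu'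

/-- an element fixed-point-free on `E0 / ⟨z⟩` -/
abbrev Rot (n : G) : Prop :=
  ∀ x ∈ F.E0, (n * x * n⁻¹ * x⁻¹ = 1 ∨ n * x * n⁻¹ * x⁻¹ = F.z) → x = 1 ∨ x = F.z

/-- the factorisation of the centraliser of `z` -/
structure Factor : Prop where
  factor : ∀ g ∈ F.Cz, ∃ o ∈ θ F.z, ∃ n ∈ normalizer (F.Q : Set G) ⊓ F.Cz, g = o * n
  norm_E0 : normalizer (F.Q : Set G) ⊓ F.Cz ≤ normalizer (F.E0 : Set G)
  fix : ∀ n ∈ normalizer (F.Q : Set G) ⊓ F.Cz, F.FixPair n → ∃ o ∈ θ F.z, ∃ t ∈ (F.T : Subgroup G), n = o * t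
  fpf : ∀ n ∈ normalizer (F.Q : Set G) ⊓ F.Cz, F.Rot n →
    ∀ q ∈ F.Q, (n * q * n⁻¹ * q⁻¹ = 1 ∨ n * q * n⁻¹ * q⁻¹ = F.z) → q = 1 ∨ q = F.z
  nu : ∃ n ∈ normalizer (F.Q : Set G) ⊓ F.Cz, F.Rot n

end Frame

end CfsgLib.Invol.MTwelveType
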