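import Cfsg.Agent.Lib.Invol.MTwelveType.EndgameFused
import Cfsg.Agent.Lib.Invol.StronglyEmbeddedOrbits

/-!
# The signalizer subgroup is trivial

The normaliser of the signalizer subgroup contains the centralisers of its involutions, so it would be strongly
embedded, which allows only one class of involutions.
-/

set_option autoImplicit false
set_option linter.unusedSectionVars false
set_option linter.style.haveILetI false

namespace CfsgLib.Invol.MTwelveType

open Subgroup
open CfsgLib.Invol

universe u

variable {G : Type u} [Group G] [Finite G]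

namespace Frame

variable {F : Frame G} {W : Subgroup G}

/-- the centraliser of `a` lies in the normaliser of the signalizer subgroup -/
theorem Signal.cent_a_le (hS : F.Signal W) (hC : F.Core) (hF : F.Factor) : F.Ca ≤ normalizer (W : Set G) := by
  by_cases h : F.Isolated
  · exact hS.cent_a_le_isolated hC h
  · obtain ⟨c, hc, hcz⟩ : ∃ c ∈ F.Ca, c * F.z * c⁻¹ = F.u ∨ c * F.z * c⁻¹ = F.hom W12.gu' := by
      by_contra hn
      push Not at hn
      exact h hn
    exact hS.cent_a_le_fused hC hF hc hcz

/-- conjugating an involution of the normaliser into it is done from inside -/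
theorem Signal.conj_mem (hS : F.Signal W) (hC : F.Core) (hF : F.Factor) {t g : G}
    (ht : t ∈ normalizer (W : Set G)) (hto : orderOf t = 2) (hgt : g * t * g⁻¹ ∈ normalizer (W : Set G)) :
    g ∈ normalizer (W : Set G) := by
  by_cases hz : IsConj F.z t
  · exact hS.key hC hF ht hgt hto hz
  obtain ⟨m, hm, e | e⟩ := hS.to_z_or_a hC hF ht hto
  · exact absurd (isConj_iff.2 ⟨m, e⟩).symm hz
  obtain ⟨k, hk, e' | e'⟩ := hS.to_z_or_a hC hF hgt (invol_conj hto g)
  · refine absurd ((isConj_iff.2 ⟨k * g, ?_⟩ : IsConj t F.z).symm) hz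
    rw [show k * g * t * (k * g)⁻¹ = k * (g * t * g⁻¹) * k⁻¹ by group, e']
  have h1 : k * g * m⁻¹ ∈ F.Ca := mem_centralizer_singleton_iff.2 (by
    calc k * g * m⁻¹ * F.a = k * g * m⁻¹ * (m * t * m⁻¹) := by rw [e]
      _ = k * (g * t * g⁻¹) * k⁻¹ * (k * g * m⁻¹) := by group
      _ = F.a * (k * g * m⁻¹) := by rw [e'])
  have h2 : k⁻¹ * (k * g * m⁻¹) * m ∈ normalizer (W : Set G) :=
    mul_mem (mul_mem (inv_mem hk) (hS.cent_a_le hC hF h1)) hm
  simpa [mul_assoc] using h2

/-- **the odd core of the centraliser of `z` is trivial** -/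
theorem theta_bot_of_signal [IsSimpleGroup G] (F : Frame G) (hC : F.Core) (hF : F.Factor) {W : Subgroup G}
    (hS : F.Signal W) : Frame.θ F.z = ⊥ := by
  by_contra hne
  have hzW := hS.theta F.z (F.hom_mem _) F.z_ord
  have h2G : 2 ∣ Nat.card G := F.z_ord ▸ orderOf_dvd_natCard F.z
  have hM : normalizer (W : Set G) ≠ ⊤ := by
    intro h
    haveI : W.Normal := normalizer_eq_top_iff.1 h
    rcases Subgroup.Normal.eq_bot_or_eq_top (inferInstance : W.Normal) with rfl | rfl
    · exact hne (le_bot_iff.1 hzW)
    · have h := hS.odd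
      rw [card_top] at h
      exact Nat.not_even_iff_odd.2 h (even_iff_two_dvd.2 h2G)
  have heven : Even (Nat.card (normalizer (W : Set G) : Subgroup G)) := by
    refine even_iff_two_dvd.2 ?_
    rw [← F.z_ord]
    exact Subgroup.orderOf_dvd_natCard _ (hS.hom_mem_norm W12.gz)
  exact hC.na (exists_conj_fixing ((stronglyEmbedded_iff hM heven).2 fun t ht hto g hg =>
    hS.conj_mem hC hF ht hto hg) F.z_ord F.a_ord)

end Frame

end CfsgLib.Invol.MTwelveType
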