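import Cfsg.Agent.Lib.Invol.MTwelveType.EndgameClasses
import Cfsg.Agent.Lib.Fusion.Tate
import Mathlib.GroupTheory.Transfer

/-!
# The centraliser of `a` when `z` is fused to neither `u` nor `u'` inside it

Transfers at five involutions of the Sylow subgroup of the centraliser of `a` leave a cyclic group as Sylow
subgroup of the subgroup generated by the elements of odd order, so the latter has odd order.
-/

set_option autoImplicit false
set_option linter.unusedSectionVars false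
set_option linter.style.haveILetI false
set_option maxRecDepth 10000

namespace CfsgLib.Invol.MTwelveType

open Subgroup
open CfsgLib.Invol
open CfsgLib.Coprime (conjBy mem_conjBy conjBy_eq_self_iff)
open CfsgLib.ProdFusion (OC OC_le odd_card_OC le_OC le_normalizer_OC_self eq_one_of_sq odd_orderOf_of_mem
  mem_of_forall_conj_mem)

universe u

namespace W12

/-- the centraliser of the chosen involution of the other class as a subgroup -/
def subTa : Subgroup W12 where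
  carrier := {w | InTa w}
  one_mem' := by decide +kernel
  mul_mem' := fun {a b} ha hb => (by decide +kernel : ∀ a b : W12, InTa a → InTa b → InTa (a * b)) a b ha hb
  inv_mem' := fun {a} ha => (by decide +kernel : ∀ a : W12, InTa a → InTa a⁻¹) a ha

instance (w : W12) : Decidable (w ∈ subTa) := inferInstanceAs (Decidable (InTa w))

/-- the half without the inversion -/
def subQa : Subgroup W12 where
  carrier := {w | InTa w ∧ w.x = 0}
  one_mem' := by decide +kernel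
  mul_mem' := fun {a b} ha hb =>
    (by decide +kernel : ∀ a b : W12, InTa a ∧ a.x = 0 → InTa b ∧ b.x = 0 → InTa (a * b) ∧ (a * b).x = 0) a b ha hb
  inv_mem' := fun {a} ha => (by decide +kernel : ∀ a : W12, InTa a ∧ a.x = 0 → InTa a⁻¹ ∧ a⁻¹.x = 0) a ha

instance (w : W12) : Decidable (w ∈ subQa) := inferInstanceAs (Decidable (InTa w ∧ w.x = 0))

/-- the half with equal coordinates -/
def subQu : Subgroup W12 where
  carrier := {w | InTa w ∧ w.p = w.q}
  one_mem' := by decide +kernel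
  mul_mem' := fun {a b} ha hb =>
    (by decide +kernel : ∀ a b : W12, InTa a ∧ a.p = a.q → InTa b ∧ b.p = b.q → InTa (a * b) ∧ (a * b).p = (a * b).q)
      a b ha hb
  inv_mem' := fun {a} ha => (by decide +kernel : ∀ a : W12, InTa a ∧ a.p = a.q → InTa a⁻¹ ∧ a⁻¹.p = a⁻¹.q) a ha

instance (w : W12) : Decidable (w ∈ subQu) := inferInstanceAs (Decidable (InTa w ∧ w.p = w.q))

theorem ta_iff : ∀ w : W12, InTa w ↔ w * ga = ga * w := by decide +kernel

theorem ta_halves : (∀ w, w ∈ subQa → InTa w) ∧ (∀ w, w ∈ subE1 → InTa w) ∧ (∀ w, w ∈ subQu → InTa w) ∧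
    InTa ga ∧ InTa gs ∧ InTa gas ∧ InTa gu ∧ InTa (gu * ga) ∧ InTa (gu * gs) ∧ (gu * gs) * (gu * gs) = gz ∧
    ga ∉ subQa ∧ gu ∉ subQu ∧ gu' ∉ subQu ∧ ga ∈ subQu ∧ (gu * ga) * (gu * ga) = 1 ∧ gu * gu = 1 ∧ ga * ga = 1 ∧
    gs * gs = 1 ∧ gas * gas = 1 ∧ ga * gs = gas ∧ ga * gas = gs ∧ gs ≠ ga ∧ gas ≠ ga := by decide +kernel

theorem E1_cases : ∀ w : W12, w ∈ subE1 → Inv2 w →
    w ∈ [gz, gu, gu'] ∨ w = ga ∨ ga * w ∈ [gz, gu, gu'] := by decide +kernel

theorem ta_cases : ∀ w : W12, InTa w →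
    (∃ y ∈ [gu, ga, gs, gas, gu * ga], w = y ∨ w = y * gz) ∨
      w ∈ [1, gz, gu * gs, gu * gs * gz] ∨ w ∈ [gu * gas, gu * gas * gz] := by decide +kernel

theorem cyclic_lists : (∀ w ∈ [1, gz, gu * gs, gu * gs * gz],
      w = 1 ∨ w = gu * gs ∨ w = gu * gs * (gu * gs) ∨ w = gu * gs * (gu * gs) * (gu * gs)) ∧
    (∀ w ∈ [1, gz, gu * gas, gu * gas * gz],
      w = 1 ∨ w = gu * gas ∨ w = gu * gas * (gu * gas) ∨ w = gu * gas * (gu * gas) * (gu * gas)) ∧
    (∀ v ∈ [gu * gs, gu * gs * gz], ∀ w ∈ [gu * gas, gu * gas * gz], v * w = ga ∨ v * w = ga * gz) := by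
  decide +kernel

end W12

section General

variable {G : Type u} [Group G] [Finite G]

/-- Thompson transfer inside a subgroup -/
theorem transfer_in {C P Q : Subgroup G} (hP2 : IsPGroup 2 P) (hPC : P ≤ C)
    (hidx : ¬ 2 ∣ (P.subgroupOf C).index) (hQP : Q ≤ P) (hQ : Q.relIndex P = 2) {v : G} (hvC : v ∈ C)
    (hv : v * v = 1) (hno : ∀ g ∈ C, g * v * g⁻¹ ∉ Q) :
    ∃ N : Subgroup G, N ≤ C ∧ C ≤ normalizer (N : Set G) ∧ (∀ x ∈ C, x * x ∈ N) ∧ v ∉ N := by
  haveI : Fact (Nat.Prime 2) := ⟨Nat.prime_two⟩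
  obtain ⟨N, hNn, hN2, hvN⟩ := CfsgLib.Fusion.thompson_transfer
    ((hP2.of_equiv (subgroupOfEquivOfLe hPC).symm).toSylow hidx) (Q := Q.subgroupOf C) (comap_mono hQP)
    ((Subgroup.relIndex_subgroupOf hPC).trans hQ) (u := ⟨v, hvC⟩)
    (by rw [pow_two]; exact Subtype.ext hv) (fun g hg => hno g g.2 hg)
  refine ⟨N.map C.subtype, map_subtype_le _, fun c hc => mem_of_forall_conj_mem ?_,
    fun x hx => ⟨⟨x, hx⟩ ^ 2, Subgroup.sq_mem_of_index_two hN2 _, by simp [pow_two]⟩, ?_⟩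
  · rintro _ ⟨y, hy, rfl⟩
    exact ⟨⟨c, hc⟩ * y * ⟨c, hc⟩⁻¹, hNn.conj_mem y hy _, rfl⟩
  · rintro ⟨y, hy, e⟩
    exact hvN ((show y = ⟨v, hvC⟩ from Subtype.ext e) ▸ hy)

/-- odd elements are powers of their squares -/
theorem odd_mem_of_sq {N : Subgroup G} {x : G} (ho : Odd (orderOf x)) (h : x * x ∈ N) : x ∈ N := by
  obtain ⟨j, hj⟩ := ho
  have e : (x * x) ^ (j + 1) = x := by
    rw [← pow_two, ← pow_mul, show 2 * (j + 1) = 2 * j + 1 + 1 by ring, pow_succ, ← hj, pow_orderOf_eq_one,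
      one_mul]
  exact e ▸ pow_mem h _

/-- the trace of a Sylow subgroup on a normalised subgroup -/
theorem not_dvd_index_inf {C N P : Subgroup G} (hP2 : IsPGroup 2 P) (hPC : P ≤ C)
    (hidx : ¬ 2 ∣ (P.subgroupOf C).index) (hNC : N ≤ C) (hn : C ≤ normalizer (N : Set G)) :
    ¬ 2 ∣ ((P ⊓ N).subgroupOf N).index := by
  haveI : Fact (Nat.Prime 2) := ⟨Nat.prime_two⟩
  obtain ⟨Q, hQ⟩ := ((hP2.to_le inf_le_left).of_equiv
    (subgroupOfEquivOfLe (inf_le_right : P ⊓ N ≤ N)).symm).exists_le_sylow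
  obtain ⟨c, hc, hcQ⟩ := Frame.exists_conj_into (R := (Q : Subgroup N).map N.subtype)
    ((map_subtype_le _).trans hNC) (Q.2.map _) hPC hP2 hidx
  have h1 : Nat.card (Q : Subgroup N) ≤ Nat.card ((P ⊓ N).subgroupOf N) := by
    rw [Nat.card_congr (subgroupOfEquivOfLe (inf_le_right : P ⊓ N ≤ N)).toEquiv,
      ← card_map_of_injective N.subtype_injective, ← CfsgLib.Coprime.card_conjBy c]
    refine card_le_of_le ?_
    rintro _ ⟨y, hy, rfl⟩
    exact ⟨hcQ y hy, (mem_normalizer_iff.1 (hn hc) y).1 (map_subtype_le _ hy)⟩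
  rw [eq_of_le_of_card_ge hQ h1]
  exact Q.not_dvd_index

/-- a subgroup containing the elements of odd order is supplemented by a Sylow subgroup -/
theorem exists_factor {C N P : Subgroup G} (hn : C ≤ normalizer (N : Set G))
    (hidx : ¬ 2 ∣ (P.subgroupOf C).index) (hodd : ∀ x ∈ C, Odd (orderOf x) → x ∈ N) {c : G} (hc : c ∈ C) :
    ∃ n ∈ N, ∃ t ∈ P, c = n * t := by
  haveI : Fact (Nat.Prime 2) := ⟨Nat.prime_two⟩
  set Y := N.subgroupOf C with hY
  haveI : Y.Normal := ⟨fun y hy g => (mem_normalizer_iff.1 (hn g.2) (y : G)).1 hy⟩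
  have h2 : IsPGroup 2 (↥C ⧸ Y) := fun x => by
    obtain ⟨x, rfl⟩ := QuotientGroup.mk_surjective x
    obtain ⟨k, d, hd, hk⟩ := Nat.exists_eq_two_pow_mul_odd (orderOf_pos x).ne'
    refine ⟨k, (QuotientGroup.eq_one_iff (x ^ 2 ^ k)).2 (hodd _ (x ^ 2 ^ k).2 ?_)⟩
    show Odd (orderOf ((x ^ 2 ^ k : C) : G))
    rw [Subgroup.orderOf_coe, orderOf_pow_of_dvd (by positivity) ⟨d, hk⟩, hk,
      Nat.mul_div_cancel_left _ (by positivity)]
    exact hd
  have htop : (P.subgroupOf C).map (QuotientGroup.mk' Y) = ⊤ := by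
    obtain ⟨l, hl⟩ := h2.index ((P.subgroupOf C).map (QuotientGroup.mk' Y))
    rw [← Subgroup.index_eq_one, hl]
    rcases Nat.eq_zero_or_pos l with rfl | hlp
    · exact pow_zero 2
    · exact absurd ((dvd_pow_self 2 hlp.ne').trans
        (hl ▸ Subgroup.index_map_dvd _ (QuotientGroup.mk'_surjective Y))) hidx
  obtain ⟨t, ht, hte⟩ := (htop ▸ mem_top _ :
    QuotientGroup.mk' Y ⟨c, hc⟩ ∈ (P.subgroupOf C).map (QuotientGroup.mk' Y))
  have h3 : (⟨c, hc⟩ : C) * t⁻¹ ∈ Y := (QuotientGroup.eq_one_iff _).1 (by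
    show QuotientGroup.mk' Y (⟨c, hc⟩ * t⁻¹) = 1
    rw [map_mul, map_inv, hte, mul_inv_cancel])
  exact ⟨c * (t : G)⁻¹, h3, t, ht, (inv_mul_cancel_right _ _).symm⟩

/-- Burnside: a group generated by elements of odd order with cyclic Sylow two-subgroup has odd order -/
theorem odd_of_cyclic {R P : Subgroup G} (hP2 : IsPGroup 2 P) (hPR : P ≤ R)
    (hidx : ¬ 2 ∣ (P.subgroupOf R).index) {y : G} (hy : P ≤ zpowers y)
    (hgen : R ≤ closure {x | x ∈ R ∧ Odd (orderOf x)}) : Odd (Nat.card R) := by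
  haveI : Fact (Nat.Prime 2) := ⟨Nat.prime_two⟩
  by_contra hev
  have hmin : (Nat.card R).minFac = 2 :=
    (Nat.minFac_eq_two_iff _).2 (Nat.not_odd_iff_even.1 hev).two_dvd
  let P' : Sylow 2 R := (hP2.of_equiv (subgroupOfEquivOfLe hPR).symm).toSylow hidx
  haveI : IsCyclic P := Subgroup.isCyclic_of_le hy
  have hcyc : IsCyclic P' := isCyclic_of_surjective (subgroupOfEquivOfLe hPR).symm.toMonoidHom
    (subgroupOfEquivOfLe hPR).symm.surjective
  set f := MonoidHom.transferSylow P' (IsCyclic.normalizer_le_centralizer hmin hcyc) with hf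
  have hcomp : f.ker.IsComplement' P' := IsCyclic.isComplement' hmin hcyc
  have hker : R ≤ f.ker.map R.subtype := by
    refine hgen.trans ((closure_le _).2 ?_)
    rintro x ⟨hx, hxo⟩
    refine ⟨⟨x, hx⟩, MonoidHom.mem_ker.2 ?_, rfl⟩
    obtain ⟨k, hk⟩ := P'.2 (f ⟨x, hx⟩)
    refine eq_one_of_odd_of_pow_two (k := k) (hxo.of_dvd_nat ?_) hk
    rw [← Subgroup.orderOf_mk x hx]
    exact orderOf_map_dvd f _
  have htop : f.ker = ⊤ := eq_top_iff.2 fun x _ => by
    obtain ⟨x', hx', e⟩ := hker x.2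
    exact (Subtype.ext e : x' = x) ▸ hx'
  rw [htop, isComplement'_top_left] at hcomp
  have hidx' : ¬ 2 ∣ (P' : Subgroup R).index := hidx
  rw [hcomp, index_bot] at hidx'
  exact hidx' (Nat.not_odd_iff_even.1 hev).two_dvd

end General

variable {G : Type u} [Group G] [Finite G]

namespace Frame

variable (F : Frame G)

/-- the centraliser of `a` in the Sylow subgroup -/
def Ta : Subgroup G := W12.subTa.map F.hom

/-- the centraliser of `a` -/
abbrev Ca : Subgroup G := centralizer ({F.a} : Set G)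

theorem mem_Ta {w : W12} : F.hom w ∈ F.Ta ↔ W12.InTa w := mem_map_iff_mem F.hom_injective

theorem Ta_eq : F.Ta = (F.T : Subgroup G) ⊓ F.Ca := by
  ext x
  constructor
  · rintro ⟨w, hw, rfl⟩
    exact ⟨F.hom_mem w, mem_centralizer_singleton_iff.2 (F.hom_commute.2 ((W12.ta_iff w).1 hw)).eq⟩
  · rintro ⟨hT, hc⟩
    obtain ⟨w, rfl⟩ := F.exists_of_mem hT
    exact F.mem_Ta.2 ((W12.ta_iff w).2 (F.hom_commute.1 (mem_centralizer_singleton_iff.1 hc)))

theorem Ta_le_T : F.Ta ≤ (F.T : Subgroup G) := F.map_le_T _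

theorem Ta_le_Ca : F.Ta ≤ F.Ca := F.Ta_eq.trans_le inf_le_right

theorem Ta_pgroup : IsPGroup 2 F.Ta := F.T.2.to_le F.Ta_le_T

theorem card_Ta : Nat.card F.Ta = 16 := (F.card_map _).trans (by decide +kernel)

theorem z_mem_Ca : F.z ∈ F.Ca :=
  mem_centralizer_singleton_iff.2 (F.z_central (F.hom_mem W12.ga)).symm

variable {F}

/-- the centraliser of `a` in the Sylow subgroup is Sylow in the centraliser of `a` -/
theorem Core.not_dvd_index_Ta (hC : F.Core) : ¬ 2 ∣ (F.Ta.subgroupOf F.Ca).index := by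
  haveI : Fact (Nat.Prime 2) := ⟨Nat.prime_two⟩
  obtain ⟨P, hP⟩ := (F.Ta_pgroup.of_equiv (subgroupOfEquivOfLe F.Ta_le_Ca).symm).exists_le_sylow
  have haT : F.a ∈ (P : Subgroup F.Ca).map F.Ca.subtype :=
    ⟨⟨F.a, F.Ta_le_Ca (F.mem_Ta.2 W12.ta_halves.2.2.2.1)⟩, hP (F.mem_Ta.2 W12.ta_halves.2.2.2.1), rfl⟩
  have h16 := hC.card_le_cent (w := W12.ga) W12.s_maps.2.2.2.1 hC.na (P.2.map _) (map_subtype_le _) haT
  rw [card_map_of_injective F.Ca.subtype_injective] at h16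
  rw [eq_of_le_of_card_ge hP (by rw [Nat.card_congr (subgroupOfEquivOfLe F.Ta_le_Ca).toEquiv, F.card_Ta]; exact h16)]
  exact P.not_dvd_index

theorem Core.transfer_Ca (hC : F.Core) (K : Subgroup W12) [DecidablePred (· ∈ K)] (hK : ∀ w, w ∈ K → W12.InTa w)
    (hcard : (Finset.univ.filter (· ∈ K)).card = 8) {v : W12} (hv : W12.InTa v) (hv2 : v * v = 1)
    (hno : ∀ g ∈ F.Ca, ∀ w ∈ K, g * F.hom v * g⁻¹ = F.hom w → False) :
    ∃ N : Subgroup G, N ≤ F.Ca ∧ F.Ca ≤ normalizer (N : Set G) ∧ (∀ x ∈ F.Ca, x * x ∈ N) ∧ F.hom v ∉ N := by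
  have hle : K.map F.hom ≤ F.Ta := map_mono hK
  refine transfer_in F.Ta_pgroup F.Ta_le_Ca hC.not_dvd_index_Ta hle ?_
    (F.Ta_le_Ca (F.mem_Ta.2 hv)) (by rw [← map_mul, hv2, map_one])
    fun g hg ⟨w, hw, e⟩ => hno g hg w hw e.symm
  have h := ((K.map F.hom).subgroupOf F.Ta).card_mul_index
  rw [Nat.card_congr (subgroupOfEquivOfLe hle).toEquiv, F.card_map K, hcard, F.card_Ta] at h
  show ((K.map F.hom).subgroupOf F.Ta).index = 2
  omega

theorem Core.rel_z_V (hC : F.Core) {v : W12} (hv : v ∈ [W12.gz, W12.gu, W12.gu']) : F.Rel W12.gz v := by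
  simp only [List.mem_cons, List.not_mem_nil, or_false] at hv
  rcases hv with rfl | rfl | rfl
  exacts [IsConj.refl _, hC.zu, hC.rel_u']

theorem Core.transfer_a (hC : F.Core) :
    ∃ N : Subgroup G, N ≤ F.Ca ∧ F.Ca ≤ normalizer (N : Set G) ∧ (∀ x ∈ F.Ca, x * x ∈ N) ∧ F.a ∉ N := by
  obtain ⟨h1, -, -, h4, -, -, -, -, -, -, h11, -, -, -, -, -, h17, -⟩ := W12.ta_halves
  refine hC.transfer_Ca W12.subQa h1 (by decide +kernel) h4 h17 fun g hg w hw e => h11 ?_
  have e' : g * F.a * g⁻¹ = F.a := mul_inv_eq_iff_eq_mul.2 (mem_centralizer_singleton_iff.1 hg)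
  have : W12.ga = w := F.hom_injective (e'.symm.trans e)
  exact this ▸ hw

theorem Core.transfer_side (hC : F.Core) {y : W12} (hy : y = W12.gs ∨ y = W12.gas) :
    ∃ N : Subgroup G, N ≤ F.Ca ∧ F.Ca ≤ normalizer (N : Set G) ∧ (∀ x ∈ F.Ca, x * x ∈ N) ∧ F.hom y ∉ N := by
  obtain ⟨-, h2, -, -, h5, h6, -, -, -, -, -, -, -, -, -, -, -, h18, h19, has, haas, hsne, hasne⟩ := W12.ta_halves
  obtain ⟨hyT, hy2, hny, hnay, hne⟩ : W12.InTa y ∧ y * y = 1 ∧ ¬ F.Rel W12.gz y ∧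
      ¬ F.Rel W12.gz (W12.ga * y) ∧ y ≠ W12.ga := by
    rcases hy with rfl | rfl
    · exact ⟨h5, h18, hC.not_z_s, has.symm ▸ hC.not_z_as, hsne⟩
    · exact ⟨h6, h19, hC.not_z_as, haas.symm ▸ hC.not_z_s, hasne⟩
  refine hC.transfer_Ca W12.subE1 h2 (by decide +kernel) hyT hy2 fun g hg w hw e => ?_
  have hga : g * F.a * g⁻¹ = F.a := mul_inv_eq_iff_eq_mul.2 (mem_centralizer_singleton_iff.1 hg)
  have hyi : W12.Inv2 y := ⟨by rcases hy with rfl | rfl <;> decide, hy2⟩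
  rcases W12.E1_cases w hw (F.hom_invol.1 (e ▸ invol_conj (F.hom_invol.2 hyi) g)) with h | h | h
  · exact hny ((hC.rel_z_V h).trans (isConj_iff.2 ⟨g, e⟩).symm)
  · subst h
    exact hne (F.hom_injective (mul_left_cancel (mul_right_cancel (e.trans hga.symm :
      g * F.hom y * g⁻¹ = g * F.hom W12.ga * g⁻¹))))
  · refine hnay ((hC.rel_z_V h).trans (isConj_iff.2 ⟨g, ?_⟩).symm)
    rw [map_mul, map_mul, ← e]
    calc g * (F.hom W12.ga * F.hom y) * g⁻¹ = g * F.a * g⁻¹ * (g * F.hom y * g⁻¹) := by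
          show g * (F.hom W12.ga * F.hom y) * g⁻¹ = g * F.hom W12.ga * g⁻¹ * (g * F.hom y * g⁻¹)
          group
      _ = _ := by rw [hga]; rfl

/-- no element of the centraliser of `a` fuses `z` to `u` or `u'` -/
abbrev Isolated (F : Frame G) : Prop :=
  ∀ c ∈ F.Ca, c * F.z * c⁻¹ ≠ F.u ∧ c * F.z * c⁻¹ ≠ F.hom W12.gu'

theorem Core.u_not_Qu (hC : F.Core) (hiso : F.Isolated) {g : G} (hg : g ∈ F.Ca) {w : W12} (hw : w ∈ W12.subQu)
    (e : g * F.u * g⁻¹ = F.hom w) : False := by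
  obtain ⟨-, -, h3, -, -, -, -, -, -, -, -, h12, h13, -⟩ := W12.ta_halves
  rcases W12.cent_ga_z w ((W12.ta_iff w).1 (h3 w hw)) (F.hom_invol.1 (e ▸ invol_conj F.u_ord g)) with
    rfl | rfl | rfl | h
  · refine (hiso g⁻¹ (inv_mem hg)).1 ?_
    rw [show F.z = F.hom W12.gz from rfl, ← e]
    group
  · exact h12 hw
  · exact h13 hw
  · exact hC.not_z h ((show F.Rel W12.gz W12.gu from hC.zu).trans (isConj_iff.2 ⟨g, e⟩))

theorem Core.transfer_u (hC : F.Core) (hiso : F.Isolated) {y : W12} (hy : y = W12.gu ∨ y = W12.gu * W12.ga) :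
    ∃ N : Subgroup G, N ≤ F.Ca ∧ F.Ca ≤ normalizer (N : Set G) ∧ (∀ x ∈ F.Ca, x * x ∈ N) ∧ F.hom y ∉ N := by
  obtain ⟨-, -, h3, -, -, -, h7, h8, -, -, -, -, -, h14, h15, h16, h17, -⟩ := W12.ta_halves
  rcases hy with rfl | rfl
  · exact hC.transfer_Ca W12.subQu h3 (by decide +kernel) h7 h16 fun g hg w hw e => hC.u_not_Qu hiso hg hw e
  · refine hC.transfer_Ca W12.subQu h3 (by decide +kernel) h8 h15
      fun g hg w hw e => hC.u_not_Qu hiso hg (mul_mem hw h14) ?_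
    have hga : g * F.a * g⁻¹ = F.a := mul_inv_eq_iff_eq_mul.2 (mem_centralizer_singleton_iff.1 hg)
    have ha2 : F.hom W12.ga * F.hom W12.ga = 1 := by rw [← map_mul, h17, map_one]
    rw [map_mul, ← e, map_mul]
    calc g * F.u * g⁻¹ = g * F.u * (F.hom W12.ga * F.hom W12.ga) * g⁻¹ := by rw [ha2, mul_one]
      _ = g * (F.hom W12.gu * F.hom W12.ga) * g⁻¹ * (g * F.a * g⁻¹) := by
          show g * F.hom W12.gu * (F.hom W12.ga * F.hom W12.ga) * g⁻¹ =
            g * (F.hom W12.gu * F.hom W12.ga) * g⁻¹ * (g * F.hom W12.ga * g⁻¹)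
          group
      _ = _ := by rw [hga]; rfl

theorem sq_z (F : Frame G) {N : Subgroup G} (hN : ∀ x ∈ F.Ca, x * x ∈ N) : F.z ∈ N := by
  obtain ⟨-, -, -, -, -, -, -, -, h9, h10, -⟩ := W12.ta_halves
  show F.hom W12.gz ∈ N
  rw [← h10, map_mul]
  exact hN _ (F.Ta_le_Ca (F.mem_Ta.2 h9))

variable {W : Subgroup G}

/-- **the isolated case** -/
theorem Signal.cent_a_le_isolated (hS : F.Signal W) (hC : F.Core) (hiso : F.Isolated) :
    F.Ca ≤ normalizer (W : Set G) := by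
  set S : Set G := {x | x ∈ F.Ca ∧ Odd (orderOf x)} with hSdef
  set R := closure S with hR
  have hRC : R ≤ F.Ca := (closure_le _).2 fun x hx => hx.1
  have hRn : F.Ca ≤ normalizer (R : Set G) := fun c hc => conjBy_eq_self_iff.1 (by
    refine eq_of_le_of_card_ge ?_ (CfsgLib.Coprime.card_conjBy c R).ge
    show R.map _ ≤ R
    rw [hR, MonoidHom.map_closure]
    refine (closure_le _).2 ?_
    rintro _ ⟨x, hx, rfl⟩
    refine subset_closure ⟨mul_mem (mul_mem hc hx.1) (inv_mem hc), ?_⟩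
    show Odd (orderOf (MulAut.conj c x))
    rw [MulEquiv.orderOf_eq]
    exact hx.2)
  have hRN : ∀ N : Subgroup G, (∀ x ∈ F.Ca, x * x ∈ N) → R ≤ N := fun N hN =>
    (closure_le _).2 fun x hx => odd_mem_of_sq hx.2 (hN x hx.1)
  -- five pairs avoid the subgroup generated by the elements of odd order
  have hout : ∀ y ∈ [W12.gu, W12.ga, W12.gs, W12.gas, W12.gu * W12.ga],
      F.hom y ∉ R ∧ F.hom (y * W12.gz) ∉ R := by
    intro y hy
    obtain ⟨N, hN2, hyN⟩ : ∃ N : Subgroup G, (∀ x ∈ F.Ca, x * x ∈ N) ∧ F.hom y ∉ N := by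
      simp only [List.mem_cons, List.not_mem_nil, or_false] at hy
      rcases hy with rfl | rfl | rfl | rfl | rfl
      · exact (hC.transfer_u hiso (Or.inl rfl)).imp fun N h => ⟨h.2.2.1, h.2.2.2⟩
      · exact hC.transfer_a.imp fun N h => ⟨h.2.2.1, h.2.2.2⟩
      · exact (hC.transfer_side (Or.inl rfl)).imp fun N h => ⟨h.2.2.1, h.2.2.2⟩
      · exact (hC.transfer_side (Or.inr rfl)).imp fun N h => ⟨h.2.2.1, h.2.2.2⟩
      · exact (hC.transfer_u hiso (Or.inr rfl)).imp fun N h => ⟨h.2.2.1, h.2.2.2⟩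
    refine ⟨fun h => hyN (hRN N hN2 h), fun h => hyN ?_⟩
    have h1 := mul_mem (hRN N hN2 h) (inv_mem (F.sq_z hN2))
    rwa [map_mul, show F.hom W12.gz = F.z from rfl, mul_inv_cancel_right] at h1
  set P := F.Ta ⊓ R with hP
  have hPmem : ∀ x ∈ P, ∃ w, F.hom w = x ∧
      (w ∈ [1, W12.gz, W12.gu * W12.gs, W12.gu * W12.gs * W12.gz] ∨
        w ∈ [W12.gu * W12.gas, W12.gu * W12.gas * W12.gz]) := by
    rintro _ ⟨⟨w, hw, rfl⟩, hwR⟩
    refine ⟨w, rfl, ?_⟩
    rcases W12.ta_cases w hw with ⟨y, hy, rfl | rfl⟩ | h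
    · exact absurd hwR (hout _ hy).1
    · exact absurd hwR (hout _ hy).2
    · exact h
  obtain ⟨c1, c2, c3⟩ := W12.cyclic_lists
  have hpow : ∀ (g w : W12), (w = 1 ∨ w = g ∨ w = g * g ∨ w = g * g * g) → F.hom w ∈ zpowers (F.hom g) := by
    intro g w h
    have hg := mem_zpowers (F.hom g)
    rcases h with rfl | rfl | rfl | rfl
    · rw [map_one]; exact one_mem _
    · exact hg
    · rw [map_mul]; exact mul_mem hg hg
    · rw [map_mul, map_mul]; exact mul_mem (mul_mem hg hg) hg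
  obtain ⟨y, hy⟩ : ∃ y, P ≤ zpowers y := by
    by_cases hex : ∃ v ∈ [W12.gu * W12.gs, W12.gu * W12.gs * W12.gz], F.hom v ∈ R
    · obtain ⟨v, hv, hvR⟩ := hex
      refine ⟨F.hom (W12.gu * W12.gs), fun x hx => ?_⟩
      obtain ⟨w, rfl, h | h⟩ := hPmem x hx
      · exact hpow _ w (c1 w h)
      · exfalso
        have h1 : F.hom (v * w) ∈ R := by rw [map_mul]; exact mul_mem hvR hx.2
        rcases c3 v hv w h with e | e <;> rw [e] at h1
        · exact (hout W12.ga (by simp)).1 h1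
        · exact (hout W12.ga (by simp)).2 h1
    · refine ⟨F.hom (W12.gu * W12.gas), fun x hx => ?_⟩
      obtain ⟨w, rfl, h⟩ := hPmem x hx
      refine hpow _ w (c2 w ?_)
      simp only [List.mem_cons, List.not_mem_nil, or_false] at h ⊢
      push Not at hex
      rcases h with (h | h | h | h) | h
      · exact Or.inl h
      · exact Or.inr (Or.inl h)
      · exact absurd hx.2 (hex w (by simp [h]))
      · exact absurd hx.2 (hex w (by simp [h]))
      · exact Or.inr (Or.inr h)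
  have hRodd : Odd (Nat.card R) := odd_of_cyclic (F.Ta_pgroup.to_le inf_le_left) inf_le_right
    (not_dvd_index_inf F.Ta_pgroup F.Ta_le_Ca hC.not_dvd_index_Ta hRC hRn) hy
    ((closure_le _).2 fun x hx => subset_closure ⟨subset_closure hx, hx.2⟩)
  have hRM : R ≤ normalizer (W : Set G) :=
    ((le_OC hRC hRodd hRn).trans (hS.theta F.a (F.hom_mem _) F.a_ord)).trans le_normalizer
  intro c hc
  obtain ⟨n, hn, t, ht, rfl⟩ := exists_factor hRn hC.not_dvd_index_Ta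
    (fun x hx ho => subset_closure ⟨hx, ho⟩) hc
  exact mul_mem (hRM hn) (hS.T_le (F.Ta_le_T ht))

end Frame

end CfsgLib.Invol.MTwelveType
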