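import Cfsg.Agent.Lib.Invol.MTwelveType.Defs
import Cfsg.Agent.Lib.Spor.ExtraspecialSubgroup
import Cfsg.Agent.S3344
import Mathlib.GroupTheory.GroupAction.Quotient
import Mathlib.GroupTheory.SpecificGroups.Alternating

/-!
# Recognition once the odd core of the centraliser of the central involution is trivial

The centraliser of `z` acts on the three pairs of the pure elementary subgroup with kernel the extraspecial
subgroup, so the recognition theorem for an extraspecial core with symmetric quotient applies.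
-/

set_option autoImplicit false
set_option linter.unusedSectionVars false
set_option linter.style.haveILetI false
set_option maxRecDepth 10000

namespace CfsgLib.Invol.MTwelveType

open Subgroup
open CfsgLib.Invol
open CfsgLib.Coprime (conjBy)

universe u

namespace W12

abbrev InQ (w : W12) : Prop := par w.p = par w.q

theorem extra_comm : ∀ a : W12, InQ a → ∀ b : W12, InQ b → a * b * a⁻¹ * b⁻¹ = 1 ∨ a * b * a⁻¹ * b⁻¹ = gz := by
  decide +kernel

theorem extra_sq : ∀ a : W12, InQ a → a * a = 1 ∨ a * a = gz := by decide +kernel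

theorem extra_center : ∀ a : W12, InQ a → ((∀ b : W12, InQ b → b * a = a * b) ↔ a = 1 ∨ a = gz) := by
  decide +kernel

theorem extra_gens : InQ gz ∧ InQ gu ∧ InQ ga ∧ InQ gp ∧ InQ gs ∧ InE0 gu ∧ gu * gs ≠ gs * gu ∧ gz * gu = gu' ∧
    gu ≠ gz ∧ gu' ≠ gz := by decide +kernel

theorem E0_sq : ∀ e : W12, InE0 e → e * e = 1 := by decide +kernel

theorem conj_gu : ∀ w : W12, w * gu * w⁻¹ = gu ∨ w * gu * w⁻¹ = gu' := by decide +kernel

/-- an element of the Sylow subgroup exchanging the two pairs outside the four group -/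
theorem mover : ∀ e : W12, InE0 e → Inv2 e → e ∉ [gz, gu, gu'] →
    (⟨1, 0, 0, 0⟩ : W12) * e * (⟨1, 0, 0, 0⟩ : W12)⁻¹ ≠ e ∧
    (⟨1, 0, 0, 0⟩ : W12) * e * (⟨1, 0, 0, 0⟩ : W12)⁻¹ ≠ gz * e := by decide +kernel

/-- the pair of an involution of the pure elementary subgroup -/
def pairOf (w : W12) : Fin 3 := if w = gu ∨ w = gu' then 0 else if w = gp ∨ w = gz * gp then 1 else 2

theorem pairOf_eq : ∀ a : W12, InE0 a → Inv2 a → a ≠ gz → ∀ b : W12, InE0 b → Inv2 b → b ≠ gz →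
    pairOf a = pairOf b → b = a ∨ b = gz * a := by decide +kernel

end W12

variable {G : Type u} [Group G] [Finite G]

namespace Frame

variable (F : Frame G)

theorem Q_extraspecial : Cfsg.IsExtraspecial 2 F.Q := by
  refine CfsgLib.Spor.LargeQ.isExtraspecial_sub (Q := F.Q) (F.T.2.to_le F.Q_le) le_rfl (z := F.z) F.z_ord
    (F.mem_Q.2 W12.extra_gens.1) ?_ ?_ ?_ ⟨F.u, F.mem_Q.2 W12.extra_gens.2.1, F.hom W12.gs,
      F.mem_Q.2 W12.extra_gens.2.2.2.2.1, fun h => W12.extra_gens.2.2.2.2.2.2.1 (F.hom_commute.1 h)⟩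
  · rintro _ ⟨a, ha, rfl⟩ _ ⟨b, hb, rfl⟩
    rw [← map_mul, ← map_inv, ← map_mul, ← map_inv, ← map_mul, F.hom_eq_one]
    exact (W12.extra_comm a ha b hb).imp id fun h => congrArg F.hom h
  · rintro _ ⟨a, ha, rfl⟩
    rw [← map_mul, F.hom_eq_one]
    exact (W12.extra_sq a ha).imp id fun h => congrArg F.hom h
  · rintro _ ⟨a, ha, rfl⟩
    rw [F.hom_eq_one]
    constructor
    · intro h
      exact ((W12.extra_center a ha).1 fun b hb => F.hom_commute.1 (h _ ⟨b, hb, rfl⟩)).imp id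
        fun e => congrArg F.hom e
    · rintro (rfl | e) _ ⟨b, hb, rfl⟩
      · rw [map_one, one_mul, mul_one]
      · exact (F.hom_commute.2 ((W12.extra_center a ha).2 (Or.inr (F.hom_injective e)) b hb)).eq

theorem fixPair_of_mem {t : G} (ht : t ∈ (F.T : Subgroup G)) : F.FixPair t := by
  obtain ⟨w, rfl⟩ := F.exists_of_mem ht
  show F.hom w * F.hom W12.gu * (F.hom w)⁻¹ = F.hom W12.gu ∨ F.hom w * F.hom W12.gu * (F.hom w)⁻¹ = F.hom W12.gu'
  rw [F.hom_conj]
  exact (W12.conj_gu w).imp (fun h => congrArg (fun a => F.hom a) h) (fun h => congrArg (fun a => F.hom a) h)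

theorem not_fix_of_rot {n : G} (hn : F.Rot n) : ¬ F.FixPair n := by
  intro h
  have hu : F.u ∈ F.E0 := F.mem_E0.2 W12.extra_gens.2.2.2.2.2.1
  have hcase : n * F.u * n⁻¹ * F.u⁻¹ = 1 ∨ n * F.u * n⁻¹ * F.u⁻¹ = F.z := by
    rcases h with e | e <;> rw [e]
    · exact Or.inl (mul_inv_cancel _)
    · right
      rw [mul_inv_eq_iff_eq_mul, ← W12.extra_gens.2.2.2.2.2.2.2.1, map_mul]
      rfl
  rcases hn F.u hu hcase with e | e
  · have := F.u_ord
    rw [e, orderOf_one] at this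
    omega
  · exact W12.extra_gens.2.2.2.2.2.2.2.2.1 (F.hom_injective e)

theorem exists_not_fix (hF : F.Factor) : ∃ n ∈ F.Cz, ¬ F.FixPair n := by
  obtain ⟨n, hn, hr⟩ := hF.nu
  exact ⟨n, hn.2, F.not_fix_of_rot hr⟩

variable (hF : F.Factor) (hθ : θ F.z = ⊥)
include hF hθ

theorem norm_Q_of_mem {g : G} (hg : g ∈ F.Cz) : g ∈ normalizer (F.Q : Set G) ⊓ F.Cz := by
  obtain ⟨o, ho, n, hn, rfl⟩ := hF.factor g hg
  rw [hθ, mem_bot] at ho
  rwa [ho, one_mul]

theorem fixPair_iff {g : G} (hg : g ∈ F.Cz) : F.FixPair g ↔ g ∈ (F.T : Subgroup G) := by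
  refine ⟨fun h => ?_, F.fixPair_of_mem⟩
  obtain ⟨o, ho, t, ht, rfl⟩ := hF.fix g (F.norm_Q_of_mem hF hθ hg) h
  rw [hθ, mem_bot] at ho
  rwa [ho, one_mul]

theorem exists_img {g : G} (hg : g ∈ F.Cz) :
    ∃ w : W12, F.hom w = g * F.u * g⁻¹ ∧ W12.InE0 w ∧ W12.Inv2 w ∧ w ≠ W12.gz := by
  obtain ⟨w, hw, he⟩ := (mem_normalizer_iff.1 (hF.norm_E0 (F.norm_Q_of_mem hF hθ hg)) F.u).1
    (F.mem_E0.2 W12.extra_gens.2.2.2.2.2.1)
  refine ⟨w, he, hw, F.hom_invol.1 (he ▸ invol_conj F.u_ord g), ?_⟩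
  rintro rfl
  have h1 : g * F.u * g⁻¹ = g * F.z * g⁻¹ := by
    rw [← he, mem_centralizer_singleton_iff.1 hg, mul_inv_cancel_right]
    rfl
  exact W12.extra_gens.2.2.2.2.2.2.2.2.1 (F.hom_injective (mul_left_cancel (mul_right_cancel h1)))

theorem card_T_Cz : Nat.card ((F.T : Subgroup G).subgroupOf F.Cz) = 64 := by
  rw [Nat.card_congr (subgroupOfEquivOfLe F.T_le_Cz).toEquiv, F.card_T]

theorem pair_key {a b : G} (ha : a ∈ F.Cz) (hb : b ∈ F.Cz) {wa wb : W12} (ea : F.hom wa = a * F.u * a⁻¹)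
    (eb : F.hom wb = b * F.u * b⁻¹) (h : wb = wa ∨ wb = W12.gz * wa) : a⁻¹ * b ∈ (F.T : Subgroup G) := by
  refine (F.fixPair_iff hF hθ (mul_mem (inv_mem ha) hb)).1 ?_
  have hconj : a⁻¹ * b * F.u * (a⁻¹ * b)⁻¹ = a⁻¹ * F.hom wb * a := by rw [eb]; group
  rcases h with e | e
  · refine Or.inl (hconj.trans ?_)
    rw [e, ea]; group
  · refine Or.inr (hconj.trans ?_)
    have hza : a⁻¹ * F.z = F.z * a⁻¹ := mem_centralizer_singleton_iff.1 (inv_mem ha)
    calc a⁻¹ * F.hom wb * a = (a⁻¹ * F.z) * F.hom wa * a := by rw [e, map_mul, ← mul_assoc]; rfl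
      _ = F.z * (a⁻¹ * (a * F.u * a⁻¹) * a) := by rw [hza, ea]; group
      _ = F.z * F.u := by group
      _ = F.hom W12.gu' := by rw [← W12.extra_gens.2.2.2.2.2.2.2.1, map_mul]; rfl

theorem pair_map : ∃ f : F.Cz ⧸ (F.T : Subgroup G).subgroupOf F.Cz → Fin 3, Function.Injective f ∧
    ∀ c, ∃ w : W12, F.hom w = (c.out : G) * F.u * (c.out : G)⁻¹ ∧ W12.InE0 w ∧ W12.Inv2 w ∧ w ≠ W12.gz ∧
      W12.pairOf w = f c := by
  choose img himg he hi hz using fun g : F.Cz => F.exists_img hF hθ g.2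
  refine ⟨fun c => W12.pairOf (img c.out), fun c d h => ?_, fun c =>
    ⟨img c.out, himg _, he _, hi _, hz _, rfl⟩⟩
  have hm : (c.out⁻¹ * d.out : F.Cz) ∈ (F.T : Subgroup G).subgroupOf F.Cz := by
    rw [mem_subgroupOf, coe_mul, coe_inv]
    exact F.pair_key hF hθ c.out.2 d.out.2 (himg _) (himg _)
      (W12.pairOf_eq _ (he _) (hi _) (hz _) _ (he _) (hi _) (hz _) h)
  have := QuotientGroup.eq.2 hm
  rwa [QuotientGroup.out_eq', QuotientGroup.out_eq'] at this

theorem index_T_Cz : ((F.T : Subgroup G).subgroupOf F.Cz).index = 3 := by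
  obtain ⟨f, hf, -⟩ := F.pair_map hF hθ
  have hle : ((F.T : Subgroup G).subgroupOf F.Cz).index ≤ 3 :=
    (Nat.card_le_card_of_injective f hf).trans (Nat.card_fin 3).le
  have hne : ((F.T : Subgroup G).subgroupOf F.Cz).index ≠ 1 := by
    intro h
    obtain ⟨n, hn, hnf⟩ := F.exists_not_fix hF
    have hm : (⟨n, hn⟩ : F.Cz) ∈ (F.T : Subgroup G).subgroupOf F.Cz := by
      rw [index_eq_one.1 h]; exact mem_top _
    exact hnf (F.fixPair_of_mem hm)
  have hodd := F.not_dvd_index_sub F.T_le_Cz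
  have h0 : ((F.T : Subgroup G).subgroupOf F.Cz).index ≠ 0 := index_ne_zero_of_finite
  omega

/-- every pair of the pure elementary subgroup is an image of the first one -/
theorem exists_pair {e : W12} (he : W12.InE0 e) (hi : W12.Inv2 e) (hz : e ≠ W12.gz) :
    ∃ g ∈ F.Cz, ∃ w : W12, F.hom w = g * F.u * g⁻¹ ∧ (e = w ∨ e = W12.gz * w) := by
  obtain ⟨f, hf, hw⟩ := F.pair_map hF hθ
  have hbij : Function.Bijective f :=
    (Nat.bijective_iff_injective_and_card f).2 ⟨hf, (F.index_T_Cz hF hθ).trans (Nat.card_fin 3).symm⟩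
  obtain ⟨c, hc⟩ := hbij.2 (W12.pairOf e)
  obtain ⟨w, hwe, hw0, hwi, hwz, hwp⟩ := hw c
  exact ⟨_, c.out.2, w, hwe, W12.pairOf_eq w hw0 hwi hwz e he hi hz (hwp.trans hc)⟩

theorem normal_Q_Cz : (F.Q.subgroupOf F.Cz).Normal := by
  refine ⟨fun q hq g => ?_⟩
  rw [mem_subgroupOf] at hq ⊢
  exact (mem_normalizer_iff.1 (F.norm_Q_of_mem hF hθ g.2).1 _).1 hq

theorem normalCore_T : ((F.T : Subgroup G).subgroupOf F.Cz).normalCore = F.Q.subgroupOf F.Cz := by
  set S := (F.T : Subgroup G).subgroupOf F.Cz with hS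
  haveI := F.normal_Q_Cz hF hθ
  have hQc : F.Q.subgroupOf F.Cz ≤ S.normalCore :=
    normal_le_normalCore.2 (comap_mono F.Q_le)
  have h32 : Nat.card (F.Q.subgroupOf F.Cz) = 32 := by
    rw [Nat.card_congr (subgroupOfEquivOfLe (F.Q_le.trans F.T_le_Cz)).toEquiv, F.card_Q]
  have hneS : S.normalCore ≠ S := by
    intro h
    haveI : S.Normal := h ▸ normalCore_normal S
    obtain ⟨n, hn, hnf⟩ := F.exists_not_fix hF
    set c : W12 := ⟨1, 0, 0, 0⟩ with hc
    obtain ⟨e, hee, he0, hei, hez⟩ := F.exists_img hF hθ hn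
    have heu : e ≠ W12.gu := fun h => hnf (Or.inl (by rw [← hee, h]; rfl))
    have heu' : e ≠ W12.gu' := fun h => hnf (Or.inr (by rw [← hee, h]))
    obtain ⟨hm1, hm2⟩ := W12.mover e he0 hei (by simp [hez, heu, heu'])
    have ht : n⁻¹ * F.hom c * n ∈ (F.T : Subgroup G) := by
      have := Subgroup.Normal.conj_mem ‹S.Normal› ⟨F.hom c, F.T_le_Cz (F.hom_mem c)⟩ (F.hom_mem c) ⟨n, hn⟩⁻¹
      simpa [hS, mem_subgroupOf, mul_assoc] using this
    have hcalc : ∀ r : G, n⁻¹ * F.hom c * n * F.u * (n⁻¹ * F.hom c * n)⁻¹ = r →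
        F.hom (c * e * c⁻¹) = n * r * n⁻¹ := by
      intro r hr
      rw [← F.hom_conj, hee, ← hr]
      group
    rcases F.fixPair_of_mem ht with h1 | h1
    · exact hm1 (F.hom_injective ((hcalc _ h1).trans hee.symm))
    · refine hm2 (F.hom_injective ((hcalc _ h1).trans ?_))
      rw [← W12.extra_gens.2.2.2.2.2.2.2.1, map_mul, map_mul, hee]
      have hzn : n * F.z = F.z * n := mem_centralizer_singleton_iff.1 hn
      show n * (F.z * F.u) * n⁻¹ = F.z * (n * F.u * n⁻¹)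
      rw [← mul_assoc, hzn]
      group
  refine (eq_of_le_of_card_ge hQc ?_).symm
  rw [h32]
  have h1 : Nat.card S.normalCore ∣ 2 ^ 6 := by
    have := card_dvd_of_le (normalCore_le S)
    rwa [F.card_T_Cz hF hθ] at this
  have h2 : Nat.card S.normalCore ≠ 64 := fun h =>
    hneS (eq_of_le_of_card_ge (normalCore_le S) (by rw [F.card_T_Cz hF hθ, h]))
  obtain ⟨k, hk6, hk⟩ := (Nat.dvd_prime_pow Nat.prime_two).1 h1
  rw [hk] at h2 ⊢
  have hk5 : k ≤ 5 := by
    by_contra h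
    exact h2 (by rw [show k = 6 by omega]; norm_num)
  exact le_trans (Nat.pow_le_pow_right (by norm_num) hk5) (by norm_num)

theorem pCore_Cz : Cfsg.pCore 2 F.Cz = F.Q.subgroupOf F.Cz := by
  haveI : Fact (Nat.Prime 2) := ⟨Nat.prime_two⟩
  haveI := F.normal_Q_Cz hF hθ
  refine le_antisymm ?_ (CfsgLib.Coprime.le_pCore
    ((F.T.2.to_le F.Q_le).of_equiv (subgroupOfEquivOfLe (F.Q_le.trans F.T_le_Cz)).symm))
  rw [← F.normalCore_T hF hθ]
  haveI : (Cfsg.pCore 2 F.Cz).Normal := CfsgLib.Coprime.pCore_normal' 2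
  refine normal_le_normalCore.2 ?_
  let P : Sylow 2 F.Cz := (F.T.2.of_equiv (subgroupOfEquivOfLe F.T_le_Cz).symm).toSylow
    (F.not_dvd_index_sub F.T_le_Cz)
  have h := P.3 (IsPGroup.to_sup_of_normal_right P.2 (CfsgLib.Coprime.pCore_isPGroup 2)) le_sup_left
  exact le_sup_right.trans h.le

theorem exists_quot_equiv : Nonempty (F.Cz ⧸ Cfsg.pCore 2 F.Cz ≃* Equiv.Perm (Fin 3)) := by
  set S := (F.T : Subgroup G).subgroupOf F.Cz with hS
  haveI := F.normal_Q_Cz hF hθ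
  have hker : (MulAction.toPermHom F.Cz (F.Cz ⧸ S)).ker = F.Q.subgroupOf F.Cz := by
    rw [← Subgroup.normalCore_eq_ker, hS, F.normalCore_T hF hθ]
  haveI : Fintype (F.Cz ⧸ S) := Fintype.ofFinite _
  have hc3 : Nat.card (F.Cz ⧸ S) = 3 := F.index_T_Cz hF hθ
  let ε : Equiv.Perm (F.Cz ⧸ S) ≃* Equiv.Perm (Fin 3) := (Finite.equivFinOfCardEq hc3).permCongrHom
  have hkcard : Nat.card (F.Cz ⧸ (MulAction.toPermHom F.Cz (F.Cz ⧸ S)).ker) = 6 := by
    have h1 := (MulAction.toPermHom F.Cz (F.Cz ⧸ S)).ker.card_mul_index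
    have h2 := S.card_mul_index
    rw [F.card_T_Cz hF hθ, F.index_T_Cz hF hθ] at h2
    have h32 : Nat.card (MulAction.toPermHom F.Cz (F.Cz ⧸ S)).ker = 32 := by
      rw [hker, Nat.card_congr (subgroupOfEquivOfLe (F.Q_le.trans F.T_le_Cz)).toEquiv, F.card_Q]
    rw [h32, ← h2] at h1
    show (MulAction.toPermHom F.Cz (F.Cz ⧸ S)).ker.index = 6
    omega
  have hsurj : Function.Surjective (MulAction.toPermHom F.Cz (F.Cz ⧸ S)) := by
    rw [← MonoidHom.range_eq_top]
    refine eq_of_le_of_card_ge le_top ?_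
    rw [card_top, Nat.card_congr ε.toEquiv, ← Nat.card_congr (QuotientGroup.quotientKerEquivRange _).toEquiv,
      hkcard, Nat.card_perm, Nat.card_fin]
    decide
  exact ⟨((QuotientGroup.quotientMulEquivOfEq ((F.pCore_Cz hF hθ).trans hker.symm)).trans
    (QuotientGroup.quotientKerEquivOfSurjective _ hsurj)).trans ε⟩

theorem pCore_map : (Cfsg.pCore 2 F.Cz).map F.Cz.subtype = F.Q := by
  rw [F.pCore_Cz hF hθ, subgroupOf_map_subtype, inf_eq_left.2 (F.Q_le.trans F.T_le_Cz)]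

theorem cent_sylow_three (X : Sylow 3 F.Cz) :
    F.Q ⊓ centralizer (((X : Subgroup F.Cz).map F.Cz.subtype : Subgroup G) : Set G) = zpowers F.z := by
  haveI : Fact (Nat.Prime 3) := ⟨Nat.prime_three⟩
  refine le_antisymm ?_ (zpowers_le.2 ⟨F.mem_Q.2 W12.extra_gens.1, mem_centralizer_iff.2 ?_⟩)
  swap
  · rintro _ ⟨x, -, rfl⟩
    exact mem_centralizer_singleton_iff.1 x.2
  rintro q ⟨hq, hqX⟩
  have h3 : 3 ∣ Nat.card F.Cz := F.index_T_Cz hF hθ ▸ ((F.T : Subgroup G).subgroupOf F.Cz).index_dvd_card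
  obtain ⟨x, hxX, hx1⟩ : ∃ x ∈ (X : Subgroup F.Cz), x ≠ 1 :=
    (ne_bot_iff_exists_ne_one.1 (X.ne_bot_of_dvd_card h3)).elim fun x hx => ⟨x.1, x.2, fun h => hx (Subtype.ext h)⟩
  have hrot : F.Rot (x : G) := by
    rintro _ ⟨e, he, rfl⟩ hfix
    by_contra hne
    push Not at hne
    have he1 : e ≠ 1 := fun h => hne.1 (by rw [h, map_one])
    have hez : e ≠ W12.gz := fun h => hne.2 (by rw [h]; rfl)
    have hei : W12.Inv2 e := ⟨he1, W12.E0_sq e he⟩
    obtain ⟨g, hg, w, hw, hew⟩ := F.exists_pair hF hθ he hei hez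
    obtain ⟨v, hv, hv0, hvi, hvz⟩ := F.exists_img hF hθ (mul_mem x.2 hg)
    have hxz : (x : G) * F.z * (x : G)⁻¹ = F.z := by
      rw [mem_centralizer_singleton_iff.1 x.2, mul_inv_cancel_right]
    -- the image of the pair is the pair
    have hvw : v = w ∨ v = W12.gz * w := by
      have hxe : ∀ r : W12, (x : G) * F.hom e * (x : G)⁻¹ = F.hom r → r = e ∨ r = W12.gz * e := by
        intro r hr
        rw [hr, mul_inv_eq_one, mul_inv_eq_iff_eq_mul] at hfix
        refine hfix.imp (fun h => F.hom_injective h) fun h => F.hom_injective ?_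
        rw [map_mul]; exact h
      have hxv : F.hom v = (x : G) * F.hom w * (x : G)⁻¹ := by rw [hv, hw]; group
      rcases hew with rfl | rfl
      · exact hxe v hxv.symm
      · rcases hxe (W12.gz * v) (by
            rw [map_mul, map_mul, hxv]
            calc (x : G) * (F.hom W12.gz * F.hom w) * (x : G)⁻¹
                = ((x : G) * F.z * (x : G)⁻¹) * ((x : G) * F.hom w * (x : G)⁻¹) := by
                  show (x : G) * (F.z * F.hom w) * (x : G)⁻¹ = _
                  group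
              _ = _ := by rw [hxz]; rfl) with h | h
        · exact Or.inl (mul_left_cancel h)
        · exact Or.inr (mul_left_cancel h)
    have hT := F.pair_key hF hθ hg (mul_mem x.2 hg) hw hv hvw
    obtain ⟨i, hi⟩ := X.2 ⟨x, hxX⟩
    obtain ⟨j, hj⟩ := F.T.2 ⟨_, hT⟩
    have hi' : (x : G) ^ 3 ^ i = 1 := congrArg (fun a : (X : Subgroup F.Cz) => ((a : F.Cz) : G)) hi
    have hj' : (x : G) ^ 2 ^ j = 1 := by
      have := congrArg Subtype.val hj
      simp only [SubmonoidClass.coe_pow, OneMemClass.coe_one] at this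
      rw [show g⁻¹ * ((x : G) * g) = MulAut.conj g⁻¹ (x : G) by simp [mul_assoc], ← map_pow] at this
      exact (MulAut.conj g⁻¹).injective (this.trans (map_one _).symm)
    refine hx1 (Subtype.ext ?_)
    have := Nat.dvd_gcd (orderOf_dvd_of_pow_eq_one hi') (orderOf_dvd_of_pow_eq_one hj')
    rw [(Nat.Coprime.pow i j (by norm_num : Nat.Coprime 3 2))] at this
    exact orderOf_eq_one_iff.1 (Nat.dvd_one.1 this)
  have hcomm : (x : G) * q = q * x := mem_centralizer_iff.1 hqX _ ⟨x, hxX, rfl⟩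
  rcases hF.fpf x (F.norm_Q_of_mem hF hθ x.2) hrot q hq (Or.inl (by rw [hcomm]; group)) with e | e <;> rw [e]
  exacts [one_mem _, mem_zpowers _]

omit hF hθ

theorem false_of_four (F : Frame G) {A : Type*} [Group A] (f : A →* G) (hf : Function.Injective f) (a b c d : A)
    (ha : a ≠ 1 ∧ a * a = 1) (hb : b ≠ 1 ∧ b * b = 1) (hc : c ≠ 1 ∧ c * c = 1) (hd : d ≠ 1 ∧ d * d = 1)
    (hab : a * b = b * a) (hac : a * c = c * a) (had : a * d = d * a) (hbc : b * c = c * b)
    (hbd : b * d = d * b) (hcd : c * d = d * c) (h1 : b ≠ a) (h2 : c ∉ [a, b, a * b])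
    (h3 : d ∉ [a, b, a * b, c, a * c, b * c, a * b * c]) : False := by
  haveI : Fact (Nat.Prime 2) := ⟨Nat.prime_two⟩
  set R := closure (f '' {a, b, c, d}) with hR
  have hcomm : ∀ x ∈ f '' {a, b, c, d}, ∀ y ∈ f '' {a, b, c, d}, x * y = y * x := by
    rintro _ ⟨x, hx, rfl⟩ _ ⟨y, hy, rfl⟩
    simp only [Set.mem_insert_iff, Set.mem_singleton_iff] at hx hy
    rw [← map_mul, ← map_mul]
    rcases hx with rfl | rfl | rfl | rfl <;> rcases hy with rfl | rfl | rfl | rfl <;>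
      first | rfl | exact congrArg f (by first | assumption | (symm; assumption))
  have hsq : ∀ x ∈ R, x * x = 1 := by
    haveI := isMulCommutative_closure hcomm
    intro x hx
    induction hx using closure_induction with
    | mem y hy =>
      obtain ⟨w, hw, rfl⟩ := hy
      simp only [Set.mem_insert_iff, Set.mem_singleton_iff] at hw
      rcases hw with rfl | rfl | rfl | rfl <;> rw [← map_mul]
      exacts [by rw [ha.2, map_one], by rw [hb.2, map_one], by rw [hc.2, map_one], by rw [hd.2, map_one]]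
    | one => exact mul_one _
    | mul y z hy hz h1 h2 =>
      have e : y * z = z * y := congrArg Subtype.val (mul_comm' (⟨y, hy⟩ : R) ⟨z, hz⟩)
      calc y * z * (y * z) = y * (z * y) * z := by group
        _ = y * (y * z) * z := by rw [← e]
        _ = (y * y) * (z * z) := by group
        _ = 1 := by rw [h1, h2, one_mul]
    | inv y _ h1 => rw [← mul_inv_rev, h1, inv_one]
  obtain ⟨k, hk⟩ := exists_conj_le_sylow (Q := R)
    (fun x => ⟨1, Subtype.ext (by rw [pow_one, pow_two]; exact hsq x x.2)⟩) F.T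
  have hex : ∀ x ∈ ({a, b, c, d} : Set A), ∃ w : W12, F.hom w = k * f x * k⁻¹ :=
    fun x hx => F.exists_of_mem (hk _ (subset_closure ⟨x, hx, rfl⟩))
  obtain ⟨wa, ea⟩ := hex a (by simp)
  obtain ⟨wb, eb⟩ := hex b (by simp)
  obtain ⟨wc, ec⟩ := hex c (by simp)
  obtain ⟨wd, ed⟩ := hex d (by simp)
  set φ : A →* G := (MulAut.conj k).toMonoidHom.comp f with hφ
  have hinj : Function.Injective φ := (MulAut.conj k).injective.comp hf
  have tr : ∀ {x y : A} {wx wy : W12}, F.hom wx = φ x → F.hom wy = φ y → (wx = wy ↔ x = y) := by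
    intro x y wx wy hx hy
    rw [← F.hom_injective.eq_iff, hx, hy, hinj.eq_iff]
  have tm : ∀ {x y : A} {wx wy : W12}, F.hom wx = φ x → F.hom wy = φ y → F.hom (wx * wy) = φ (x * y) := by
    intro x y wx wy hx hy
    rw [map_mul, map_mul, hx, hy]
  have tinv : ∀ {x : A} {wx : W12}, F.hom wx = φ x → (x ≠ 1 ∧ x * x = 1) → W12.Inv2 wx := by
    intro x wx hx h
    refine ⟨fun e => h.1 ((tr hx (map_one F.hom ▸ (map_one φ).symm)).1 e), ?_⟩
    exact (tr (tm hx hx) (map_one F.hom ▸ (map_one φ).symm)).2 h.2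
  simp only [List.mem_cons, List.not_mem_nil, or_false] at h2 h3
  refine absurd (W12.no_sixteen wa (tinv ea ha) wb (tinv eb hb) ((tr (tm ea eb) (tm eb ea)).2 hab)
    (fun e => h1 ((tr eb ea).1 e)) wc (tinv ec hc) ((tr (tm ec ea) (tm ea ec)).2 hac.symm)
    ((tr (tm ec eb) (tm eb ec)).2 hbc.symm) ?_ wd (tinv ed hd) ((tr (tm ed ea) (tm ea ed)).2 had.symm)
    ((tr (tm ed eb) (tm eb ed)).2 hbd.symm) ((tr (tm ed ec) (tm ec ed)).2 hcd.symm)) ?_
  · simp only [List.mem_cons, List.not_mem_nil, or_false, tr ec ea, tr ec eb, tr ec (tm ea eb)]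
    exact h2
  · simp only [List.mem_cons, List.not_mem_nil, or_false, tr ed ea, tr ed eb, tr ed (tm ea eb), tr ed ec,
      tr ed (tm ea ec), tr ed (tm eb ec), tr ed (tm (tm ea eb) ec)]
    exact h3

/-- **recognition of the Mathieu group of degree twelve** -/
theorem iso_of_theta_bot [IsSimpleGroup G] (hC : F.Core) (hF : F.Factor) (hθ : θ F.z = ⊥) :
    Cfsg.Spor.IsoM12 G := by
  obtain ⟨h, hh⟩ := hC.turn
  obtain ⟨e⟩ := F.exists_quot_equiv hF hθ
  obtain ⟨X⟩ : Nonempty (Sylow 3 F.Cz) := inferInstance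
  rcases Cfsg.Agent.S3344.result F.z F.z_ord F.Cz rfl F.Q (F.pCore_map hF hθ).symm F.Q_extraspecial F.card_Q e X
      (F.cent_sylow_three hF hθ X) ⟨h, hh.hz ▸ F.mem_Q.2 W12.extra_gens.2.1,
        hh.hz ▸ fun e => W12.extra_gens.2.2.2.2.2.2.2.2.1 (F.hom_injective e)⟩ with
    ⟨N, hN, -, -, h8, -⟩ | ⟨⟨f⟩⟩ | ⟨⟨f⟩⟩ | h12
  · exfalso
    rcases hN.eq_bot_or_eq_top with rfl | rfl
    · rw [card_bot] at h8; omega
    · rw [card_top] at h8
      have := card_subgroup_dvd_card (F.T : Subgroup G)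
      rw [F.card_T, h8] at this
      omega
  · refine (F.false_of_four f.symm.toMonoidHom f.symm.injective
      ⟨Equiv.swap 0 1 * Equiv.swap 2 3, by rw [Equiv.Perm.mem_alternatingGroup]; decide +kernel⟩ ⟨Equiv.swap 0 2 * Equiv.swap 1 3, by rw [Equiv.Perm.mem_alternatingGroup]; decide +kernel⟩
      ⟨Equiv.swap 4 5 * Equiv.swap 6 7, by rw [Equiv.Perm.mem_alternatingGroup]; decide +kernel⟩ ⟨Equiv.swap 4 6 * Equiv.swap 5 7, by rw [Equiv.Perm.mem_alternatingGroup]; decide +kernel⟩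
      ?_ ?_ ?_ ?_ ?_ ?_ ?_ ?_ ?_ ?_ ?_ ?_ ?_).elim <;> decide +kernel
  · refine (F.false_of_four f.symm.toMonoidHom f.symm.injective
      ⟨Equiv.swap 0 1 * Equiv.swap 2 3, by rw [Equiv.Perm.mem_alternatingGroup]; decide +kernel⟩ ⟨Equiv.swap 0 2 * Equiv.swap 1 3, by rw [Equiv.Perm.mem_alternatingGroup]; decide +kernel⟩
      ⟨Equiv.swap 4 5 * Equiv.swap 6 7, by rw [Equiv.Perm.mem_alternatingGroup]; decide +kernel⟩ ⟨Equiv.swap 4 6 * Equiv.swap 5 7, by rw [Equiv.Perm.mem_alternatingGroup]; decide +kernel⟩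
      ?_ ?_ ?_ ?_ ?_ ?_ ?_ ?_ ?_ ?_ ?_ ?_ ?_).elim <;> decide +kernel
  · exact h12

end Frame

end CfsgLib.Invol.MTwelveType
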