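import Cfsg.Agent.Lib.Invol.MTwelveType.Defs

/-!
# The signalizer subgroup
-/

set_option autoImplicit false
set_option linter.unusedSectionVars false

namespace CfsgLib.Invol.MTwelveType

open Subgroup

universe u

variable {G : Type u} [Group G] [Finite G]

namespace Frame

variable (F : Frame G)

/-- an odd subgroup absorbing the odd cores of the centralisers of involutions -/
structure Signal (W : Subgroup G) : Prop where
  odd : Odd (Nat.card W)
  normCz : F.Cz ≤ normalizer (W : Set G)
  turn : ∀ h, F.Turn0 h → h ∈ normalizer (W : Set G)
  theta : ∀ x ∈ (F.T : Subgroup G), orderOf x = 2 → θ x ≤ W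

end Frame

end CfsgLib.Invol.MTwelveType
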