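import Cfsg.Agent.Lib.Invol.MTwelveType.NoFusion
import Cfsg.Agent.Lib.Invol.MTwelveType.SignalDefs
import Cfsg.Agent.Lib.Invol.MTwelveType.Recog

/-!
# The involutions of the normaliser of the signalizer subgroup

Every involution of the normaliser of the signalizer subgroup is conjugate inside it to `z` or to `a`, so it
contains the centralisers of its involutions of the class of `z`.
-/

set_option autoImplicit false
set_option linter.unusedSectionVars false
set_option linter.style.haveILetI false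
set_option maxRecDepth 10000

namespace CfsgLib.Invol.MTwelveType

open Subgroup
open CfsgLib.Invol
open CfsgLib.Coprime (conjBy mem_conjBy conjBy_eq_self_iff)
open CfsgLib.ProdFusion (OC conjBy_OC)

universe u

namespace W12

theorem off_pair : ∀ w : W12, InE0 w → Inv2 w → w ∉ [gz, gu, gu'] → ∃ c, c * w * c⁻¹ = gp := by decide +kernel

theorem perm_moves : ∀ σ : Equiv.Perm C4, σ * σ * σ = 1 → σ ≠ 1 →
    (σ 0 = 0 → σ (1, 1) = (1, 0) ∨ σ (1, 1) = (0, 1)) ∧
    (σ (1, 1) = (1, 1) → σ 0 = (1, 0) ∨ σ 0 = (0, 1)) := by decide +kernel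

end W12

open W12 (C4 idx InX InR)

variable {G : Type u} [Group G] [Finite G]

namespace Frame

theorem conjBy_cent (g x : G) :
    conjBy g (centralizer ({x} : Set G)) = centralizer ({g * x * g⁻¹} : Set G) := by
  ext y
  rw [mem_conjBy, mem_centralizer_singleton_iff, mem_centralizer_singleton_iff]
  constructor <;> intro h
  · calc y * (g * x * g⁻¹) = g * (g⁻¹ * y * g * x) * g⁻¹ := by group
      _ = g * (x * (g⁻¹ * y * g)) * g⁻¹ := by rw [h]
      _ = g * x * g⁻¹ * y := by group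
  · calc g⁻¹ * y * g * x = g⁻¹ * (y * (g * x * g⁻¹)) * g := by group
      _ = g⁻¹ * (g * x * g⁻¹ * y) * g := by rw [h]
      _ = x * (g⁻¹ * y * g) := by group

theorem conjBy_theta (g x : G) : conjBy g (θ x) = θ (g * x * g⁻¹) := by
  show conjBy g (OC _) = OC _
  rw [conjBy_OC, conjBy_cent]

theorem conj_commute {m x g : G} (h : Commute g x) : Commute (m * g * m⁻¹) (m * x * m⁻¹) :=
  h.map (MulAut.conj m).toMonoidHom

variable {F : Frame G}

/-- the turn fuses `r` to `p` or to `a` -/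
theorem Turn0.moves_r {h : G} (H : F.Turn0 h) :
    ∃ w, W12.InR w ∧ (F.hom w = h * F.hom W12.gp * h⁻¹ ∨ F.hom w = h * F.hom W12.ga * h⁻¹) := by
  classical
  obtain ⟨h3, h1⟩ := H.perm
  set σ := F.rho ⟨h, H.mem⟩ with hσ
  have hsn := F.T_le_normM5 (F.hom_mem W12.gs)
  obtain ⟨hp, ha⟩ := W12.perm_moves σ h3 h1
  rcases W12.perm_cases σ h3 h1 with h0 | h11 | hd | hd
  · obtain ⟨w, hw, e, hi⟩ := F.act_spec H.mem (show InX W12.gp from W12.idx_small.2.2.2.2.1)
    refine ⟨w, ⟨hw, ?_⟩, Or.inl e⟩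
    rw [hi, W12.idx_small.2.1, ← F.rho_apply ⟨h, H.mem⟩]
    exact hp h0
  · obtain ⟨w, hw, e, hi⟩ := F.act_spec H.mem (show InX W12.ga from W12.idx_small.2.2.2.1)
    refine ⟨w, ⟨hw, ?_⟩, Or.inr e⟩
    rw [hi, W12.idx_small.1, ← F.rho_apply ⟨h, H.mem⟩]
    exact ha h11
  · exfalso
    set n : normalizer (F.M5 : Set G) := ⟨h, H.mem⟩ * (⟨_, hsn⟩ * ⟨h, H.mem⟩ * ⟨_, hsn⟩) with hn
    have e : F.rho n = σ * (W12.swapPerm * σ * W12.swapPerm) := by rw [hn, map_mul, map_mul, map_mul, F.rho_gs]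
    exact F.no_double n.2 (fun c => by rw [← F.rho_apply, ← F.rho_apply, e]; exact (hd c).1)
      (fun c => by rw [← F.rho_apply, e]; exact (hd c).2)
  · exfalso
    set n : normalizer (F.M5 : Set G) := ⟨h, H.mem⟩ * (⟨_, hsn⟩ * ⟨h, H.mem⟩ * ⟨h, H.mem⟩ * ⟨_, hsn⟩) with hn
    have e : F.rho n = σ * (W12.swapPerm * σ * σ * W12.swapPerm) := by
      rw [hn, map_mul, map_mul, map_mul, map_mul, F.rho_gs]
    exact F.no_double n.2 (fun c => by rw [← F.rho_apply, ← F.rho_apply, e]; exact (hd c).1)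
      (fun c => by rw [← F.rho_apply, e]; exact (hd c).2)

variable {W : Subgroup G}

namespace Signal

variable (hS : F.Signal W) (hC : F.Core) (hF : F.Factor)
include hS

theorem T_le : (F.T : Subgroup G) ≤ normalizer (W : Set G) := F.T_le_Cz.trans hS.normCz

theorem hom_mem_norm (w : W12) : F.hom w ∈ normalizer (W : Set G) := hS.T_le (F.hom_mem w)

include hC hF

/-- **the involutions of the normaliser** -/
theorem to_z_or_a {x : G} (hx : x ∈ normalizer (W : Set G)) (ho : orderOf x = 2) :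
    ∃ m ∈ normalizer (W : Set G), m * x * m⁻¹ = F.z ∨ m * x * m⁻¹ = F.a := by
  set M := normalizer (W : Set G) with hM
  obtain ⟨h, H⟩ := hC.turn
  have hh : h ∈ M := hS.turn h H
  have hTM : (F.T : Subgroup G) ≤ M := hS.T_le
  have step : ∀ m ∈ M, ∀ {y y' : G}, m * y * m⁻¹ = y' → (∃ k ∈ M, k * y' * k⁻¹ = F.z ∨ k * y' * k⁻¹ = F.a) →
      ∃ k ∈ M, k * y * k⁻¹ = F.z ∨ k * y * k⁻¹ = F.a := by
    intro m hm y y' e ⟨k, hk, hk'⟩
    refine ⟨k * m, mul_mem hk hm, ?_⟩
    rw [show k * m * y * (k * m)⁻¹ = k * (m * y * m⁻¹) * k⁻¹ by group, e]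
    exact hk'
  have back : ∀ m ∈ M, ∀ {y y' : G}, m * y * m⁻¹ = y' → m⁻¹ * y' * (m⁻¹)⁻¹ = y := by
    intro m _ y y' e
    rw [← e]
    group
  have hz : ∃ k ∈ M, k * F.z * k⁻¹ = F.z ∨ k * F.z * k⁻¹ = F.a := ⟨1, one_mem _, Or.inl (by group)⟩
  have hu : ∃ k ∈ M, k * F.u * k⁻¹ = F.z ∨ k * F.u * k⁻¹ = F.a := step h⁻¹ (inv_mem hh) (back h hh H.hz) hz
  have hu' : ∃ k ∈ M, k * F.hom W12.gu' * k⁻¹ = F.z ∨ k * F.hom W12.gu' * k⁻¹ = F.a := step h hh H.hu' hz
  have ha : ∃ k ∈ M, k * F.a * k⁻¹ = F.z ∨ k * F.a * k⁻¹ = F.a := ⟨1, one_mem _, Or.inr (by group)⟩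
  have hp : ∃ k ∈ M, k * F.hom W12.gp * k⁻¹ = F.z ∨ k * F.hom W12.gp * k⁻¹ = F.a := by
    obtain ⟨n, hn, hr⟩ := hF.nu
    have hnf := F.not_fix_of_rot hr
    have hnz : n * F.z * n⁻¹ = F.z := mul_inv_eq_iff_eq_mul.2 (mem_centralizer_singleton_iff.1 hn.2)
    obtain ⟨w, hw, he⟩ := (mem_normalizer_iff.1 (hF.norm_E0 hn) F.u).1
      (F.mem_E0.2 W12.extra_gens.2.2.2.2.2.1)
    have hwi : W12.Inv2 w := F.hom_invol.1 (he ▸ invol_conj F.u_ord n)
    obtain ⟨c, hc⟩ := W12.off_pair w hw hwi (by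
      simp only [List.mem_cons, List.not_mem_nil, or_false, not_or]
      refine ⟨?_, ?_, ?_⟩
      · rintro rfl
        exact W12.extra_gens.2.2.2.2.2.2.2.2.1 (F.hom_injective
          (mul_left_cancel (mul_right_cancel (he.symm.trans hnz.symm : n * F.u * n⁻¹ = n * F.z * n⁻¹))))
      · rintro rfl; exact hnf (Or.inl he.symm)
      · rintro rfl; exact hnf (Or.inr he.symm))
    have e : F.hom c * n * F.u * (F.hom c * n)⁻¹ = F.hom W12.gp := by
      rw [show F.hom c * n * F.u * (F.hom c * n)⁻¹ = F.hom c * (n * F.u * n⁻¹) * (F.hom c)⁻¹ by group, ← he,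
        F.hom_conj, hc]
    have hm : F.hom c * n ∈ M := mul_mem (hS.hom_mem_norm c) (hS.normCz hn.2)
    exact step _ (inv_mem hm) (back _ hm e) hu
  have hsa : ∀ w, (w = W12.gs ∨ w = W12.gas) →
      ∃ k ∈ M, k * F.hom w * k⁻¹ = F.z ∨ k * F.hom w * k⁻¹ = F.a := by
    intro w hw
    obtain ⟨g, hg, e⟩ := hC.exists_to_a hw
    exact step g (hS.normCz hg) e ha
  have hr : ∃ k ∈ M, k * F.hom W12.gr * k⁻¹ = F.z ∨ k * F.hom W12.gr * k⁻¹ = F.a := by
    obtain ⟨w, hw, he⟩ := H.moves_r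
    obtain ⟨c, hc⟩ := W12.R_conj w hw
    have hm : F.hom c * h ∈ M := mul_mem (hS.hom_mem_norm c) hh
    rcases he with he | he
    · refine step _ (inv_mem hm) (back _ hm ?_) hp
      rw [show F.hom c * h * F.hom W12.gp * (F.hom c * h)⁻¹ = F.hom c * (h * F.hom W12.gp * h⁻¹) * (F.hom c)⁻¹
        by group, ← he, F.hom_conj, hc]
    · refine step _ (inv_mem hm) (back _ hm ?_) ha
      show F.hom c * h * F.hom W12.ga * (F.hom c * h)⁻¹ = _
      rw [show F.hom c * h * F.hom W12.ga * (F.hom c * h)⁻¹ = F.hom c * (h * F.hom W12.ga * h⁻¹) * (F.hom c)⁻¹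
        by group, ← he, F.hom_conj, hc]
  obtain ⟨c, hc, hcx⟩ := exists_conj_into (R := zpowers x) (zpowers_le.2 hx)
    (IsPGroup.of_card (n := 1) (by rw [Nat.card_zpowers, ho, pow_one])) hTM F.T.2 (F.not_dvd_index_sub hTM)
  obtain ⟨w, hw⟩ := F.exists_of_mem (hcx x (mem_zpowers x))
  obtain ⟨d, hd⟩ := W12.rep_cases w (F.hom_invol.1 (hw ▸ invol_conj ho c))
  refine step _ (mul_mem (hS.hom_mem_norm d) hc) (y' := F.hom (d * w * d⁻¹)) ?_ ?_
  · rw [← F.hom_conj, hw]; group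
  simp only [List.mem_cons, List.not_mem_nil, or_false] at hd
  rcases hd with e | e | e | e | e | e | e | e <;> rw [e]
  exacts [hz, hu, hu', hp, hr, ha, hsa _ (Or.inl rfl), hsa _ (Or.inr rfl)]

/-- the involutions of the class of `z` are conjugate to it inside the normaliser -/
theorem to_z {x : G} (hx : x ∈ normalizer (W : Set G)) (ho : orderOf x = 2) (hz : IsConj F.z x) :
    ∃ m ∈ normalizer (W : Set G), m * x * m⁻¹ = F.z := by
  obtain ⟨m, hm, e | e⟩ := hS.to_z_or_a hC hF hx ho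
  · exact ⟨m, hm, e⟩
  · exact absurd (hz.trans (isConj_iff.2 ⟨m, e⟩)) hC.na

/-- the centralisers of the involutions of the class of `z` lie in the normaliser -/
theorem cent_le {x : G} (hx : x ∈ normalizer (W : Set G)) (ho : orderOf x = 2) (hz : IsConj F.z x) :
    centralizer ({x} : Set G) ≤ normalizer (W : Set G) := by
  intro g hg
  obtain ⟨m, hm, e⟩ := hS.to_z hC hF hx ho hz
  have h1 : m * g * m⁻¹ ∈ F.Cz := mem_centralizer_singleton_iff.2
    (e ▸ (conj_commute (mem_centralizer_singleton_iff.1 hg)).eq)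
  have h2 : m⁻¹ * (m * g * m⁻¹) * m ∈ normalizer (W : Set G) :=
    mul_mem (mul_mem (inv_mem hm) (hS.normCz h1)) hm
  simpa [mul_assoc] using h2

/-- conjugating an involution of the class of `z` into the normaliser is done from inside -/
theorem key {x g : G} (hx : x ∈ normalizer (W : Set G)) (hgx : g * x * g⁻¹ ∈ normalizer (W : Set G))
    (ho : orderOf x = 2) (hz : IsConj F.z x) : g ∈ normalizer (W : Set G) := by
  obtain ⟨m, hm, e⟩ := hS.to_z hC hF hx ho hz
  obtain ⟨k, hk, e'⟩ := hS.to_z hC hF hgx (invol_conj ho g) (hz.trans (isConj_iff.2 ⟨g, rfl⟩))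
  have h1 : k * g * m⁻¹ ∈ F.Cz := mem_centralizer_singleton_iff.2 (by
    calc k * g * m⁻¹ * F.z = k * g * m⁻¹ * (m * x * m⁻¹) := by rw [e]
      _ = k * (g * x * g⁻¹) * k⁻¹ * (k * g * m⁻¹) := by group
      _ = F.z * (k * g * m⁻¹) := by rw [e'])
  have h2 : k⁻¹ * (k * g * m⁻¹) * m ∈ normalizer (W : Set G) :=
    mul_mem (mul_mem (inv_mem hk) (hS.normCz h1)) hm
  simpa [mul_assoc] using h2

/-- the odd cores of the centralisers of the involutions of the normaliser lie in the subgroup -/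
theorem theta_le {x : G} (hx : x ∈ normalizer (W : Set G)) (ho : orderOf x = 2) : θ x ≤ W := by
  obtain ⟨m, hm, e⟩ := hS.to_z_or_a hC hF hx ho
  have h1 : θ (m * x * m⁻¹) ≤ W := by
    rcases e with e | e <;> rw [e]
    · exact hS.theta _ (F.hom_mem _) F.z_ord
    · exact hS.theta _ (F.hom_mem _) F.a_ord
  rw [← conjBy_theta] at h1
  intro y hy
  have h2 := (mem_normalizer_iff.1 (inv_mem hm) _).1 (h1 ⟨y, hy, rfl⟩)
  simpa [mul_assoc] using h2

end Signal

end Frame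

end CfsgLib.Invol.MTwelveType
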