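import Cfsg.Agent.Lib.Invol.MTwelveType.EndgameCentral
import Cfsg.Agent.Lib.Invol.L34Type.Klein
import Cfsg.Agent.Lib.Invol.L34Type.Pairs
import Cfsg.Agent.Lib.SolvSignalizer.Main
import Mathlib.GroupTheory.SpecificGroups.KleinFour

/-!
# The centraliser of `a` when `z` is fused to `u` inside it

The intersection of three subgroups of index two has the four group as Sylow subgroup with one class of
involutions modulo its odd core, so it is either absorbed by the normaliser of the signalizer subgroup or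
lies over the alternating group of degree five, and then the fixed points of the four groups generate the
signalizer subgroup.
-/

set_option autoImplicit false
set_option linter.unusedSectionVars false
set_option linter.style.haveILetI false
set_option maxRecDepth 10000

namespace CfsgLib.Invol.MTwelveType

open Subgroup
open CfsgLib.Invol
open CfsgLib.Coprime (conjBy mem_conjBy conjBy_eq_self_iff)
open CfsgLib.ProdFusion (OC OC_le odd_card_OC le_OC le_normalizer_OC le_normalizer_OC_self eq_one_of_sq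
  odd_orderOf_of_mem mem_of_forall_conj_mem exists_conj_of_congr exists_commute_of_commute_mk)

universe u

namespace W12

theorem fused_facts : ga ∈ subQ ∧ InTa gs ∧ gs * gu * gs⁻¹ = gu' ∧ gs * gu' * gs⁻¹ = gu ∧
    gu * gu' = gz ∧ gz * gu = gu' ∧ gz * gu' = gu ∧ (∀ w : W12, w ∈ subV → InTa w ∧ w * w = 1) ∧
    (∀ w : W12, w * w ≠ ga) ∧ gu ∈ subE0 ∧ gu * gu = 1 ∧ ga ≠ 1 ∧ ga ≠ gz := by decide +kernel

theorem ta_coset : ∀ w : W12, InTa w → w ∈ subV ∨ ∃ y ∈ [ga, gs, gas], w * y ∈ subV := by decide +kernel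

theorem E0_third : ∀ e : W12, InE0 e → e ∉ [1, gz, gu, gu'] → ∀ w : W12, InE0 w →
    w ∈ [1, gz, gu, gu'] ∨ ∃ v ∈ [1, gz], w = v * e ∨ w = v * gu * e := by decide +kernel

theorem third_maps : ∀ b ∈ [1, gz], ∀ v ∈ [1, gz], ∀ e : W12, InE0 e →
    v * b * (b * e) = v * e ∧ (e ∉ [1, gz, gu, gu'] → gu ≠ v * b * e) ∧
      (v * (v * gu * e) * (b * e) = gu ∨ v * (v * gu * e) * (b * e) = gu') := by decide +kernel

end W12

variable {G : Type u} [Group G] [Finite G]

namespace Frame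

variable {F : Frame G}

theorem zu_mul (v : W12) : F.z * F.hom v = F.hom (W12.gz * v) := (map_mul F.hom W12.gz v).symm

/-- the elements of `C(z)` fixing the pair `{u, u'}` -/
def fixSub (F : Frame G) : Subgroup G where
  carrier := {g | g ∈ F.Cz ∧ F.FixPair g}
  one_mem' := ⟨one_mem _, Or.inl (by group)⟩
  mul_mem' := by
    rintro g k ⟨hg, hgu⟩ ⟨hk, hku⟩
    refine ⟨mul_mem hg hk, ?_⟩
    have hgz : g * F.z * g⁻¹ = F.z := mul_inv_eq_iff_eq_mul.2 (mem_centralizer_singleton_iff.1 hg)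
    have e : g * k * F.u * (g * k)⁻¹ = g * (k * F.u * k⁻¹) * g⁻¹ := by group
    rcases hku with hku | hku <;> unfold Frame.FixPair <;> rw [e, hku]
    · exact hgu
    · have e' : g * F.hom W12.gu' * g⁻¹ = F.z * (g * F.u * g⁻¹) := by
        rw [← W12.fused_facts.2.2.2.2.2.1, map_mul]
        calc g * (F.hom W12.gz * F.hom W12.gu) * g⁻¹ = g * F.z * g⁻¹ * (g * F.u * g⁻¹) := by
              show _ = g * F.hom W12.gz * g⁻¹ * (g * F.hom W12.gu * g⁻¹)
              group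
          _ = _ := by rw [hgz]
      rw [e']
      rcases hgu with hgu | hgu <;> rw [hgu]
      · exact Or.inr (by rw [show F.u = F.hom W12.gu from rfl, zu_mul, W12.fused_facts.2.2.2.2.2.1])
      · exact Or.inl (by rw [zu_mul, W12.fused_facts.2.2.2.2.2.2.1]; rfl)
  inv_mem' := by
    rintro g ⟨hg, hgu⟩
    refine ⟨inv_mem hg, ?_⟩
    rcases hgu with hgu | hgu
    · left
      conv_lhs => rw [← hgu]
      group
    · right
      have hgz : g⁻¹ * F.z * g = F.z := by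
        rw [mem_centralizer_singleton_iff.1 (inv_mem hg), inv_mul_cancel_right]
      have h1 : g⁻¹ * F.hom W12.gu' * g = F.u := by rw [← hgu]; group
      calc g⁻¹ * F.u * g⁻¹⁻¹ = g⁻¹ * (F.z * F.hom W12.gu') * g := by
            rw [zu_mul, W12.fused_facts.2.2.2.2.2.2.1, inv_inv]; rfl
        _ = (g⁻¹ * F.z * g) * (g⁻¹ * F.hom W12.gu' * g) := by group
        _ = F.z * F.hom W12.gu := by rw [hgz, h1]; rfl
        _ = F.hom W12.gu' := by rw [zu_mul, W12.fused_facts.2.2.2.2.2.1]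

/-- **elements of odd order of `C(z) ⊓ C(a)` lie in the odd core of `C(z)`** -/
theorem Factor.odd_mem_theta (hF : F.Factor) {y : G} (hy : y ∈ F.Cz) (hya : Commute y F.a)
    (hodd : Odd (orderOf y)) : y ∈ θ F.z := by
  set N := θ F.z with hN
  have hNn : F.Cz ≤ normalizer (N : Set G) := le_normalizer_OC_self _
  set Y := N.subgroupOf F.Cz with hY
  haveI : Y.Normal := ⟨fun x hx g => (mem_normalizer_iff.1 (hNn g.2) (x : G)).1 hx⟩
  set q := QuotientGroup.mk' Y with hq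
  have hq1 : ∀ x : F.Cz, q x = 1 ↔ (x : G) ∈ N := fun x => QuotientGroup.eq_one_iff x
  have hNQ : ∀ x ∈ F.Q, x ∈ N → x = 1 := by
    intro x hx hxN
    obtain ⟨k, hk⟩ := (F.T.2.to_le F.Q_le) ⟨x, hx⟩
    exact eq_one_of_odd_of_pow_two (odd_orderOf_of_mem (odd_card_OC _) hxN) (congrArg Subtype.val hk)
  -- elements of `N(Q)` in `N` centralise `Q`
  have hfixQ : ∀ n ∈ normalizer (F.Q : Set G), n ∈ N → ∀ x ∈ F.Q, n * x * n⁻¹ = x := by
    intro n hn hnN x hx
    have h1 : n * x * n⁻¹ * x⁻¹ ∈ N := by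
      rw [show n * x * n⁻¹ * x⁻¹ = n * (x * n⁻¹ * x⁻¹) by group]
      exact mul_mem hnN ((mem_normalizer_iff.1 (hNn (F.T_le_Cz (F.Q_le hx))) _).1 (inv_mem hnN))
    exact mul_inv_eq_one.1 (hNQ _ (mul_mem ((mem_normalizer_iff.1 hn x).1 hx) (inv_mem hx)) h1)
  have haQ : F.a ∈ F.Q := F.mem_Q.2 W12.fused_facts.1
  obtain ⟨o, ho, n, hn, rfl⟩ := hF.factor y hy
  have hna : n * F.a * n⁻¹ = F.a := by
    have h1 : o * (n * F.a * n⁻¹) * o⁻¹ = F.a := by
      rw [show o * (n * F.a * n⁻¹) * o⁻¹ = o * n * F.a * (o * n)⁻¹ by group, hya.eq, mul_inv_cancel_right]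
    have h2 : n * F.a * n⁻¹ * F.a⁻¹ ∈ N := by
      have e : n * F.a * n⁻¹ = o⁻¹ * F.a * o := by
        conv_rhs => rw [← h1]
        group
      rw [e, show o⁻¹ * F.a * o * F.a⁻¹ = o⁻¹ * (F.a * o * F.a⁻¹) by group]
      exact mul_mem (inv_mem ho) ((mem_normalizer_iff.1 (hNn (F.T_le_Cz (F.Q_le haQ))) _).1 ho)
    exact mul_inv_eq_one.1 (hNQ _ (mul_mem ((mem_normalizer_iff.1 hn.1 _).1 haQ) (inv_mem haQ)) h2)
  have hnz : n * F.z * n⁻¹ = F.z := mul_inv_eq_iff_eq_mul.2 (mem_centralizer_singleton_iff.1 hn.2)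
  by_cases hfp : F.FixPair n
  · obtain ⟨o', ho', t, ht, e⟩ := hF.fix n hn hfp
    obtain ⟨w, rfl⟩ := F.exists_of_mem ht
    have hqy : q ⟨o * n, hy⟩ = q ⟨F.hom w, F.T_le_Cz ht⟩ := by
      have h1 : (⟨o * n, hy⟩ : F.Cz) = ⟨o * o', mul_mem (OC_le _ ho) (OC_le _ ho')⟩ * ⟨F.hom w, F.T_le_Cz ht⟩ :=
        Subtype.ext (show o * n = o * o' * F.hom w by rw [mul_assoc, ← e])
      rw [h1, map_mul, (hq1 ⟨o * o', _⟩).2 (mul_mem ho ho'), one_mul]
    refine (hq1 ⟨o * n, hy⟩).1 (orderOf_eq_one_iff.1 ?_)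
    have h1 : orderOf (q ⟨o * n, hy⟩) ∣ orderOf (o * n) := by
      conv_rhs => rw [← Subgroup.orderOf_mk (o * n) hy]
      exact orderOf_map_dvd _ _
    have h2 : orderOf (q ⟨o * n, hy⟩) ∣ 64 := by
      rw [hqy]
      refine (orderOf_map_dvd _ _).trans ?_
      rw [Subgroup.orderOf_mk, ← F.card_T]
      exact Subgroup.orderOf_dvd_natCard _ ht
    refine Nat.eq_one_of_dvd_coprimes ?_ h1 h2
    rw [show (64 : ℕ) = 2 ^ 6 from rfl]
    exact (Nat.coprime_two_right.2 hodd).pow_right 6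
  exfalso
  refine hfp ?_
  by_cases hrot : F.Rot n
  · exfalso
    rcases hF.fpf n hn hrot F.a haQ (Or.inl (by rw [hna, mul_inv_cancel])) with e | e
    · exact invol_ne_one F.a_ord e
    · exact W12.fused_facts.2.2.2.2.2.2.2.2.2.2.2.2 (F.hom_injective e)
  -- some other pair is fixed, so the square fixes the pair `{u, u'}`
  unfold Frame.Rot at hrot
  push Not at hrot
  obtain ⟨_, ⟨e, he, rfl⟩, hfix, he1, hez⟩ := hrot
  have hfix' : n * F.hom e * n⁻¹ = F.hom e ∨ n * F.hom e * n⁻¹ = F.z * F.hom e := by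
    rw [mul_inv_eq_one, mul_inv_eq_iff_eq_mul (b := F.hom e)] at hfix
    exact hfix
  obtain ⟨-, -, -, -, -, f6, f7, -, -, f10, -, -⟩ := W12.fused_facts
  have henot : e ∉ [1, W12.gz, W12.gu, W12.gu'] := by
    simp only [List.mem_cons, List.not_mem_nil, or_false, not_or]
    refine ⟨fun h => he1 (by rw [h, map_one]), fun h => hez (by rw [h]; rfl), ?_, ?_⟩
    · rintro rfl
      refine hfp (hfix'.imp id fun h => ?_)
      rw [zu_mul, f6] at h
      exact h
    · rintro rfl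
      have e' : n * F.u * n⁻¹ = F.z * (n * F.hom W12.gu' * n⁻¹) := by
        conv_lhs => rw [show F.u = F.z * F.hom W12.gu' by rw [zu_mul, f7]; rfl]
        rw [show n * (F.z * F.hom W12.gu') * n⁻¹ = n * F.z * n⁻¹ * (n * F.hom W12.gu' * n⁻¹) by group, hnz]
      rcases hfix' with h | h <;> rw [h, zu_mul] at e'
      · refine hfp (Or.inl (e'.trans ?_)); rw [f7]; rfl
      · refine hfp (Or.inr (e'.trans ?_)); rw [zu_mul, ← mul_assoc, show W12.gz * W12.gz = 1 by decide, one_mul]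
  obtain ⟨w, hw, hwe⟩ := (mem_normalizer_iff.1 (hF.norm_E0 hn) F.u).1 (F.mem_E0.2 f10)
  have hwi : W12.Inv2 w := F.hom_invol.1 (hwe ▸ invol_conj F.u_ord n)
  have hn2 : n * n ∈ F.fixSub := by
    refine ⟨mul_mem hn.2 hn.2, ?_⟩
    have e2 : n * n * F.u * (n * n)⁻¹ = n * F.hom w * n⁻¹ := by rw [hwe]; group
    rcases W12.E0_third e he henot w hw with h | ⟨v, hv, hvw⟩
    · exfalso
      simp only [List.mem_cons, List.not_mem_nil, or_false] at h
      rcases h with rfl | rfl | rfl | rfl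
      · exact hwi.1 rfl
      · exact absurd (F.hom_injective (mul_left_cancel (mul_right_cancel
          (hwe.symm.trans hnz.symm : n * F.u * n⁻¹ = n * F.z * n⁻¹)))) (by decide +kernel)
      · exact hfp (Or.inl hwe.symm)
      · exact hfp (Or.inr hwe.symm)
    -- the images under `n` in coordinates
    have hmul : ∀ {a a' b b' : W12}, n * F.hom a * n⁻¹ = F.hom a' → n * F.hom b * n⁻¹ = F.hom b' →
        n * F.hom (a * b) * n⁻¹ = F.hom (a' * b') := fun h h' => by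
      rw [map_mul, map_mul, ← h, ← h']
      group
    obtain ⟨b, hb, hbe⟩ : ∃ b ∈ [1, W12.gz], n * F.hom e * n⁻¹ = F.hom (b * e) := by
      rcases hfix' with h | h
      · exact ⟨1, by simp, by rw [h, one_mul]⟩
      · exact ⟨W12.gz, by simp, by rw [h, zu_mul]⟩
    have hfixz : ∀ v ∈ [1, W12.gz], n * F.hom v * n⁻¹ = F.hom v := by
      intro v hv
      simp only [List.mem_cons, List.not_mem_nil, or_false] at hv
      rcases hv with rfl | rfl
      · rw [map_one]; group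
      · exact hnz
    obtain ⟨m1, m2, m3⟩ := W12.third_maps b hb v hv e he
    rcases hvw with rfl | rfl
    · exfalso
      have h1 : n * F.hom W12.gu * n⁻¹ = n * F.hom (v * b * e) * n⁻¹ :=
        hwe.symm.trans ((congrArg (fun x => F.hom x) m1).symm.trans (hmul (hmul (hfixz v hv) (hfixz b hb)) hbe).symm)
      exact m2 henot (F.hom_injective (mul_left_cancel (mul_right_cancel h1)))
    · have h1 : n * F.hom (v * W12.gu * e) * n⁻¹ = F.hom (v * (v * W12.gu * e) * (b * e)) :=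
        hmul (hmul (hfixz v hv) hwe.symm) hbe
      show n * n * F.u * (n * n)⁻¹ = F.u ∨ n * n * F.u * (n * n)⁻¹ = F.hom W12.gu'
      rw [e2, h1]
      exact m3.imp (fun h => congrArg (fun x => F.hom x) h) (fun h => congrArg (fun x => F.hom x) h)
  -- an odd power of `n` lies in the odd core
  set k := orderOf (o * n) with hk
  have hnk : n ^ k ∈ N := by
    refine (hq1 (⟨n, hn.2⟩ ^ k)).1 ?_
    have e : q ⟨n, hn.2⟩ = q ⟨o * n, hy⟩ := by
      rw [show (⟨o * n, hy⟩ : F.Cz) = ⟨o, OC_le _ ho⟩ * ⟨n, hn.2⟩ from rfl, map_mul, (hq1 ⟨o, _⟩).2 ho, one_mul]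
    rw [map_pow, e, ← map_pow, show (⟨o * n, hy⟩ : F.Cz) ^ k = 1 from Subtype.ext (pow_orderOf_eq_one _), map_one]
  have hnkfix : n ^ k ∈ F.fixSub := ⟨pow_mem hn.2 _,
    Or.inl (hfixQ _ (pow_mem hn.1 _) hnk _ (F.mem_Q.2 W12.extra_gens.2.1))⟩
  obtain ⟨j, hj⟩ := hodd
  rw [hj, pow_succ, pow_mul, pow_two] at hnkfix
  have := mul_mem (inv_mem (pow_mem hn2 j)) hnkfix
  rw [inv_mul_cancel_left] at this
  exact this.2

variable {W : Subgroup G}

/-- the intersection of three subgroups of index two of the centraliser of `a` -/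
structure Fused (F : Frame G) (W L : Subgroup G) : Prop where
  le : L ≤ F.Ca
  norm : F.Ca ≤ normalizer (L : Set G)
  odd : ∀ x ∈ F.Ca, Odd (orderOf x) → x ∈ L
  inter : F.Ta ⊓ L = F.V
  turn : ∀ w ∈ W12.subV, w ≠ 1 → ∃ l ∈ L, l ∈ normalizer (W : Set G) ∧ l * F.z * l⁻¹ = F.hom w

theorem Signal.exists_fused (hS : F.Signal W) (hC : F.Core) (hF : F.Factor) {c : G} (hc : c ∈ F.Ca)
    (hcz : c * F.z * c⁻¹ = F.u ∨ c * F.z * c⁻¹ = F.hom W12.gu') : ∃ L, Fused F W L := by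
  obtain ⟨N1, h1le, h1n, h1sq, h1a⟩ := hC.transfer_a
  obtain ⟨N2, -, h2n, h2sq, h2s⟩ := hC.transfer_side (Or.inl rfl)
  obtain ⟨N3, -, h3n, h3sq, h3as⟩ := hC.transfer_side (Or.inr rfl)
  obtain ⟨-, f2, f3, f4, -, f6, f7, f8, -, -, -, -⟩ := W12.fused_facts
  set L := N1 ⊓ N2 ⊓ N3 with hL
  have hn : F.Ca ≤ normalizer (L : Set G) := fun g hg => mem_of_forall_conj_mem fun x hx =>
    ⟨⟨(mem_normalizer_iff.1 (h1n hg) x).1 hx.1.1, (mem_normalizer_iff.1 (h2n hg) x).1 hx.1.2⟩,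
      (mem_normalizer_iff.1 (h3n hg) x).1 hx.2⟩
  have hsq : ∀ x ∈ F.Ca, x * x ∈ L := fun x hx => ⟨⟨h1sq x hx, h2sq x hx⟩, h3sq x hx⟩
  have hodd : ∀ x ∈ F.Ca, Odd (orderOf x) → x ∈ L := fun x hx ho => odd_mem_of_sq ho (hsq x hx)
  have hLC : L ≤ F.Ca := fun x hx => h1le hx.1.1
  have hzL : F.z ∈ L := F.sq_z hsq
  have hzT := F.hom_mem W12.gz
  have hM : ∀ w, F.hom w ∈ normalizer (W : Set G) := hS.hom_mem_norm
  obtain ⟨w, hw, hcw⟩ : ∃ w, (w = W12.gu ∨ w = W12.gu') ∧ c * F.z * c⁻¹ = F.hom w :=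
    hcz.elim (fun h => ⟨_, Or.inl rfl, h⟩) fun h => ⟨_, Or.inr rfl, h⟩
  have hcM : c ∈ normalizer (W : Set G) :=
    hS.key hC hF (hM W12.gz) (hcw ▸ hM w) F.z_ord (IsConj.refl _)
  have hwL : F.hom w ∈ L := hcw ▸ (mem_normalizer_iff.1 (hn hc) _).1 hzL
  have hVL : F.V ≤ L := by
    rintro _ ⟨v, hv, rfl⟩
    rcases (W12.subV_le v hv).2.2 with rfl | rfl | rfl | rfl
    · rw [map_one]; exact one_mem _
    · exact hzL
    all_goals
      rcases hw with rfl | rfl <;> first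
        | exact hwL
        | (have h := mul_mem hzL hwL; rw [zu_mul] at h; first | rwa [f6] at h | rwa [f7] at h)
  have hinter : F.Ta ⊓ L = F.V := by
    refine le_antisymm ?_ fun x hx => ⟨?_, hVL hx⟩
    · rintro _ ⟨⟨v, hv, rfl⟩, hvL⟩
      rcases W12.ta_coset v hv with h | ⟨y, hy, hvy⟩
      · exact F.mem_V.2 h
      · exfalso
        have hyL : F.hom y ∈ L := by
          have := L.mul_mem (L.inv_mem hvL) (hVL (F.mem_V.2 hvy))
          rwa [map_mul, inv_mul_cancel_left] at this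
        simp only [List.mem_cons, List.not_mem_nil, or_false] at hy
        rcases hy with rfl | rfl | rfl
        exacts [h1a hyL.1.1, h2s hyL.1.2, h3as hyL.2]
    · obtain ⟨v, hv, rfl⟩ := hx
      exact F.mem_Ta.2 (f8 v hv).1
  obtain ⟨l, hl, t, ht, rfl⟩ := exists_factor hn hC.not_dvd_index_Ta hodd hc
  have htz : t * F.z * t⁻¹ = F.z := mul_inv_eq_iff_eq_mul.2 (F.z_central (F.Ta_le_T ht))
  have hlw : l * F.z * l⁻¹ = F.hom w := by
    rw [← hcw, show l * t * F.z * (l * t)⁻¹ = l * (t * F.z * t⁻¹) * l⁻¹ by group, htz]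
  have hlM : l ∈ normalizer (W : Set G) := by
    have := mul_mem hcM (inv_mem (hS.T_le (F.Ta_le_T ht)))
    rwa [mul_inv_cancel_right] at this
  set s := F.hom W12.gs with hs
  have hsz : s⁻¹ * F.z * s = F.z := by
    rw [mul_assoc, ← F.z_central (F.hom_mem W12.gs), inv_mul_cancel_left]
  have hsl : s * l * s⁻¹ * F.z * (s * l * s⁻¹)⁻¹ = F.hom (W12.gs * w * W12.gs⁻¹) := by
    rw [← F.hom_conj, ← hlw, ← hs]
    calc s * l * s⁻¹ * F.z * (s * l * s⁻¹)⁻¹ = s * (l * (s⁻¹ * F.z * s) * l⁻¹) * s⁻¹ := by group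
      _ = _ := by rw [hsz]
  have hslL : s * l * s⁻¹ ∈ L := (mem_normalizer_iff.1 (hn (F.Ta_le_Ca (F.mem_Ta.2 f2))) l).1 hl
  have hslM : s * l * s⁻¹ ∈ normalizer (W : Set G) := mul_mem (mul_mem (hM _) hlM) (inv_mem (hM _))
  refine ⟨L, hLC, hn, hodd, hinter, fun v hv hv1 => ?_⟩
  rcases (W12.subV_le v hv).2.2 with rfl | rfl | rfl | rfl
  · exact absurd rfl hv1
  · exact ⟨1, one_mem _, one_mem _, by group; rfl⟩
  all_goals
    rcases hw with rfl | rfl <;> first
      | exact ⟨l, hl, hlM, hlw⟩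
      | exact ⟨_, hslL, hslM, by first | rw [hsl, f3] | rw [hsl, f4]⟩

/-- **the dichotomy in the fused case** -/
theorem Signal.fused_quot (hS : F.Signal W) (hC : F.Core) (hF : F.Factor) {L : Subgroup G} (hL : Fused F W L) :
    L ≤ normalizer (W : Set G) ∨
      (W ⊓ F.Ca ≤ θ F.a ∧ ((normalizer (W : Set G)).subgroupOf L).index ≤ 7) := by
  classical
  haveI : Fact (Nat.Prime 2) := ⟨Nat.prime_two⟩
  set M := normalizer (W : Set G) with hM
  have hθa : θ F.a ≤ M := (hS.theta F.a (F.hom_mem _) F.a_ord).trans le_normalizer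
  have hOC : OC L ≤ θ F.a :=
    le_OC ((OC_le L).trans hL.le) (odd_card_OC L) (hL.norm.trans (le_normalizer_OC L))
  have hVL : F.V ≤ L := hL.inter.symm.trans_le inf_le_right
  have hV2 : IsPGroup 2 F.V := F.T.2.to_le F.V_le
  have hVidx : ¬ 2 ∣ (F.V.subgroupOf L).index :=
    hL.inter ▸ not_dvd_index_inf F.Ta_pgroup F.Ta_le_Ca hC.not_dvd_index_Ta hL.le hL.norm
  have hsqV : ∀ x ∈ F.V, x * x = 1 := by
    rintro _ ⟨v, hv, rfl⟩
    rw [← map_mul, (W12.fused_facts.2.2.2.2.2.2.2.1 v hv).2, map_one]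
  have hVcomm : ∀ x ∈ F.V, ∀ y ∈ F.V, x * y = y * x := by
    rintro _ ⟨v, hv, rfl⟩ _ ⟨v', hv', rfl⟩
    exact (F.hom_commute.2 ((W12.subV_le v' hv').2.1 v (W12.subV_le v hv).1)).eq
  set O := Cfsg.pPrimeCore 2 ↥L with hO
  haveI : O.Normal := by
    haveI := CfsgLib.Coprime.pPrimeCore_characteristic (G := ↥L) 2
    infer_instance
  have hOodd : Odd (Nat.card O) :=
    CfsgLib.ProdFusion.odd_iff_coprime.2 (CfsgLib.Coprime.pPrimeCore_coprime Nat.prime_two)
  have hOM : ∀ x : L, x ∈ O → (x : G) ∈ OC L := fun x hx => ⟨x, hx, rfl⟩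
  set q := QuotientGroup.mk' O with hq
  have hq1 : ∀ x : L, q x = 1 ↔ x ∈ O := fun x => QuotientGroup.eq_one_iff x
  have hqV : ∀ x : L, (x : G) ∈ F.V → q x = 1 → x = 1 := fun x hx h =>
    eq_one_of_sq hOodd ((hq1 x).1 h) (Subtype.ext (hsqV _ hx))
  let P : Sylow 2 (↥L ⧸ O) := ((hV2.of_equiv (subgroupOfEquivOfLe hVL).symm).map q).toSylow
    fun h => hVidx (h.trans (Subgroup.index_map_dvd _ (QuotientGroup.mk'_surjective O)))
  have hmemP : ∀ p ∈ (P : Subgroup (↥L ⧸ O)), ∃ v : L, (v : G) ∈ F.V ∧ q v = p := fun p hp => hp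
  have hVP : ∀ v : L, (v : G) ∈ F.V → q v ∈ (P : Subgroup (↥L ⧸ O)) := fun v hv => ⟨v, hv, rfl⟩
  have hPsq : ∀ p ∈ (P : Subgroup (↥L ⧸ O)), p * p = 1 := by
    intro p hp
    obtain ⟨v, hv, rfl⟩ := hmemP p hp
    rw [← map_mul, show v * v = 1 from Subtype.ext (hsqV _ hv), map_one]
  have hPcard : Nat.card (P : Subgroup (↥L ⧸ O)) = 4 := by
    rw [← F.card_V, ← Nat.card_congr (subgroupOfEquivOfLe hVL).toEquiv]
    refine (Nat.card_congr (Equiv.ofBijective
      (fun v : F.V.subgroupOf L => (⟨q v, hVP v v.2⟩ : (P : Subgroup (↥L ⧸ O)))) ⟨?_, ?_⟩)).symm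
    · intro v v' e
      have e' : q (v : L) = q v' := congrArg Subtype.val e
      refine Subtype.ext (mul_inv_eq_one.1 (hqV _ (mul_mem v.2 (inv_mem v'.2)) ?_))
      rw [map_mul, map_inv, e', mul_inv_cancel]
    · rintro ⟨p, hp⟩
      obtain ⟨v, hv, rfl⟩ := hmemP p hp
      exact ⟨⟨v, hv⟩, rfl⟩
  have hP : IsKleinFour (P : Subgroup (↥L ⧸ O)) := by
    refine ⟨hPcard, ?_⟩
    haveI : Nontrivial (P : Subgroup (↥L ⧸ O)) := Finite.one_lt_card_iff_nontrivial.1 (by rw [hPcard]; norm_num)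
    refine (Nat.dvd_prime Nat.prime_two).1 (Monoid.exponent_dvd_of_forall_pow_eq_one fun p => Subtype.ext ?_)
      |>.resolve_left fun h => ?_
    · rw [SubgroupClass.coe_pow, pow_two]; exact hPsq p p.2
    · exact absurd (Monoid.exp_eq_one_iff.1 h) (not_subsingleton _)
  set zL : L := ⟨F.z, hVL (F.mem_V.2 W12.gens.2.2.2.1)⟩ with hzL
  -- the involutions of the four group are conjugates of `z`
  have hclass : ∀ v : L, (v : G) ∈ F.V → v ≠ 1 →
      ∃ l : L, (l : G) ∈ M ∧ (l : G) * F.z * (l : G)⁻¹ = v := by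
    intro v hv hv1
    obtain ⟨w, hw, hwe⟩ := hv
    obtain ⟨l, hlL, hlM, e⟩ := hL.turn w hw fun h => hv1 (Subtype.ext (by rw [← hwe, h, map_one]; rfl))
    exact ⟨⟨l, hlL⟩, hlM, e.trans hwe⟩
  have hone : ∀ x : ↥L ⧸ O, orderOf x = 2 → IsConj (q zL) x := by
    intro x hx
    obtain ⟨g, hg⟩ := exists_conj_le_sylow (Q := zpowers x)
      (IsPGroup.of_card (n := 1) (by rw [Nat.card_zpowers, hx, pow_one])) P
    obtain ⟨v, hv, hve⟩ := hmemP _ (hg x (mem_zpowers x))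
    have hv1 : v ≠ 1 := fun h => by
      rw [h, map_one] at hve
      exact invol_ne_one (invol_conj hx g) hve.symm
    obtain ⟨l, -, hl⟩ := hclass v hv hv1
    have h1 : IsConj (q zL) (g * x * g⁻¹) :=
      isConj_iff.2 ⟨q l, by rw [← hve, ← map_inv, ← map_mul, ← map_mul]; exact congrArg q (Subtype.ext hl)⟩
    exact h1.trans (isConj_iff.2 ⟨g, rfl⟩ : IsConj x (g * x * g⁻¹)).symm
  have hzne : q zL ≠ 1 := fun h => invol_ne_one F.z_ord
    (congrArg Subtype.val (hqV zL (F.mem_V.2 W12.gens.2.2.2.1) h))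
  by_cases hn : (P : Subgroup (↥L ⧸ O)).Normal
  · left
    intro g hg
    obtain ⟨v, hv, hve⟩ := hmemP _ (hn.conj_mem (q zL) (hVP zL (F.mem_V.2 W12.gens.2.2.2.1)) (q ⟨g, hg⟩))
    rw [← map_inv, ← map_mul, ← map_mul] at hve
    have hv1 : v ≠ 1 := fun h => by
      rw [h, map_one, map_mul, map_mul, map_inv] at hve
      exact hzne (conj_eq_one_iff.1 hve.symm)
    obtain ⟨o, ho, hoe⟩ := exists_conj_of_congr hOodd
      (invol_conj (by rw [← Subgroup.orderOf_coe]; exact F.z_ord) (⟨g, hg⟩ : L) :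
        orderOf ((⟨g, hg⟩ : L) * zL * (⟨g, hg⟩ : L)⁻¹) = 2)
      (by rw [← Subgroup.orderOf_coe]
          exact invol_iff.2 ⟨hsqV _ hv, fun h => hv1 (Subtype.ext h)⟩ : orderOf v = 2) hve.symm
    have hog : (o : G) * g ∈ M := by
      refine hS.key hC hF (hS.hom_mem_norm W12.gz) ?_ F.z_ord (IsConj.refl _)
      obtain ⟨w, -, hw⟩ := hv
      have h1 : (o : G) * (g * F.z * g⁻¹) * (o : G)⁻¹ = v := congrArg Subtype.val hoe
      rw [show (o : G) * g * F.hom W12.gz * ((o : G) * g)⁻¹ = (o : G) * (g * F.z * g⁻¹) * (o : G)⁻¹ by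
        show _ = (o : G) * (g * F.hom W12.gz * g⁻¹) * (o : G)⁻¹
        group, h1, ← hw]
      exact hS.hom_mem_norm w
    simpa using mul_mem (inv_mem (hθa (hOC (hOM o ho)))) hog
  right
  set X := (W.subgroupOf L).map q with hX
  have hXodd : Odd (Nat.card X) := by
    refine (CfsgLib.ProdFusion.odd_of_le (inf_le_left : W ⊓ L ≤ W) hS.odd).of_dvd_nat ?_
    rw [← Nat.card_congr (subgroupOfEquivOfLe (inf_le_right : W ⊓ L ≤ L)).toEquiv, Subgroup.inf_subgroupOf_right]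
    exact Subgroup.card_map_dvd _ _
  have hPX : ∀ p ∈ (P : Subgroup (↥L ⧸ O)), ∀ x ∈ X, p * x * p⁻¹ ∈ X := by
    intro p hp x hx
    obtain ⟨v, hv, rfl⟩ := hmemP p hp
    obtain ⟨y, hy, rfl⟩ := hx
    exact ⟨v * y * v⁻¹, (mem_normalizer_iff.1 (hS.T_le (F.V_le hv)) _).1 hy, by rw [map_mul, map_mul, map_inv]⟩
  have hCp : ∀ p ∈ (P : Subgroup (↥L ⧸ O)), p ≠ 1 → ∀ g, Commute g p →
      ∃ x ∈ X, ∃ b ∈ (P : Subgroup (↥L ⧸ O)), g = x * b := by
    intro p hp hp1 g hg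
    obtain ⟨v, hv, rfl⟩ := hmemP p hp
    have hv1 : v ≠ 1 := fun h => hp1 (by rw [h, map_one])
    obtain ⟨k, rfl⟩ := QuotientGroup.mk'_surjective O g
    obtain ⟨o, ho, hok⟩ := exists_commute_of_commute_mk hOodd (k := k) (s := v)
      (by rw [← Subgroup.orderOf_coe]; exact invol_iff.2 ⟨hsqV _ hv, fun h => hv1 (Subtype.ext h)⟩) hg
    obtain ⟨l, hlM, hlv⟩ := hclass v hv hv1
    set D := L ⊓ centralizer ({(v : G)} : Set G) with hD
    have hvz : IsConj F.z (v : G) := isConj_iff.2 ⟨l, hlv⟩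
    have hDM : D ≤ M := inf_le_right.trans
      (hS.cent_le hC hF (hS.T_le (F.V_le hv)) (invol_iff.2 ⟨hsqV _ hv, fun h => hv1 (Subtype.ext h)⟩) hvz)
    have hDn : D ≤ normalizer ((W ⊓ D : Subgroup G) : Set G) := fun d hd => mem_of_forall_conj_mem fun x hx =>
      ⟨(mem_normalizer_iff.1 (hDM hd) x).1 hx.1, D.mul_mem (D.mul_mem hd hx.2) (D.inv_mem hd)⟩
    have hVD : F.V ≤ D := le_inf hVL fun x hx => mem_centralizer_singleton_iff.2 (hVcomm x hx _ hv)
    have hVDidx : ¬ 2 ∣ (F.V.subgroupOf D).index := fun h => hVidx (h.trans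
      ⟨D.relIndex L, (Subgroup.relIndex_mul_relIndex F.V D L hVD inf_le_left).symm⟩)
    obtain ⟨x, hx, t, ht, e⟩ := exists_factor hDn hVDidx (fun x hx hxo => by
      refine ⟨?_, hx⟩
      have hy : (l : G)⁻¹ * x * l ∈ F.Cz := mem_centralizer_singleton_iff.2 (by
        calc (l : G)⁻¹ * x * l * F.z = (l : G)⁻¹ * (x * ((l : G) * F.z * (l : G)⁻¹)) * l := by group
          _ = (l : G)⁻¹ * (((l : G) * F.z * (l : G)⁻¹) * x) * l := by
              rw [hlv, mem_centralizer_singleton_iff.1 hx.2]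
          _ = F.z * ((l : G)⁻¹ * x * l) := by group)
      have h1 := hF.odd_mem_theta hy
        (mem_centralizer_singleton_iff.1 (mul_mem (mul_mem (inv_mem (hL.le l.2)) (hL.le hx.1)) (hL.le l.2)) :
          Commute ((l : G)⁻¹ * x * l) F.a)
        (by
          rw [show (l : G)⁻¹ * x * l = MulAut.conj (l : G)⁻¹ x by simp, MulEquiv.orderOf_eq]
          exact hxo)
      have h2 := (mem_normalizer_iff.1 hlM _).1 (hS.theta F.z (F.hom_mem _) F.z_ord h1)
      simpa [mul_assoc] using h2) (show ((o * k : L) : G) ∈ D from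
        ⟨(o * k).2, mem_centralizer_singleton_iff.2 (congrArg Subtype.val hok.eq)⟩)
    refine ⟨q ⟨x, hx.2.1⟩, ⟨⟨x, hx.2.1⟩, hx.1, rfl⟩, q ⟨t, hVL ht⟩, hVP _ ht, ?_⟩
    rw [← map_mul, show (⟨x, hx.2.1⟩ : L) * ⟨t, hVL ht⟩ = o * k from Subtype.ext e.symm, map_mul,
      (hq1 o).2 ho, one_mul]
  have hK : L34Type.KleinType (↥L ⧸ O) P := L34Type.klein_type P hP
    (CfsgLib.Coprime.pPrimeCore_quotient_eq_bot Nat.prime_two) fun x y hx hy => (hone x hx).symm.trans (hone y hy)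
  obtain ⟨h60, -, hTI⟩ := L34Type.card_eq_sixty_of_glued P hP hK hn X hXodd hPX hCp
  refine ⟨?_, ?_⟩
  · -- the fixed points of `a` on the signalizer subgroup
    set R := W ⊓ F.Ca with hR
    have hRodd : Odd (Nat.card R) := CfsgLib.ProdFusion.odd_of_le inf_le_left hS.odd
    have hRL : R ≤ L := fun x hx => hL.odd x hx.2 (odd_orderOf_of_mem hRodd hx)
    set Y := (R.subgroupOf L).map q with hY
    have hYodd : Odd (Nat.card Y) := by
      refine hRodd.of_dvd_nat ?_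
      rw [← Nat.card_congr (subgroupOfEquivOfLe hRL).toEquiv]
      exact Subgroup.card_map_dvd _ _
    have hPY : (P : Subgroup (↥L ⧸ O)) ≤ normalizer (Y : Set (↥L ⧸ O)) := fun p hp => by
      obtain ⟨v, hv, rfl⟩ := hmemP p hp
      refine mem_of_forall_conj_mem ?_
      rintro _ ⟨y, hy, rfl⟩
      exact ⟨v * y * v⁻¹, ⟨(mem_normalizer_iff.1 (hS.T_le (F.V_le hv)) _).1 hy.1,
        (v * y * v⁻¹ : L).2 |> fun h => hL.le h⟩, by rw [map_mul, map_mul, map_inv]⟩
    have hYbot : Y ≤ ⊥ := CfsgLib.SolvSignalizer.le_of_fixed_points (p := 2)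
      (⟨⟨⟨fun x y => Subtype.ext (by
        obtain ⟨b, hb, e1⟩ := hmemP x x.2
        obtain ⟨b', hb', e2⟩ := hmemP y y.2
        show (x : ↥L ⧸ O) * y = y * x
        rw [← e1, ← e2, ← map_mul, ← map_mul]
        exact congrArg q (Subtype.ext (hVcomm _ hb _ hb')))⟩⟩, fun p hp => by rw [pow_two]; exact hPsq p hp⟩)
      (by rw [hPcard]; norm_num) hPY (fun h => Nat.not_even_iff_odd.2 hYodd (even_iff_two_dvd.2 h))
      fun p hp hp1 x hx => mem_bot.2 (eq_one_of_sq hYodd hx.1 (hPsq x (hTI p hp hp1 hx.2)))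
    intro x hx
    exact hOC (hOM ⟨x, hRL hx⟩ ((hq1 _).1 (mem_bot.1 (hYbot ⟨⟨x, hRL hx⟩, hx, rfl⟩))))
  · set H := M.subgroupOf L with hH
    have hker : q.ker ≤ H := fun x hx =>
      hθa (hOC (hOM x ((hq1 x).1 (MonoidHom.mem_ker.1 hx))))
    have hidx := (H.map q).card_mul_index
    rw [Subgroup.index_map_eq _ (QuotientGroup.mk'_surjective O) hker, h60] at hidx
    have hPH : (P : Subgroup (↥L ⧸ O)) ≤ H.map q := fun p hp => by
      obtain ⟨v, hv, rfl⟩ := hmemP p hp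
      exact ⟨v, hS.T_le (F.V_le hv), rfl⟩
    obtain ⟨d, hd⟩ := card_dvd_of_le hPH
    rw [hPcard] at hd
    have hne : Nat.card (H.map q) ≠ 4 := by
      intro h4
      have he : (P : Subgroup (↥L ⧸ O)) = H.map q := eq_of_le_of_card_ge hPH (by rw [h4, hPcard])
      obtain ⟨l, hlM, hle⟩ := hclass ⟨F.u, hVL (F.mem_V.2 W12.gens.2.2.2.2.1)⟩
        (F.mem_V.2 W12.gens.2.2.2.2.1) fun h => invol_ne_one F.u_ord (congrArg Subtype.val h)
      obtain ⟨b, hb, hbe⟩ := hmemP (q l) (he.symm ▸ ⟨l, hlM, rfl⟩)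
      have h1 : q (l * zL * l⁻¹) = q zL := by
        rw [map_mul, map_mul, map_inv, ← hbe, ← map_mul, show b * zL = zL * b from
          Subtype.ext (hVcomm _ hb _ (F.mem_V.2 W12.gens.2.2.2.1)), map_mul, mul_inv_cancel_right]
      have h2 : l * zL * l⁻¹ * zL⁻¹ = 1 := by
        refine hqV _ ?_ (by rw [map_mul, h1, ← map_mul, mul_inv_cancel, map_one])
        show (l : G) * F.z * (l : G)⁻¹ * F.z⁻¹ ∈ F.V
        rw [hle]
        exact mul_mem (F.mem_V.2 W12.gens.2.2.2.2.1) (inv_mem (F.mem_V.2 W12.gens.2.2.2.1))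
      have h3 : (l : G) * F.z * (l : G)⁻¹ * F.z⁻¹ = 1 := congrArg Subtype.val h2
      rw [hle, mul_inv_eq_one] at h3
      exact W12.gens.2.2.2.2.2.2.2.1 (F.hom_injective h3)
    rw [hd] at hidx hne
    have hd2 : 2 ≤ d := by
      rcases Nat.lt_or_ge d 2 with h | h
      · interval_cases d <;> omega
      · exact h
    nlinarith

/-- **the fused case** -/
theorem Signal.cent_a_le_fused (hS : F.Signal W) (hC : F.Core) (hF : F.Factor) {c : G} (hc : c ∈ F.Ca)
    (hcz : c * F.z * c⁻¹ = F.u ∨ c * F.z * c⁻¹ = F.hom W12.gu') : F.Ca ≤ normalizer (W : Set G) := by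
  classical
  haveI : Fact (Nat.Prime 2) := ⟨Nat.prime_two⟩
  obtain ⟨L, hL⟩ := hS.exists_fused hC hF hc hcz
  set M := normalizer (W : Set G) with hM
  have hfactor : ∀ g ∈ F.Ca, ∃ n ∈ L, ∃ t ∈ F.Ta, g = n * t := fun g hg =>
    exists_factor hL.norm hC.not_dvd_index_Ta hL.odd hg
  rcases hS.fused_quot hC hF hL with hLM | ⟨hWa, hidx⟩
  · intro g hg
    obtain ⟨n, hn, t, ht, rfl⟩ := hfactor g hg
    exact mul_mem (hLM hn) (hS.T_le (F.Ta_le_T ht))
  by_contra hcon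
  obtain ⟨f, hf, hfM⟩ := SetLike.not_le_iff_exists.1 hcon
  -- the index of the normaliser in the centraliser
  set H := M.subgroupOf F.Ca with hH
  have hH7 : H.index ≤ 7 := by
    refine le_trans (Nat.card_le_card_of_surjective
      (fun x : ↥L ⧸ M.subgroupOf L => (QuotientGroup.mk (inclusion hL.le x.out) : ↥F.Ca ⧸ H)) ?_) hidx
    intro x
    obtain ⟨⟨g, hg⟩, rfl⟩ := QuotientGroup.mk_surjective x
    obtain ⟨n, hn, t, ht, rfl⟩ := hfactor g hg
    refine ⟨QuotientGroup.mk ⟨n, hn⟩, ?_⟩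
    obtain ⟨h, hh⟩ := QuotientGroup.mk_out_eq_mul (M.subgroupOf L) ⟨n, hn⟩
    show (QuotientGroup.mk (inclusion hL.le (QuotientGroup.mk ⟨n, hn⟩ : ↥L ⧸ M.subgroupOf L).out) : ↥F.Ca ⧸ H) = _
    rw [hh, QuotientGroup.eq]
    show (n * ((h : L) : G))⁻¹ * (n * t) ∈ M
    rw [show (n * ((h : L) : G))⁻¹ * (n * t) = ((h : L) : G)⁻¹ * t by group]
    exact mul_mem (inv_mem h.2) (hS.T_le (F.Ta_le_T ht))
  set fC : F.Ca := ⟨f, hf⟩ with hfC
  set H' := H.map (MulAut.conj fC).toMonoidHom with hH'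
  have hH'7 : H'.index ≤ 7 := le_of_eq_of_le (Subgroup.index_map_equiv H (MulAut.conj fC)) hH7
  -- a four group moved into the normaliser
  set K := H ⊓ H' with hK
  have hr7 : K.relIndex H ≤ 7 := by
    have h1 := Subgroup.relIndex_mul_index (inf_le_left : K ≤ H)
    have h2 : K.index ≤ H.index * H'.index := Subgroup.index_inf_le
    rw [← h1, mul_comm H.index] at h2
    exact (Nat.le_of_mul_le_mul_right h2 (Nat.pos_of_ne_zero index_ne_zero_of_finite)).trans hH'7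
  have h4 : 4 ∣ Nat.card K := by
    have h1 : Nat.card K * K.relIndex H = Nat.card H := by
      rw [← Nat.card_congr (subgroupOfEquivOfLe (inf_le_left : K ≤ H)).toEquiv]
      exact (K.subgroupOf H).card_mul_index
    have h16 : 16 ∣ Nat.card H := by
      rw [← F.card_Ta, ← Nat.card_congr (subgroupOfEquivOfLe F.Ta_le_Ca).toEquiv]
      exact card_dvd_of_le (comap_mono (F.Ta_le_T.trans hS.T_le))
    have hr0 : K.relIndex H ≠ 0 := fun h => by
      rw [h, mul_zero] at h1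
      exact (Nat.card_pos (α := H)).ne' h1.symm
    rw [← h1] at h16
    generalize K.relIndex H = r at *
    interval_cases r <;> omega
  obtain ⟨U, hU⟩ := Sylow.exists_subgroup_card_pow_prime 2 (n := 2) h4
  set aC : F.Ca := ⟨F.a, mem_centralizer_singleton_iff.2 rfl⟩ with haC
  obtain ⟨x, hxU, hx1, hxa⟩ : ∃ x : K, x ∈ U ∧ (x : F.Ca) ≠ 1 ∧ (x : F.Ca) ≠ aC := by
    by_contra h
    push Not at h
    have hsub : Nat.card U ≤ Nat.card ({1, aC} : Set F.Ca) := Nat.card_le_card_of_injective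
      (fun x => ⟨((x : K) : F.Ca), or_iff_not_imp_left.2 fun h1 => h x x.2 h1⟩)
      fun x y e => Subtype.ext (Subtype.ext (congrArg Subtype.val e :))
    have h2 : Nat.card ({1, aC} : Set F.Ca) ≤ 2 := by
      rw [Nat.card_coe_set_eq]
      exact (Set.ncard_insert_le _ _).trans (by rw [Set.ncard_singleton])
    rw [hU] at hsub
    omega
  have hx4 : ((x : F.Ca) : G) ^ 4 = 1 := by
    have h := pow_card_eq_one' (x := (⟨x, hxU⟩ : U))
    rw [hU] at h
    have h' : ((((⟨x, hxU⟩ : U) ^ (2 ^ 2) : U) : K) : F.Ca) = 1 := by rw [h]; rfl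
    exact congrArg Subtype.val h'
  -- the involution
  obtain ⟨t, htK, ht2, ht1, hta⟩ : ∃ t : F.Ca, t ∈ K ∧ (t : G) * t = 1 ∧ t ≠ 1 ∧ t ≠ aC := by
    by_cases h2 : ((x : F.Ca) : G) * (x : F.Ca) = 1
    · exact ⟨x, x.2, h2, hx1, hxa⟩
    refine ⟨(x : F.Ca) * x, mul_mem x.2 x.2, ?_, fun h => h2 (congrArg Subtype.val h), fun h => ?_⟩
    · show ((x : F.Ca) : G) * (x : F.Ca) * (((x : F.Ca) : G) * (x : F.Ca)) = 1
      rw [← mul_assoc, ← pow_three', ← pow_succ]
      exact hx4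
    · have hx2 : IsPGroup 2 (zpowers ((x : F.Ca) : G)) := by
        obtain ⟨i, -, hi⟩ := (Nat.dvd_prime_pow Nat.prime_two).1
          (show orderOf ((x : F.Ca) : G) ∣ 2 ^ 2 from orderOf_dvd_of_pow_eq_one hx4)
        exact IsPGroup.of_card (n := i) (by rw [Nat.card_zpowers, hi])
      obtain ⟨g, hg, hgT⟩ := hC.into_cent_a hx2 (zpowers_le.2 (x : F.Ca).2) (zpowers_le.2 (x : F.Ca).2)
        (inf_le_right : _ ≤ F.Ca) le_rfl
      obtain ⟨w, hw⟩ := F.exists_of_mem (hgT _ (mem_zpowers _)).1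
      refine W12.fused_facts.2.2.2.2.2.2.2.2.1 w (F.hom_injective ?_)
      have hga : g * F.a * g⁻¹ = F.a := mul_inv_eq_iff_eq_mul.2 (mem_centralizer_singleton_iff.1 hg)
      have h' : ((x : F.Ca) : G) * (x : F.Ca) = F.a := congrArg Subtype.val h
      rw [map_mul, hw]
      calc g * ((x : F.Ca) : G) * g⁻¹ * (g * ((x : F.Ca) : G) * g⁻¹)
          = g * (((x : F.Ca) : G) * (x : F.Ca)) * g⁻¹ := by group
        _ = F.hom W12.ga := by rw [h', hga]; rfl
  have htM : (t : G) ∈ M := htK.1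
  have htf : f⁻¹ * t * f ∈ M := by
    obtain ⟨y, hy, e⟩ := htK.2
    rw [← e]
    show f⁻¹ * (f * (y : G) * f⁻¹) * f ∈ M
    rw [show f⁻¹ * (f * (y : G) * f⁻¹) * f = y by group]
    exact hy
  have haM : F.a ∈ M := hS.hom_mem_norm _
  have haf : f⁻¹ * F.a * f = F.a := by
    rw [mul_assoc, ← mem_centralizer_singleton_iff.1 hf, inv_mul_cancel_left]
  have hat : Commute F.a (t : G) := (mem_centralizer_singleton_iff.1 t.2 : (t : G) * F.a = F.a * t).symm
  have ha2 : F.a * F.a = 1 := invol_mul_self F.a_ord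
  have hto : orderOf (t : G) = 2 := invol_iff.2 ⟨ht2, fun h => ht1 (Subtype.ext h)⟩
  have hato : orderOf (F.a * t) = 2 := invol_iff.2 ⟨by
    rw [hat.symm.mul_mul_mul_comm, ha2, ht2, one_mul], fun h => hta (Subtype.ext (by
      rw [eq_inv_of_mul_eq_one_right h]
      exact invol_inv F.a_ord))⟩
  have hatf : f⁻¹ * (F.a * t) * f ∈ M := by
    rw [show f⁻¹ * (F.a * t) * f = f⁻¹ * F.a * f * (f⁻¹ * t * f) by group, haf]
    exact mul_mem haM htf
  -- all three are of the other class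
  have hnz : ∀ k ∈ M, orderOf k = 2 → f⁻¹ * k * f ∈ M → ¬ IsConj F.z k := fun k hk hko hkf hz =>
    hfM (inv_mem_iff.1 (hS.key hC hF hk (by rwa [inv_inv]) hko hz))
  have hWk : ∀ k ∈ M, orderOf k = 2 → ¬ IsConj F.z k → W ⊓ centralizer ({k} : Set G) ≤ θ k := by
    intro k hk hko hkz x hx
    obtain ⟨m, hm, e | e⟩ := hS.to_z_or_a hC hF hk hko
    · exact absurd (isConj_iff.2 ⟨m, e⟩).symm hkz
    · have h1 : m * x * m⁻¹ ∈ θ F.a := hWa ⟨(mem_normalizer_iff.1 hm x).1 hx.1,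
        mem_centralizer_singleton_iff.2 (e ▸ (conj_commute (mem_centralizer_singleton_iff.1 hx.2)).eq)⟩
      rw [← e, ← conjBy_theta, mem_conjBy] at h1
      simpa [mul_assoc] using h1
  have hθ : ∀ k : G, orderOf k = 2 → f⁻¹ * k * f ∈ M → θ k ≤ conjBy f W := by
    intro k hko hkf x hx
    rw [mem_conjBy]
    refine hS.theta_le hC hF hkf (by simpa using invol_conj hko f⁻¹) ?_
    have h1 : f⁻¹ * x * f ∈ conjBy f⁻¹ (θ k) := by rw [mem_conjBy]; simpa [mul_assoc] using hx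
    rw [conjBy_theta, inv_inv] at h1
    exact h1
  let B : Subgroup G :=
    { carrier := {x | x = 1 ∨ x = F.a ∨ x = (t : G) ∨ x = F.a * t}
      one_mem' := Or.inl rfl
      mul_mem' := by
        have e1 : (t : G) * F.a = F.a * t := hat.symm.eq
        have e2 : F.a * (F.a * t) = t := by rw [← mul_assoc, ha2, one_mul]
        have e3 : (t : G) * (F.a * t) = F.a := by rw [← mul_assoc, e1, mul_assoc, ht2, mul_one]
        have e4 : F.a * t * F.a = t := by rw [mul_assoc, e1, e2]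
        have e5 : F.a * t * t = F.a := by rw [mul_assoc, ht2, mul_one]
        have e6 : F.a * t * (F.a * t) = 1 := by rw [← mul_assoc, e4, ht2]
        intro x y hx hy
        simp only [Set.mem_ofPred_eq] at hx hy ⊢
        rcases hx with rfl | rfl | rfl | rfl <;> rcases hy with rfl | rfl | rfl | rfl <;>
          simp [e1, e2, e3, e4, e5, e6, ha2, ht2]
      inv_mem' := by
        intro x hx
        simp only [Set.mem_ofPred_eq] at hx ⊢
        rcases hx with rfl | rfl | rfl | rfl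
        · exact Or.inl inv_one
        · exact Or.inr (Or.inl (invol_inv F.a_ord))
        · exact Or.inr (Or.inr (Or.inl (invol_inv hto)))
        · exact Or.inr (Or.inr (Or.inr (invol_inv hato))) }
  have hBmem : ∀ {x : G}, x ∈ B → x ≠ 1 → x ∈ M ∧ orderOf x = 2 ∧ f⁻¹ * x * f ∈ M := by
    rintro x (rfl | rfl | rfl | rfl) h
    · exact absurd rfl h
    · exact ⟨haM, F.a_ord, haf.symm ▸ haM⟩
    · exact ⟨htM, hto, htf⟩
    · exact ⟨mul_mem haM htM, hato, hatf⟩
  have hBcard : 2 ^ 2 ≤ Nat.card B := by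
    have h : ({1, F.a, (t : G), F.a * t} : Set G) = (B : Set G) := Set.ext fun x => Iff.rfl
    rw [← SetLike.coe_sort_coe, Nat.card_coe_set_eq, ← h, Set.ncard_insert_of_notMem, Set.ncard_insert_of_notMem,
      Set.ncard_insert_of_notMem, Set.ncard_singleton] <;>
      try simp only [Set.mem_insert_iff, Set.mem_singleton_iff, not_or]
    · norm_num
    · exact fun e => invol_ne_one F.a_ord (mul_eq_right.1 e.symm)
    · exact ⟨fun e => hta (Subtype.ext e.symm), fun e => invol_ne_one hto (mul_eq_left.1 e.symm)⟩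
    · exact ⟨fun e => invol_ne_one F.a_ord e.symm, fun e => invol_ne_one hto e.symm,
        fun e => invol_ne_one hato e.symm⟩
  have hBM : B ≤ M := fun x hx => by
    by_cases h : x = 1
    · rw [h]; exact one_mem _
    · exact (hBmem hx h).1
  have hsq : ∀ x ∈ B, x * x = 1 := fun x hx => by
    by_cases h : x = 1
    · rw [h, one_mul]
    · exact invol_mul_self (hBmem hx h).2.1
  have hBel : Cfsg.IsElementaryAbelian 2 B := by
    refine ⟨⟨⟨fun x y => Subtype.ext ?_⟩⟩, fun x hx => (pow_two x).trans (hsq x hx)⟩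
    have hi : ∀ z ∈ B, z⁻¹ = z := fun z hz => inv_eq_of_mul_eq_one_right (hsq z hz)
    show (x : G) * y = y * x
    rw [← hi _ (mul_mem x.2 y.2), mul_inv_rev, hi _ x.2, hi _ y.2]
  have hle : W ≤ conjBy f W := CfsgLib.SolvSignalizer.le_of_fixed_points (p := 2) hBel hBcard hBM
    (fun h => Nat.not_even_iff_odd.2 hS.odd (even_iff_two_dvd.2 h)) fun b hb hb1 => by
      obtain ⟨hbM, hbo, hbf⟩ := hBmem hb hb1
      exact (hWk b hbM hbo (hnz b hbM hbo hbf)).trans (hθ b hbo hbf)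
  exact hfM (conjBy_eq_self_iff.1 (eq_of_le_of_card_ge hle (CfsgLib.Coprime.card_conjBy f W).le).symm)

end Frame

end CfsgLib.Invol.MTwelveType
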