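import Cfsg.Agent.Lib.Invol.MTwelveType.Cosets
import Cfsg.Agent.Lib.Invol.ZStar
import Cfsg.Agent.Lib.Fusion.Tate
import Mathlib.Data.Fintype.Perm

/-!
# Fusion of involutions

The centre is fused to `u`, the normaliser of the centraliser of `u` turns the four group, and with two classes
one of the two normal elementary subgroups is pure.
-/

set_option autoImplicit false
set_option linter.unusedSectionVars false
set_option linter.style.haveILetI false
set_option maxRecDepth 10000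

namespace CfsgLib.Invol.MTwelveType

open Subgroup
open CfsgLib.Invol
open CfsgLib.Coprime (conjBy mem_conjBy conjBy_eq_self_iff)

universe u

namespace W12

/-- the classes of the coset `R` -/
abbrev InR (w : W12) : Prop := InX w ∧ (idx w = (1, 0) ∨ idx w = (0, 1))

theorem z_cases : ∀ w : W12, Inv2 w → w ≠ gz → w = gu ∨ w = gu' ∨ InR w ∨
    ∃ c, c * w = w * c ∧ ∃ d, d * w = w * d ∧ c * d * c⁻¹ * d⁻¹ = gz := by decide +kernel
theorem comm_inv : ∀ c d : W12, Inv2 (c * d * c⁻¹ * d⁻¹) →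
    c * d * c⁻¹ * d⁻¹ = gz ∨ c * d * c⁻¹ * d⁻¹ = gu ∨ c * d * c⁻¹ * d⁻¹ = gu' := by decide +kernel
theorem R_conj : ∀ w : W12, InR w → ∃ c, c * w * c⁻¹ = gr := by decide +kernel
theorem cent_gr : ∀ v : W12, v * gr = gr * v → v ∈ subER := by decide +kernel
theorem ER_inv : ∀ w : W12, w ∈ subER → Inv2 w → w = gz ∨ w = gu ∨ w = gu' ∨ InR w := by decide +kernel
theorem ER_elem : ∀ v : W12, v ∈ subER → v * gr = gr * v ∧ v * gz = gz * v := by decide +kernel
theorem small_cent : ∀ y : W12, Inv2 y → y ≠ gz → y ≠ gu → y ≠ gu' →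
    (Finset.univ.filter fun v => v * y = y * v).card ≤ 16 := by decide +kernel
theorem big_cent : ∀ y : W12, y = gu ∨ y = gu' → (∀ v, v * y = y * v ↔ v ∈ subM) := by decide +kernel
theorem gens : gz * gu = gu' ∧ gu * gu' = gz ∧ gu' * gz = gu ∧ gz ∈ subV ∧ gu ∈ subV ∧ gu' ∈ subV ∧
    gu' ≠ gz ∧ gu ≠ gz ∧ gu ≠ gu' ∧ Inv2 gu' ∧ Inv2 gr ∧ InR gr ∧ gs * gu * gs⁻¹ = gu' ∧
    gs * gu' * gs⁻¹ = gu ∧ gs * gz * gs⁻¹ = gz ∧ shift gz = gz ∧ shift gu = gu ∧ shift gu' = gu' := by decide +kernel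
theorem rep_cases : ∀ w : W12, Inv2 w → ∃ c, c * w * c⁻¹ ∈ [gz, gu, gu', gp, gr, ga, gs, gas] := by decide +kernel
theorem shift_M : ∀ w : W12, (shift w ∈ subM ↔ w ∈ subM) := by decide +kernel
theorem shift_X : ∀ w : W12, InX w → InX (shift w) ∧ idx (shift w) = idx w + (1, 1) := by decide +kernel
theorem shift_back : ∀ w : W12, InX w → idx w = (1, 1) → ∃ w', InX w' ∧ idx w' = 0 ∧ shift w' = w := by
  decide +kernel
theorem coset_zero : ∀ w : W12, InX w → idx w = 0 → ∃ c, c.s = 0 ∧ c * w * c⁻¹ = ga := by decide +kernel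
theorem coset_step : ∀ w w' : W12, InX w → InX w' → idx w' = idx w →
    w' = w ∨ w' = w * gz ∨ w' = w * gu ∨ w' = w * gu' := by decide +kernel
theorem idx_small : idx ga = 0 ∧ idx gp = (1, 1) ∧ idx gr = (1, 0) ∧ InX ga ∧ InX gp ∧ InX gr := by decide +kernel
theorem C4_cases : ∀ c : C4, c = 0 ∨ c = (1, 1) ∨ c = (1, 0) ∨ c = (0, 1) := by decide +kernel

/-- the exchange as a permutation of the cosets -/
def swapPerm : Equiv.Perm C4 := Equiv.prodComm _ _

theorem perm_cases : ∀ σ : Equiv.Perm C4, σ * σ * σ = 1 → σ ≠ 1 → σ 0 = 0 ∨ σ (1, 1) = (1, 1) ∨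
    (∀ c, (σ * (swapPerm * σ * swapPerm) * (σ * (swapPerm * σ * swapPerm))) c = c ∧
      (σ * (swapPerm * σ * swapPerm)) c ≠ c) ∨
    (∀ c, (σ * (swapPerm * σ * σ * swapPerm) * (σ * (swapPerm * σ * σ * swapPerm))) c = c ∧
      (σ * (swapPerm * σ * σ * swapPerm)) c ≠ c) := by decide +kernel

end W12

open W12 (C4 idx rep InX InR)

variable {G : Type u} [Group G] [Finite G]

namespace Frame

variable (F : Frame G)

/-- conjugacy between coordinates -/
abbrev Rel (v w : W12) : Prop := IsConj (F.hom v) (F.hom w)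

theorem rel_s : F.Rel W12.gu W12.gu' := F.isConj_hom W12.gens.2.2.2.2.2.2.2.2.2.2.2.2.1

theorem back_commutator {w c d : W12} (h : F.Rel W12.gz w) (hw : w ≠ W12.gz) (hc : c * w = w * c)
    (hd : d * w = w * d) (hcd : c * d * c⁻¹ * d⁻¹ = W12.gz) : F.Rel W12.gz W12.gu := by
  haveI : Fact (Nat.Prime 2) := ⟨Nat.prime_two⟩
  set R : Subgroup G := (F.T : Subgroup G) ⊓ centralizer ({F.hom w} : Set G) with hR
  obtain ⟨g, hg, hgR⟩ := F.exists_back (show IsConj F.z (F.hom w) from h) (R := R) inf_le_right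
    (F.T.2.to_le inf_le_left)
  have hm : ∀ v, v * w = w * v → F.hom v ∈ R := fun v hv =>
    ⟨F.hom_mem v, mem_centralizer_singleton_iff.2 (F.hom_commute.2 hv).eq⟩
  obtain ⟨c', hc'⟩ := F.exists_of_mem (hgR _ (hm c hc))
  obtain ⟨d', hd'⟩ := F.exists_of_mem (hgR _ (hm d hd))
  have e : F.hom (c' * d' * c'⁻¹ * d'⁻¹) = g * F.z * g⁻¹ := by
    rw [map_mul, map_mul, map_mul, map_inv, map_inv, hc', hd',
      show F.z = F.hom (c * d * c⁻¹ * d⁻¹) by rw [hcd]; rfl, map_mul, map_mul, map_mul, map_inv, map_inv]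
    group
  have hinv : W12.Inv2 (c' * d' * c'⁻¹ * d'⁻¹) := F.hom_invol.1 (e ▸ invol_conj F.z_ord g)
  have hconj : IsConj F.z (F.hom (c' * d' * c'⁻¹ * d'⁻¹)) := isConj_iff.2 ⟨g, e.symm⟩
  rcases W12.comm_inv c' d' hinv with h' | h' | h' <;> rw [h'] at hconj e
  · refine absurd ?_ hw
    apply F.hom_injective
    exact (mul_left_cancel (mul_right_cancel ((e.symm.trans hg.symm : g * F.z * g⁻¹ = g * F.hom w * g⁻¹)))).symm
  · exact hconj
  · exact hconj.trans F.rel_s.symm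

include F in
theorem center_eq_bot [IsSimpleGroup G] : center G = ⊥ := by
  rcases Subgroup.Normal.eq_bot_or_eq_top (inferInstance : (center G).Normal) with h | h
  · exact h
  · exfalso
    have hc : ∀ a b : W12, a * b = b * a := fun a b => F.hom_commute.1
      (mem_center_iff.1 (h ▸ mem_top (F.hom b)) (F.hom a))
    exact absurd (hc W12.gr W12.gs) (by decide +kernel)

include F in
theorem oddCore_eq_bot [IsSimpleGroup G] : Cfsg.pPrimeCore 2 G = ⊥ := by
  haveI := CfsgLib.Coprime.pPrimeCore_characteristic (G := G) 2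
  rcases Subgroup.Normal.eq_bot_or_eq_top (inferInstance : (Cfsg.pPrimeCore 2 G).Normal) with h | h
  · exact h
  · exfalso
    have := CfsgLib.Coprime.pPrimeCore_not_dvd (G := G) Nat.prime_two
    rw [h, card_top] at this
    exact this (F.z_ord ▸ orderOf_dvd_natCard F.z)

/-- **the centre is fused to `u`** -/
theorem isConj_z_u [IsSimpleGroup G] : IsConj F.z F.u := by
  haveI : Fact (Nat.Prime 2) := ⟨Nat.prime_two⟩
  by_contra hne
  have hR : ∀ w : W12, F.Rel W12.gz w → w ≠ W12.gz → InR w := by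
    intro w h hw
    have hwi : W12.Inv2 w := by
      obtain ⟨g, hg⟩ := isConj_iff.1 h
      exact F.hom_invol.1 (hg ▸ invol_conj F.z_ord g)
    rcases W12.z_cases w hwi hw with rfl | rfl | h' | ⟨c, hc, d, hd, hcd⟩
    · exact absurd h hne
    · exact absurd (h.trans F.rel_s.symm) hne
    · exact h'
    · exact absurd (F.back_commutator h hw hc hd hcd) hne
  obtain ⟨g, hgT, hgne⟩ : ∃ g : G, g * F.z * g⁻¹ ∈ (F.T : Subgroup G) ∧ g * F.z * g⁻¹ ≠ F.z := by
    by_contra h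
    push Not at h
    have hc := CfsgLib.Invol.zstar_of_weakly_closed F.T F.z_ord fun g hg => h g hg
    have : F.z ∈ center G := mem_center_iff.2 fun g => by
      have h1 := hc g
      rw [F.oddCore_eq_bot, mem_bot] at h1
      exact (mul_inv_eq_iff_eq_mul.1 (mul_inv_eq_one.1 h1)).symm
    rw [F.center_eq_bot, mem_bot] at this
    exact invol_ne_one F.z_ord this
  obtain ⟨w, hw⟩ := F.exists_of_mem hgT
  have hwz : F.Rel W12.gz w := isConj_iff.2 ⟨g, hw.symm⟩
  obtain ⟨c, hc⟩ := W12.R_conj w (hR w hwz fun e => hgne (by rw [← hw, e]; rfl))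
  have hr : F.Rel W12.gz W12.gr := hwz.trans (F.isConj_hom hc)
  obtain ⟨g, hg, hgR⟩ := F.exists_back hr (R := F.ER) (by
    rintro _ ⟨v, hv, rfl⟩
    exact mem_centralizer_singleton_iff.2 (F.hom_commute.2 (W12.ER_elem v hv).1).eq)
    (F.T.2.to_le F.ER_le)
  obtain ⟨y, hy⟩ := F.exists_of_mem (hgR F.z (F.mem_ER.2 (by decide +kernel)))
  have hyz : F.Rel W12.gz y := isConj_iff.2 ⟨g, hy.symm⟩
  obtain ⟨c, hc⟩ := W12.R_conj y (hR y hyz fun e => by
    have e1 : g * F.z * g⁻¹ = g * F.hom W12.gr * g⁻¹ := by rw [← hy, e]; exact hg.symm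
    exact absurd (F.hom_injective (mul_left_cancel (mul_right_cancel e1))) (by decide +kernel))
  set n := F.hom c * g with hn
  have hnz : n * F.z * n⁻¹ = F.hom W12.gr := by
    rw [hn, show F.hom c * g * F.z * (F.hom c * g)⁻¹ = F.hom c * (g * F.z * g⁻¹) * (F.hom c)⁻¹ by group, ← hy,
      F.hom_conj, hc]
  have hmap : ∀ v ∈ W12.subER, ∃ v' ∈ W12.subER, F.hom v' = n * F.hom v * n⁻¹ := by
    intro v hv
    obtain ⟨v', hv'⟩ := F.exists_of_mem (show n * F.hom v * n⁻¹ ∈ (F.T : Subgroup G) by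
      rw [hn, show F.hom c * g * F.hom v * (F.hom c * g)⁻¹ = F.hom c * (g * F.hom v * g⁻¹) * (F.hom c)⁻¹ by group]
      exact (F.T : Subgroup G).mul_mem ((F.T : Subgroup G).mul_mem (F.hom_mem c) (hgR _ (F.mem_ER.2 hv)))
        ((F.T : Subgroup G).inv_mem (F.hom_mem c)))
    refine ⟨v', W12.cent_gr v' (F.hom_injective ?_), hv'⟩
    rw [map_mul, map_mul, hv', ← hnz]
    calc n * F.hom v * n⁻¹ * (n * F.z * n⁻¹) = n * (F.hom v * F.z) * n⁻¹ := by group
      _ = n * (F.z * F.hom v) * n⁻¹ := by rw [F.z_central (F.hom_mem v)]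
      _ = _ := by group
  have hK : ∀ v ∈ W12.subER, (v = W12.gu ∨ v = W12.gu') →
      ∃ v', (v' = W12.gu ∨ v' = W12.gu') ∧ F.hom v' = n * F.hom v * n⁻¹ := by
    intro v hv hvu
    obtain ⟨v', hv', e⟩ := hmap v hv
    refine ⟨v', ?_, e⟩
    have hvi : W12.Inv2 v := by rcases hvu with rfl | rfl <;> decide +kernel
    have hv'i : W12.Inv2 v' := F.hom_invol.1 (e ▸ invol_conj (F.hom_invol.2 hvi) n)
    have hvz : ¬ F.Rel W12.gz v := by
      rcases hvu with rfl | rfl
      · exact hne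
      · exact fun h => hne (h.trans F.rel_s.symm)
    rcases W12.ER_inv v' hv' hv'i with rfl | h | h | h
    · exact absurd (isConj_iff.2 ⟨n, e.symm⟩).symm hvz
    · exact Or.inl h
    · exact Or.inr h
    · obtain ⟨c', hc'⟩ := W12.R_conj v' h
      exact absurd (hr.trans ((F.isConj_hom hc').symm.trans (isConj_iff.2 ⟨n, e.symm⟩).symm)) hvz
  obtain ⟨v₁, h1, e1⟩ := hK W12.gu (by decide +kernel) (Or.inl rfl)
  obtain ⟨v₂, h2, e2⟩ := hK W12.gu' (by decide +kernel) (Or.inr rfl)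
  have h12 : v₁ ≠ v₂ := fun e => absurd
    (F.hom_injective (mul_left_cancel (mul_right_cancel (e1.symm.trans ((congrArg F.hom e).trans e2)))))
    (by decide +kernel)
  have hprod : v₁ * v₂ = W12.gz := by
    rcases h1 with rfl | rfl <;> rcases h2 with rfl | rfl <;> first | exact absurd rfl h12 | decide +kernel
  have : n * F.z * n⁻¹ = F.z := by
    show n * F.hom W12.gz * n⁻¹ = F.hom W12.gz
    conv_rhs => rw [← hprod, map_mul, e1, e2]
    rw [show W12.gz = W12.gu * W12.gu' by decide +kernel, map_mul]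
    group
  exact absurd (F.hom_injective (this.symm.trans hnz)) (by decide +kernel)

theorem card_le_of_central {H : Subgroup G} (hH : H ≤ (F.T : Subgroup G)) {y : W12}
    (hy : ∀ g ∈ H, Commute g (F.hom y)) :
    Nat.card H ≤ (Finset.univ.filter fun v => v * y = y * v).card := by
  classical
  rw [← Nat.card_eq_finsetCard]
  refine Nat.card_le_card_of_injective
    (fun g => ⟨F.e.symm ⟨g.1, hH g.2⟩, Finset.mem_filter.2 ⟨Finset.mem_univ _, F.hom_commute.1 ?_⟩⟩) ?_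
  · rw [show F.hom (F.e.symm ⟨g.1, hH g.2⟩) = g.1 from congrArg Subtype.val (F.e.apply_symm_apply _)]
    exact hy g g.2
  · intro g g' e
    exact Subtype.ext (Subtype.mk.inj (F.e.symm.injective (congrArg Subtype.val e)))

/-- a large subgroup of the Sylow subgroup commuting with a further involution is `M5` -/
theorem eq_M5_of_central {H : Subgroup G} (hH : H ≤ (F.T : Subgroup G)) (h32 : Nat.card H = 32) {y : W12}
    (hyi : W12.Inv2 y) (hyz : y ≠ W12.gz) (hy : ∀ g ∈ H, Commute g (F.hom y)) :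
    (y = W12.gu ∨ y = W12.gu') ∧ H = F.M5 := by
  have hy' : y = W12.gu ∨ y = W12.gu' := by
    by_contra h
    push Not at h
    have := (F.card_le_of_central hH hy).trans (W12.small_cent y hyi hyz h.1 h.2)
    omega
  refine ⟨hy', eq_of_le_of_card_ge (fun g hg => ?_) (by rw [F.card_M5, h32])⟩
  obtain ⟨v, rfl⟩ := F.exists_of_mem (hH hg)
  exact F.mem_M5.2 ((W12.big_cent y hy' v).1 (F.hom_commute.1 (hy _ hg)))

/-- the turn of the four group -/
structure Turn0 (h : G) : Prop where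
  mem : h ∈ normalizer (F.M5 : Set G)
  odd : Odd (orderOf h)
  hz : h * F.z * h⁻¹ = F.u
  hu : h * F.u * h⁻¹ = F.hom W12.gu'

theorem Turn0.hu' {h : G} (H : F.Turn0 h) : h * F.hom W12.gu' * h⁻¹ = F.z := by
  conv_lhs => rw [← W12.gens.1, map_mul]
  rw [show h * (F.hom W12.gz * F.hom W12.gu) * h⁻¹ = (h * F.hom W12.gz * h⁻¹) * (h * F.hom W12.gu * h⁻¹) by group,
    show h * F.hom W12.gz * h⁻¹ = F.u from H.hz, show h * F.hom W12.gu * h⁻¹ = F.hom W12.gu' from H.hu]
  show F.hom W12.gu * F.hom W12.gu' = F.z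
  rw [← map_mul, W12.gens.2.1]
  rfl

/-- **the normaliser of `M5` turns the four group** -/
theorem exists_turn0 (hzu : IsConj F.z F.u) : ∃ h, F.Turn0 h := by
  haveI : Fact (Nat.Prime 2) := ⟨Nat.prime_two⟩
  obtain ⟨g, hg, hgR⟩ := F.exists_back hzu (R := F.M5) (by
    rintro _ ⟨v, hv, rfl⟩
    exact mem_centralizer_singleton_iff.2 (F.hom_commute.2 ((W12.subM_cent v).1 hv)).eq) (F.T.2.to_le F.M5_le)
  obtain ⟨y, hy⟩ := F.exists_of_mem (hgR F.z (F.mem_M5.2 (by decide +kernel)))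
  have hyi : W12.Inv2 y := F.hom_invol.1 (hy ▸ invol_conj F.z_ord g)
  have hle : conjBy g F.M5 ≤ (F.T : Subgroup G) := by rintro _ ⟨x, hx, rfl⟩; exact hgR x hx
  obtain ⟨hy', hM⟩ := F.eq_M5_of_central hle (by rw [CfsgLib.Coprime.card_conjBy, F.card_M5]) hyi
    (fun e => by
      have e1 : g * F.z * g⁻¹ = g * F.u * g⁻¹ := by rw [← hy, e]; exact hg.symm
      exact absurd (F.hom_injective (mul_left_cancel (mul_right_cancel e1))) (by decide +kernel))
    (by
      rintro _ ⟨x, hx, rfl⟩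
      rw [hy]
      exact (Commute.map (show Commute x F.z from F.z_central (F.M5_le hx)) (MulAut.conj g).toMonoidHom))
  have hgn : g ∈ normalizer (F.M5 : Set G) := conjBy_eq_self_iff.1 hM
  -- an element moving `u` to `z` and `z` to `u'`
  obtain ⟨k, hkn, hku, hkz⟩ : ∃ k ∈ normalizer (F.M5 : Set G),
      k * F.u * k⁻¹ = F.z ∧ k * F.z * k⁻¹ = F.hom W12.gu' := by
    rcases hy' with rfl | rfl
    · refine ⟨F.hom W12.gs * g, mul_mem (F.T_le_normM5 (F.hom_mem _)) hgn, ?_, ?_⟩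
      · rw [show F.hom W12.gs * g * F.u * (F.hom W12.gs * g)⁻¹ =
          F.hom W12.gs * (g * F.u * g⁻¹) * (F.hom W12.gs)⁻¹ by group, hg]
        exact (F.hom_conj _ _).trans (congrArg F.hom W12.gens.2.2.2.2.2.2.2.2.2.2.2.2.2.2.1)
      · rw [show F.hom W12.gs * g * F.z * (F.hom W12.gs * g)⁻¹ =
          F.hom W12.gs * (g * F.z * g⁻¹) * (F.hom W12.gs)⁻¹ by group, ← hy, F.hom_conj]
        exact congrArg F.hom W12.gens.2.2.2.2.2.2.2.2.2.2.2.2.1
    · exact ⟨g, hgn, hg, hy.symm⟩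
  set l := k⁻¹ with hl
  have hlz : l * F.z * l⁻¹ = F.u := by rw [← hku, hl]; group
  have hlu' : l * F.hom W12.gu' * l⁻¹ = F.z := by rw [← hkz, hl]; group
  have hlu : l * F.u * l⁻¹ = F.hom W12.gu' := by
    have e : F.u = F.hom W12.gu' * F.z := by
      show F.hom W12.gu = F.hom W12.gu' * F.hom W12.gz
      rw [← map_mul, W12.gens.2.2.1]
    conv_lhs => rw [e]
    rw [show l * (F.hom W12.gu' * F.z) * l⁻¹ = (l * F.hom W12.gu' * l⁻¹) * (l * F.z * l⁻¹) by group, hlu', hlz]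
    show F.hom W12.gz * F.hom W12.gu = _
    rw [← map_mul, W12.gens.1]
  have hln : l ∈ normalizer (F.M5 : Set G) := inv_mem hkn
  set a := (orderOf l).factorization 2 with ha
  -- conjugation by `l ^ 3` fixes the four group
  have h3 : ∀ x : G, x = F.z ∨ x = F.u → l ^ 3 * x * (l ^ 3)⁻¹ = x := by
    intro x hx
    rw [pow_succ, pow_two, show l * l * l * x * (l * l * l)⁻¹ = l * (l * (l * x * l⁻¹) * l⁻¹) * l⁻¹ by group]
    rcases hx with rfl | rfl
    · rw [hlz, hlu, hlu']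
    · rw [hlu, hlu', hlz]
  have h3j : ∀ j : ℕ, ∀ x : G, x = F.z ∨ x = F.u → l ^ (3 * j) * x * (l ^ (3 * j))⁻¹ = x := by
    intro j x hx
    induction j with
    | zero => simp
    | succ j ih =>
      rw [Nat.mul_succ, pow_add, show l ^ (3 * j) * l ^ 3 * x * (l ^ (3 * j) * l ^ 3)⁻¹ =
        l ^ (3 * j) * (l ^ 3 * x * (l ^ 3)⁻¹) * (l ^ (3 * j))⁻¹ by group, h3 x hx, ih]
  obtain ⟨j, hj⟩ : ∃ j, 4 ^ a = 1 + 3 * j := ⟨4 ^ a / 3, by
    have := Nat.pow_mod 4 a 3
    norm_num at this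
    omega⟩
  refine ⟨l ^ (4 ^ a), pow_mem hln _, ?_, ?_, ?_⟩
  · have h0 : orderOf l ≠ 0 := (orderOf_pos l).ne'
    have h1 : orderOf (l ^ (4 ^ a)) ∣ orderOf (l ^ (2 ^ a)) := by
      rw [show (4 : ℕ) ^ a = 2 ^ a * 2 ^ a by rw [← mul_pow]; norm_num, pow_mul]
      exact orderOf_pow_dvd _
    refine Odd.of_dvd_nat ?_ h1
    rw [orderOf_pow, Nat.gcd_eq_right (Nat.ordProj_dvd _ _), Nat.odd_iff]
    have := Nat.not_dvd_ordCompl Nat.prime_two h0
    omega
  · rw [hj, pow_add, pow_one, show l * l ^ (3 * j) * F.z * (l * l ^ (3 * j))⁻¹ =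
      l * (l ^ (3 * j) * F.z * (l ^ (3 * j))⁻¹) * l⁻¹ by group, h3j j _ (Or.inl rfl), hlz]
  · rw [hj, pow_add, pow_one, show l * l ^ (3 * j) * F.u * (l * l ^ (3 * j))⁻¹ =
      l * (l ^ (3 * j) * F.u * (l ^ (3 * j))⁻¹) * l⁻¹ by group, h3j j _ (Or.inr rfl), hlu]

theorem act_inv_spec {n : G} (hn : n ∈ normalizer (F.M5 : Set G)) {w : W12} (hw : InX w) {c : C4}
    (hc : F.act n (idx w) = c) : ∃ w', InX w' ∧ idx w' = c ∧ F.hom w' = n * F.hom w * n⁻¹ := by
  obtain ⟨w', h1, h2, h3⟩ := F.act_spec hn hw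
  exact ⟨w', h1, h3.trans hc, h2⟩

/-- the turn with a fixed involution of the mixed coset -/
structure Turn (h : G) : Prop extends F.Turn0 h where
  ha : Commute h F.a

/-- the turn fixes the coset of `x`, or that of `(1, 1) x`, and moves the others -/
theorem Turn0.perm {h : G} (H : F.Turn0 h) :
    (F.rho ⟨h, H.mem⟩) * (F.rho ⟨h, H.mem⟩) * (F.rho ⟨h, H.mem⟩) = 1 ∧ F.rho ⟨h, H.mem⟩ ≠ 1 := by
  classical
  set x : normalizer (F.M5 : Set G) := ⟨h, H.mem⟩ with hx
  constructor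
  · have h1 : orderOf (F.rho x) ∣ orderOf x := orderOf_map_dvd _ _
    have h2 : orderOf (F.rho x) ∣ 24 := by
      refine (orderOf_dvd_natCard (F.rho x)).trans ?_
      rw [Nat.card_eq_fintype_card, Fintype.card_perm]
      decide +kernel
    rw [hx, Subgroup.orderOf_mk] at h1
    have hcop : Nat.Coprime (orderOf (F.rho x)) 8 := by
      rw [show (8 : ℕ) = 2 ^ 3 from rfl]
      exact (Nat.coprime_two_right.2 (H.odd.of_dvd_nat h1)).pow_right 3
    have h3 : orderOf (F.rho x) ∣ 3 := hcop.dvd_of_dvd_mul_left (show orderOf (F.rho x) ∣ 8 * 3 from h2)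
    rw [← pow_two, ← pow_succ]
    exact orderOf_dvd_iff_pow_eq_one.1 h3
  · intro e
    have hfix : ∀ c, F.act h c = c := fun c => by rw [← F.rho_apply x, e]; rfl
    obtain ⟨w, hw, e1, hi⟩ := F.act_spec H.mem (W12.rep_inX (1, 0)).1
    obtain ⟨w', hw', e2, hi'⟩ := F.act_spec H.mem (W12.rep_inX 0).1
    rw [hfix, W12.idx_rep] at hi hi'
    have key : h * F.hom (W12.vlift (1, 0)) * h⁻¹ = F.hom (W12.vlift (1, 0)) := by
      conv_rhs => rw [show ((1, 0) : C4) = idx w + idx w' by rw [hi, hi', add_zero], ← W12.sq_rep w w' hw hw']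
      conv_lhs => rw [show ((1, 0) : C4) = idx (rep (1, 0)) + idx (rep 0) by rw [W12.idx_rep, W12.idx_rep, add_zero],
        ← W12.sq_rep _ _ (W12.rep_inX (1, 0)).1 (W12.rep_inX 0).1]
      rw [map_mul, map_mul, map_mul, map_mul, e1, e2]
      group
    rw [show W12.vlift (1, 0) = W12.gu by decide +kernel] at key
    exact absurd (F.hom_injective (H.hu.symm.trans key)) (by decide +kernel)

theorem rho_gs : F.rho ⟨F.hom W12.gs, F.T_le_normM5 (F.hom_mem _)⟩ = W12.swapPerm := Equiv.ext fun c => by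
  rw [F.rho_apply, F.act_hom, (W12.conj_rep _ _).2.2 rfl]
  rfl

theorem M5_shift : F.shift.M5 = F.M5 := by
  ext g
  constructor
  · rintro ⟨w, hw, rfl⟩
    exact ⟨W12.shift w, (W12.shift_M w).2 hw, (F.shift_hom w).symm⟩
  · rintro ⟨w, hw, rfl⟩
    obtain ⟨v, rfl⟩ := W12.shift_bij.2 w
    exact ⟨v, (W12.shift_M v).1 hw, F.shift_hom v⟩

theorem shift_z : F.shift.z = F.z := (F.shift_hom _).trans (congrArg F.hom (by decide +kernel))
theorem shift_u : F.shift.u = F.u := (F.shift_hom _).trans (congrArg F.hom (by decide +kernel))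
theorem shift_u' : F.shift.hom W12.gu' = F.hom W12.gu' := (F.shift_hom _).trans (congrArg F.hom (by decide +kernel))

theorem Turn0.shift {h : G} (H : F.Turn0 h) : F.shift.Turn0 h :=
  ⟨by rw [F.M5_shift]; exact H.mem, H.odd, by rw [F.shift_z, F.shift_u]; exact H.hz,
    by rw [F.shift_u, F.shift_u']; exact H.hu⟩

theorem exists_fixing {h : G} (H : F.Turn0 h)
    (hc : ∀ w, InX w → idx w = 0 → ∃ w', InX w' ∧ idx w' = 0 ∧ F.hom w' = h * F.hom w * h⁻¹) :
    ∃ h', F.Turn h' := by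
  obtain ⟨w, hw, hwi, he⟩ := hc W12.ga (by decide +kernel) (by decide +kernel)
  obtain ⟨v, hv, hvfix⟩ : ∃ v, InX v ∧ idx v = 0 ∧ h * F.hom v * h⁻¹ = F.hom v := by
    have mk : ∀ d e : W12, h * F.hom d * h⁻¹ = F.hom e → w = W12.ga * (d * e) → e * (d * e) = d → InX (W12.ga * d) →
        idx (W12.ga * d) = 0 → W12.ga * d * e * e = W12.ga * d → ∃ v, InX v ∧ idx v = 0 ∧ h * F.hom v * h⁻¹ = F.hom v := by
      intro d e hde hw' he' hX hI hee
      refine ⟨W12.ga * d, hX, hI, ?_⟩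
      rw [map_mul, show h * (F.hom W12.ga * F.hom d) * h⁻¹ = (h * F.hom W12.ga * h⁻¹) * (h * F.hom d * h⁻¹) by group,
        ← he, hde, hw', ← map_mul, ← map_mul]
      congr 1
      rw [← mul_assoc]
      exact hee
    rcases W12.coset_step W12.ga w (by decide +kernel) hw (hwi.trans W12.idx_small.1.symm) with rfl | rfl | rfl | rfl
    · exact ⟨W12.ga, by decide +kernel, by decide +kernel, he.symm⟩
    · exact mk W12.gu W12.gu' H.hu (by decide +kernel) (by decide +kernel) (by decide +kernel) (by decide +kernel)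
        (by decide +kernel)
    · exact mk W12.gu' W12.gz H.hu' (by decide +kernel) (by decide +kernel) (by decide +kernel) (by decide +kernel)
        (by decide +kernel)
    · exact mk W12.gz W12.gu H.hz (by decide +kernel) (by decide +kernel) (by decide +kernel) (by decide +kernel)
        (by decide +kernel)
  obtain ⟨c, hcs, hca⟩ := W12.coset_zero v hv hvfix.1
  have hcV : ∀ x ∈ W12.subV, (F.hom c)⁻¹ * F.hom x * F.hom c = F.hom x := by
    intro x hx
    have hcm : Commute (F.hom c) (F.hom x) := F.hom_commute.2 ((W12.subV_le x hx).2.1 c hcs)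
    rw [mul_assoc, ← hcm.eq, inv_mul_cancel_left]
  have hfixV : ∀ x ∈ W12.subV, ∀ y ∈ W12.subV, h * F.hom x * h⁻¹ = F.hom y →
      F.hom c * h * (F.hom c)⁻¹ * F.hom x * (F.hom c * h * (F.hom c)⁻¹)⁻¹ = F.hom y := by
    intro x hx y hy e
    rw [show F.hom c * h * (F.hom c)⁻¹ * F.hom x * (F.hom c * h * (F.hom c)⁻¹)⁻¹ =
      F.hom c * (h * ((F.hom c)⁻¹ * F.hom x * F.hom c) * h⁻¹) * (F.hom c)⁻¹ by group, hcV x hx, e]
    exact mul_inv_eq_iff_eq_mul.2 (F.hom_commute.2 ((W12.subV_le y hy).2.1 c hcs)).eq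
  refine ⟨F.hom c * h * (F.hom c)⁻¹,
    ⟨mul_mem (mul_mem (F.T_le_normM5 (F.hom_mem c)) H.mem) (inv_mem (F.T_le_normM5 (F.hom_mem c))), ?_,
      hfixV _ (by decide +kernel) _ (by decide +kernel) H.hz, hfixV _ (by decide +kernel) _ (by decide +kernel) H.hu⟩, ?_⟩
  · rw [← MulAut.conj_apply, MulEquiv.orderOf_eq (MulAut.conj (F.hom c)) h]; exact H.odd
  · refine mul_inv_eq_iff_eq_mul.1 ?_
    show F.hom c * h * (F.hom c)⁻¹ * F.hom W12.ga * (F.hom c * h * (F.hom c)⁻¹)⁻¹ = F.hom W12.ga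
    rw [← hca, ← F.hom_conj]
    rw [show F.hom c * h * (F.hom c)⁻¹ * (F.hom c * F.hom v * (F.hom c)⁻¹) * (F.hom c * h * (F.hom c)⁻¹)⁻¹ =
      F.hom c * (h * F.hom v * h⁻¹) * (F.hom c)⁻¹ by group, hvfix.2]

/-- **some frame has a turn fixing an involution of the mixed coset** -/
theorem exists_turn {h : G} (H : F.Turn0 h) :
    (∃ h', F.Turn h') ∨ ∃ h', F.shift.Turn h' := by
  classical
  obtain ⟨h3, h1⟩ := H.perm
  set σ := F.rho ⟨h, H.mem⟩ with hσ
  have hsn := F.T_le_normM5 (F.hom_mem W12.gs)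
  rcases W12.perm_cases σ h3 h1 with h0 | h11 | hd | hd
  · refine Or.inl (F.exists_fixing H fun w hw hi => F.act_inv_spec H.mem hw ?_)
    rw [hi]; exact h0
  · refine Or.inr (F.shift.exists_fixing H.shift fun w hw hi => ?_)
    obtain ⟨hX, hI⟩ := W12.shift_X w hw
    obtain ⟨w'', hw'', hi'', e⟩ := F.act_inv_spec (c := (1, 1)) H.mem hX (by rw [hI, hi, zero_add]; exact h11)
    obtain ⟨w', hw', hi', rfl⟩ := W12.shift_back w'' hw'' hi''
    exact ⟨w', hw', hi', by rw [F.shift_hom, F.shift_hom]; exact e⟩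
  · exfalso
    set n : normalizer (F.M5 : Set G) := ⟨h, H.mem⟩ * (⟨_, hsn⟩ * ⟨h, H.mem⟩ * ⟨_, hsn⟩) with hn
    have e : F.rho n = σ * (W12.swapPerm * σ * W12.swapPerm) := by rw [hn, map_mul, map_mul, map_mul, F.rho_gs]
    exact F.no_double n.2 (fun c => by rw [← F.rho_apply, ← F.rho_apply, e]; exact (hd c).1)
      (fun c => by rw [← F.rho_apply, e]; exact (hd c).2)
  · exfalso
    set n : normalizer (F.M5 : Set G) := ⟨h, H.mem⟩ * (⟨_, hsn⟩ * ⟨h, H.mem⟩ * ⟨h, H.mem⟩ * ⟨_, hsn⟩) with hn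
    have e : F.rho n = σ * (W12.swapPerm * σ * σ * W12.swapPerm) := by
      rw [hn, map_mul, map_mul, map_mul, map_mul, F.rho_gs]
    exact F.no_double n.2 (fun c => by rw [← F.rho_apply, ← F.rho_apply, e]; exact (hd c).1)
      (fun c => by rw [← F.rho_apply, e]; exact (hd c).2)

end Frame

end CfsgLib.Invol.MTwelveType
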