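import Cfsg.Agent.Lib.Invol.MTwelveType.NoFusion

/-!
# The elements of the centraliser of `z` normalising the extraspecial subgroup
-/

set_option autoImplicit false
set_option linter.unusedSectionVars false
set_option linter.style.haveILetI false
set_option maxRecDepth 10000

namespace CfsgLib.Invol.MTwelveType

open Subgroup
open CfsgLib.Invol
open CfsgLib.Coprime (conjBy mem_conjBy conjBy_eq_self_iff)

universe u

namespace W12

/-- the image of an element of `E0` from the images of `u` and `p` -/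
def img (wu wp w : W12) : W12 :=
  (if w.x = 1 then wp else 1) * ((if (if w.x = 1 then gp * w else w) = gu ∨ (if w.x = 1 then gp * w else w) = gu'
    then wu else 1) * (if (if w.x = 1 then gp * w else w) = gz ∨ (if w.x = 1 then gp * w else w) = gu' then gz else 1))

/-- images of `u` and `p` -/
abbrev PairOK (wu wp : W12) : Prop :=
  wu ∈ subE0 ∧ wp ∈ subE0 ∧ wu ≠ 1 ∧ wu ≠ gz ∧ wp ≠ 1 ∧ wp ≠ gz ∧ wp ≠ wu ∧ wp ≠ wu * gz

/-- no fixed point modulo the centre -/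
abbrev RotC (wu wp : W12) : Prop :=
  (gu * wu ≠ 1 ∧ gu * wu ≠ gz) ∧ (gp * wp ≠ 1 ∧ gp * wp ≠ gz) ∧
    (gu * gp * (wu * wp) ≠ 1 ∧ gu * gp * (wu * wp) ≠ gz)

theorem img_id : ∀ w : W12, w ∈ subE0 → img gu gp w = w := by decide +kernel
theorem img_rot : ∀ wu : W12, wu ∈ subE0 → ∀ wp : W12, wp ∈ subE0 → RotC wu wp →
    ∀ w : W12, w ∈ subE0 → (img wu wp w * w⁻¹ = 1 ∨ img wu wp w * w⁻¹ = gz) → w = 1 ∨ w = gz := by decide +kernel
theorem img_three : ∀ wu : W12, wu ∈ subE0 → ∀ wp : W12, wp ∈ subE0 →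
    img wu wp gu = wu ∧ img wu wp gp = wp ∧ img wu wp (gu * gp) = wu * wp ∧ wu * gu⁻¹ = gu * wu ∧
      wp * gp⁻¹ = gp * wp ∧ (wu * wp) * (gu * gp)⁻¹ = gu * gp * (wu * wp) := by decide +kernel
theorem not_rot : ∀ wu : W12, wu ∈ subE0 → ∀ wp : W12, wp ∈ subE0 → PairOK wu wp →
    RotC wu wp ∨ wu = gu ∨ wu = gu' ∨ img wu wp wu = gu ∨ img wu wp wu = gu' := by decide +kernel
theorem fix_pair : ∀ wu : W12, wu ∈ subE0 → ∀ wp : W12, wp ∈ subE0 → PairOK wu wp → (wu = gu ∨ wu = gu') →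
    ∃ t : W12, t * gu * t⁻¹ = wu ∧ t * gp * t⁻¹ = wp := by decide +kernel
theorem fix_u : ∀ wp : W12, wp ∈ subE0 → PairOK gu wp → wp * gp ∈ subV ∧ wp * gp * gp = wp := by decide +kernel
theorem E0_reps : ∀ w : W12, w ∈ subE0 → Inv2 w → ∃ c, c * w * c⁻¹ ∈ [gz, gu, gu', gp] := by decide +kernel
theorem Q_split : ∀ w : W12, w ∈ subQ → Inv2 w → w ∈ subE0 ∨ ∃ c, c * w * c⁻¹ ∈ [ga, gs, gas] := by decide +kernel
theorem E0_sq_mem : ∀ w : W12, w ∈ subE0 → w ∈ subQ ∧ w * w = 1 := by decide +kernel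
theorem E0_comm : ∀ v w : W12, v ∈ subE0 → w ∈ subE0 → v * w = w * v := by decide +kernel
theorem E0_class : (∀ w : W12, w ∈ subE0 → Inv2 w → ∃ c, c * w * c⁻¹ ∈ [gz, gu, gu', gp]) ∧
    (∀ w : W12, w ∈ subQ → Inv2 w → w ∈ subE0 ∨ ∃ c, c * w * c⁻¹ ∈ [ga, gs, gas]) ∧
    (∀ w : W12, w ∈ subE0 → w ∈ subQ ∧ w * w = 1) ∧ (∀ v w : W12, v ∈ subE0 → w ∈ subE0 → v * w = w * v) ∧
    gu ∈ subE0 ∧ gp ∈ subE0 ∧ gz ∈ subE0 ∧ gu' ∈ subE0 ∧ gz ∈ subQ :=
  ⟨E0_reps, Q_split, E0_sq_mem, E0_comm, by decide +kernel, by decide +kernel, by decide +kernel, by decide +kernel,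
    by decide +kernel⟩
theorem comm_cent : ∀ w : W12, w ∈ subQ → ∀ w' : W12, w' ∈ subQ →
    w' * gu * w'⁻¹ * gu⁻¹ = w * gu * w⁻¹ * gu⁻¹ → w' * gp * w'⁻¹ * gp⁻¹ = w * gp * w⁻¹ * gp⁻¹ →
      w' * w⁻¹ ∈ subE0 := by decide +kernel
theorem comm_E0 : ∀ w : W12, w ∈ subQ → ∀ e : W12, e ∈ subE0 →
    w * e * w⁻¹ * e⁻¹ = 1 ∨ w * e * w⁻¹ * e⁻¹ = gz := by decide +kernel
theorem comm_rot : ∀ w : W12, w ∈ subQ → ∀ wu : W12, wu ∈ subE0 → ∀ wp : W12, wp ∈ subE0 → RotC wu wp →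
    w * gu * w⁻¹ * gu⁻¹ = w * wu * w⁻¹ * wu⁻¹ → w * gp * w⁻¹ * gp⁻¹ = w * wp * w⁻¹ * wp⁻¹ → w ∈ subE0 := by
  decide +kernel
theorem rot_trans : ∀ wu : W12, wu ∈ subE0 → ∀ wp : W12, wp ∈ subE0 → InX wu → (wp = gu ∨ wp = gu') →
    RotC wu wp ∨ RotC (img wu wp ((⟨1, 0, 0, 0⟩ : W12) * gu * (⟨1, 0, 0, 0⟩ : W12)⁻¹))
      (img wu wp ((⟨1, 0, 0, 0⟩ : W12) * gp * (⟨1, 0, 0, 0⟩ : W12)⁻¹)) := by decide +kernel
theorem K_iff : ∀ w : W12, ((w * gu * w⁻¹ = gu ∨ w * gu * w⁻¹ = gu') ∧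
    (w * gp * w⁻¹ = gp ∨ w * gp * w⁻¹ = gp * gz)) ↔ w ∈ subQ := by decide +kernel
theorem cent_E0 : ∀ w : W12, w * gu = gu * w → w * gp = gp * w → w ∈ subE0 := by decide +kernel
theorem cent_gp_E0 : ∀ w : W12, w ∈ subE0 → w * gp = gp * w ∧ w ∈ subM := by decide +kernel
theorem conj_Q : ∀ v w : W12, w ∈ subQ → v * w * v⁻¹ ∈ subQ := by decide +kernel

end W12

open W12 (InX idx img PairOK RotC)

variable {G : Type u} [Group G] [Finite G]

/-- an element of odd order moving `x` by a fixed involution fixes it -/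
theorem odd_fix {σ x w : G} (ho : Odd (orderOf σ)) (hw : w * w = 1) (hσw : Commute σ w)
    (h : σ * x * σ⁻¹ = w * x) : Commute σ x := by
  have key : ∀ n : ℕ, σ ^ n * x * (σ ^ n)⁻¹ = w ^ n * x := by
    intro n
    induction n with
    | zero => simp
    | succ n ih =>
      calc σ ^ (n + 1) * x * (σ ^ (n + 1))⁻¹ = σ * (σ ^ n * x * (σ ^ n)⁻¹) * σ⁻¹ := by rw [pow_succ']; group
        _ = (σ * w ^ n * σ⁻¹) * (σ * x * σ⁻¹) := by rw [ih]; group
        _ = w ^ n * (w * x) := by rw [(hσw.pow_right n).eq, mul_inv_cancel_right, h]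
        _ = w ^ (n + 1) * x := by rw [pow_succ, mul_assoc]
  have h1 := key (orderOf σ)
  obtain ⟨r, hr⟩ := ho
  rw [pow_orderOf_eq_one, one_mul, inv_one, mul_one, hr, pow_succ, pow_mul, pow_two, hw, one_pow, one_mul] at h1
  have hw1 : w = 1 := mul_eq_right.1 h1.symm
  rw [hw1, one_mul] at h
  exact mul_inv_eq_iff_eq_mul.1 h

namespace Frame

variable (F : Frame G)

/-- the elements of the centraliser of `z` normalising `E0` -/
abbrev N0 : Subgroup G := normalizer (F.E0 : Set G) ⊓ F.Cz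

theorem sq_E0 {x : G} (hx : x ∈ F.E0) : x * x = 1 := by
  obtain ⟨w, hw, rfl⟩ := hx
  rw [← map_mul, (W12.E0_class.2.2.1 w hw).2, map_one]

theorem comm_E0 {x y : G} (hx : x ∈ F.E0) (hy : y ∈ F.E0) : Commute x y := by
  obtain ⟨v, hv, rfl⟩ := hx
  obtain ⟨w, hw, rfl⟩ := hy
  exact F.hom_commute.2 (W12.E0_class.2.2.2.1 v w hv hw)

theorem E0_le_Q : F.E0 ≤ F.Q := by rintro _ ⟨w, hw, rfl⟩; exact F.mem_Q.2 (W12.E0_class.2.2.1 w hw).1

theorem elemE0 : Cfsg.IsElementaryAbelian 2 F.E0 :=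
  ⟨⟨⟨fun a b => Subtype.ext (F.comm_E0 a.2 b.2).eq⟩⟩, fun a ha => by rw [pow_two]; exact F.sq_E0 ha⟩

theorem z_mem_E0 : F.z ∈ F.E0 := F.mem_E0.2 W12.E0_class.2.2.2.2.2.2.1
theorem u_mem_E0 : F.u ∈ F.E0 := F.mem_E0.2 W12.E0_class.2.2.2.2.1
theorem z_mem_Q : F.z ∈ F.Q := F.E0_le_Q F.z_mem_E0

theorem T_le_normQ : (F.T : Subgroup G) ≤ normalizer (F.Q : Set G) := fun t ht => by
  refine CfsgLib.ProdFusion.mem_of_forall_conj_mem ?_
  rintro _ ⟨w, hw, rfl⟩
  obtain ⟨v, rfl⟩ := F.exists_of_mem ht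
  exact F.conj_mem_map (W12.conj_Q v w hw)

theorem T_le_N0 : (F.T : Subgroup G) ≤ F.N0 := le_inf (fun t ht => by
  refine CfsgLib.ProdFusion.mem_of_forall_conj_mem ?_
  rintro _ ⟨w, hw, rfl⟩
  obtain ⟨v, rfl⟩ := F.exists_of_mem ht
  exact F.conj_mem_map ((W12.E_normal v w).1 hw)) F.T_le_Cz

/-- the action on `E0` in coordinates -/
theorem exists_imgs {n : G} (hn : n ∈ F.N0) : ∃ wu wp, PairOK wu wp ∧
    F.hom wu = n * F.u * n⁻¹ ∧ F.hom wp = n * F.hom W12.gp * n⁻¹ ∧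
    ∀ w ∈ W12.subE0, n * F.hom w * n⁻¹ = F.hom (img wu wp w) := by
  obtain ⟨wu, hu, eu⟩ := (mem_normalizer_iff.1 hn.1 _).1 F.u_mem_E0
  obtain ⟨wp, hp, ep⟩ := (mem_normalizer_iff.1 hn.1 _).1 (F.mem_E0.2 W12.E0_class.2.2.2.2.2.1)
  have hz : n * F.hom W12.gz * n⁻¹ = F.hom W12.gz :=
    mul_inv_eq_iff_eq_mul.2 (mem_centralizer_singleton_iff.1 hn.2)
  have inj : ∀ {a b : W12}, n * F.hom a * n⁻¹ = n * F.hom b * n⁻¹ → a = b := fun e =>
    F.hom_injective (mul_left_cancel (mul_right_cancel e))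
  have hone : n * F.hom 1 * n⁻¹ = F.hom 1 := by rw [map_one, mul_one, mul_inv_cancel]
  have eu' : n * F.hom W12.gu * n⁻¹ = F.hom wu := eu.symm
  refine ⟨wu, wp, ⟨hu, hp, ?_, ?_, ?_, ?_, ?_, ?_⟩, eu, ep, fun w hw => ?_⟩
  · rintro rfl; exact absurd (inj (eu'.trans hone.symm)) (by decide +kernel)
  · rintro rfl; exact absurd (inj (eu'.trans hz.symm)) (by decide +kernel)
  · rintro rfl; exact absurd (inj (ep.symm.trans hone.symm)) (by decide +kernel)
  · rintro rfl; exact absurd (inj (ep.symm.trans hz.symm)) (by decide +kernel)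
  · rintro rfl; exact absurd (inj (ep.symm.trans eu'.symm)) (by decide +kernel)
  · rintro rfl
    refine absurd (inj (a := W12.gp) (b := W12.gu * W12.gz) ?_) (by decide +kernel)
    rw [← ep, map_mul, map_mul, ← eu']
    calc n * F.hom W12.gu * n⁻¹ * F.hom W12.gz = n * F.hom W12.gu * n⁻¹ * (n * F.hom W12.gz * n⁻¹) := by rw [hz]
      _ = n * (F.hom W12.gu * F.hom W12.gz) * n⁻¹ := by group
  · have hif : ∀ (c : Prop) [Decidable c] (a b : W12), n * F.hom a * n⁻¹ = F.hom b →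
        n * F.hom (if c then a else 1) * n⁻¹ = F.hom (if c then b else 1) := by
      intro c _ a b h; split_ifs; exacts [h, hone]
    conv_lhs => rw [← W12.img_id w hw]
    simp only [W12.img, map_mul]
    rw [show ∀ a b c : G, n * (a * (b * c)) * n⁻¹ = (n * a * n⁻¹) * ((n * b * n⁻¹) * (n * c * n⁻¹)) from
      fun a b c => by group, hif _ _ _ ep.symm, hif _ _ _ eu', hif _ _ _ hz]

/-- the fixed-point-free elements -/
theorem rot_iff {n : G} {wu wp : W12} (h : PairOK wu wp)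
    (hi : ∀ w ∈ W12.subE0, n * F.hom w * n⁻¹ = F.hom (img wu wp w)) : F.Rot n ↔ RotC wu wp := by
  obtain ⟨h1, h2, h3, e1, e2, e3⟩ := W12.img_three wu h.1 wp h.2.1
  constructor
  · intro hr
    have key : ∀ x, x ∈ W12.subE0 → x ≠ 1 → x ≠ W12.gz →
        img wu wp x * x⁻¹ ≠ 1 ∧ img wu wp x * x⁻¹ ≠ W12.gz := by
      intro x hx hx1 hxz
      have hcond : ∀ y, img wu wp x * x⁻¹ = y → n * F.hom x * n⁻¹ * (F.hom x)⁻¹ = F.hom y := fun y hy => by
        rw [hi x hx, ← map_inv, ← map_mul, hy]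
      refine ⟨fun e => ?_, fun e => ?_⟩
      · rcases hr _ (F.mem_E0.2 hx) (Or.inl ((hcond _ e).trans (map_one _))) with h' | h'
        exacts [hx1 (F.hom_eq_one.1 h'), hxz (F.hom_injective h')]
      · rcases hr _ (F.mem_E0.2 hx) (Or.inr (hcond _ e)) with h' | h'
        exacts [hx1 (F.hom_eq_one.1 h'), hxz (F.hom_injective h')]
    have ku := key W12.gu (by decide +kernel) (by decide +kernel) (by decide +kernel)
    have kp := key W12.gp (by decide +kernel) (by decide +kernel) (by decide +kernel)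
    have kq := key (W12.gu * W12.gp) (by decide +kernel) (by decide +kernel) (by decide +kernel)
    rw [h1, e1] at ku
    rw [h2, e2] at kp
    rw [h3, e3] at kq
    exact ⟨ku, kp, kq⟩
  · intro hr x hx hc
    obtain ⟨w, hw, rfl⟩ := hx
    have hc' : img wu wp w * w⁻¹ = 1 ∨ img wu wp w * w⁻¹ = W12.gz := by
      rw [hi w hw, ← map_inv, ← map_mul] at hc
      rcases hc with h' | h'
      exacts [Or.inl (F.hom_eq_one.1 h'), Or.inr (F.hom_injective h')]
    rcases W12.img_rot wu h.1 wp h.2.1 hr w hw hc' with rfl | rfl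
    exacts [Or.inl (map_one _), Or.inr rfl]

/-- an element of odd order either moves all three pairs or centralises `E0` -/
theorem rot_or_cent {k : G} (hk : k ∈ F.N0) (ho : Odd (orderOf k)) :
    F.Rot k ∨ ∀ x ∈ F.E0, Commute k x := by
  obtain ⟨wu, wp, hok, eu, ep, hi⟩ := F.exists_imgs hk
  rcases W12.not_rot wu hok.1 wp hok.2.1 hok with h | h
  · exact Or.inl ((F.rot_iff hok hi).2 h)
  refine Or.inr ?_
  have hkz : k * F.hom W12.gz * k⁻¹ = F.hom W12.gz :=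
    mul_inv_eq_iff_eq_mul.2 (mem_centralizer_singleton_iff.1 hk.2)
  -- `k ^ 2` keeps the pair, hence so does `k`
  have h2 : k * k * F.u * (k * k)⁻¹ = F.u ∨ k * k * F.u * (k * k)⁻¹ = F.hom W12.gu' := by
    have e : k * k * F.u * (k * k)⁻¹ = F.hom (img wu wp wu) := by rw [← hi wu hok.1, eu]; group
    rcases h with h | h | h | h
    · subst h; rw [e, (W12.img_three _ hok.1 wp hok.2.1).1]; exact Or.inl rfl
    · subst h
      rw [show k * k * F.u * (k * k)⁻¹ = k * (k * F.u * k⁻¹) * k⁻¹ by group, ← eu,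
        show W12.gu' = W12.gu * W12.gz by decide +kernel, map_mul,
        show k * (F.hom W12.gu * F.hom W12.gz) * k⁻¹ = (k * F.hom W12.gu * k⁻¹) * (k * F.hom W12.gz * k⁻¹) by group,
        show k * F.hom W12.gu * k⁻¹ = F.hom W12.gu' from eu.symm, hkz, ← map_mul]
      exact Or.inl (congrArg F.hom (by decide +kernel))
    · rw [e, h]; exact Or.inl rfl
    · rw [e, h]; exact Or.inr rfl
  have hz2 : ∀ j : ℕ, (k * k) ^ j * F.hom W12.gz * ((k * k) ^ j)⁻¹ = F.hom W12.gz := fun j =>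
    mul_inv_eq_iff_eq_mul.2 (((show Commute k (F.hom W12.gz) from mul_inv_eq_iff_eq_mul.1 hkz).mul_left
      (mul_inv_eq_iff_eq_mul.1 hkz)).pow_left j).eq
  have hiter : ∀ j : ℕ, (k * k) ^ j * F.u * ((k * k) ^ j)⁻¹ = F.u ∨
      (k * k) ^ j * F.u * ((k * k) ^ j)⁻¹ = F.hom W12.gu' := by
    intro j
    induction j with
    | zero => simp
    | succ j ih =>
      have e : (k * k) ^ (j + 1) * F.u * ((k * k) ^ (j + 1))⁻¹ =
          (k * k) ^ j * (k * k * F.u * (k * k)⁻¹) * ((k * k) ^ j)⁻¹ := by rw [pow_succ]; group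
      rw [e]
      rcases h2 with h' | h' <;> rw [h']
      · exact ih
      · rw [show W12.gu' = W12.gu * W12.gz by decide +kernel, map_mul,
          show (k * k) ^ j * (F.hom W12.gu * F.hom W12.gz) * ((k * k) ^ j)⁻¹ = ((k * k) ^ j * F.hom W12.gu *
            ((k * k) ^ j)⁻¹) * ((k * k) ^ j * F.hom W12.gz * ((k * k) ^ j)⁻¹) by group, hz2,
          show F.hom W12.gu = F.u from rfl]
        rcases ih with h'' | h'' <;> rw [h'']
        · right; rw [show F.u = F.hom W12.gu from rfl]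
        · left
          show F.hom W12.gu' * F.hom W12.gz = F.hom W12.gu
          rw [← map_mul, W12.gens.2.2.1]
  have hfixu : k * F.u * k⁻¹ = F.u := by
    obtain ⟨r, hr⟩ := id ho
    have hkr : (k * k) ^ r * k = 1 := by
      rw [← pow_two, ← pow_mul, ← pow_succ, ← hr, pow_orderOf_eq_one]
    have e : (k * k) ^ r = k⁻¹ := eq_inv_of_mul_eq_one_left hkr
    have hi' := hiter r
    rw [e, inv_inv] at hi'
    rcases hi' with h' | h'
    · calc k * F.u * k⁻¹ = k * (k⁻¹ * F.u * k) * k⁻¹ := by rw [h']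
        _ = F.u := by group
    · have hstep : k * F.u * k⁻¹ = F.z * F.u := by
        have e1 : k * F.hom W12.gu' * k⁻¹ = F.u := by rw [← h']; group
        calc k * F.u * k⁻¹ = (k * F.hom W12.gu' * k⁻¹) * (k * F.hom W12.gz * k⁻¹) := by
              rw [show F.u = F.hom (W12.gu' * W12.gz) from congrArg F.hom W12.gens.2.2.1.symm, map_mul]; group
          _ = F.u * F.z := by rw [e1, hkz]; rfl
          _ = F.z * F.u := (F.z_central (F.hom_mem _))
      exact mul_inv_eq_iff_eq_mul.2 (odd_fix ho (invol_mul_self F.z_ord)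
        (mem_centralizer_singleton_iff.1 hk.2) hstep).eq
  have hwu : wu = W12.gu := F.hom_injective (eu.trans hfixu)
  subst hwu
  obtain ⟨hV, hVp⟩ := W12.fix_u wp hok.2.1 hok
  have hkV : ∀ v ∈ W12.subV, Commute k (F.hom v) := by
    intro v hv
    rcases (W12.subV_le v hv).2.2 with rfl | rfl | rfl | rfl
    · rw [map_one]; exact Commute.one_right _
    · exact mem_centralizer_singleton_iff.1 hk.2
    · exact mul_inv_eq_iff_eq_mul.1 hfixu
    · rw [← W12.gens.1, map_mul]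
      exact (show Commute k (F.hom W12.gz) from mem_centralizer_singleton_iff.1 hk.2).mul_right
        (mul_inv_eq_iff_eq_mul.1 hfixu)
  have hkp : Commute k (F.hom W12.gp) := odd_fix ho (by
    rw [← map_mul, show wp * W12.gp * (wp * W12.gp) = 1 from
      (W12.E0_class.2.2.1 _ (W12.subE0.mul_mem hok.2.1 W12.E0_class.2.2.2.2.2.1)).2, map_one]) (hkV _ hV) (by
    rw [← map_mul, hVp]; exact ep.symm)
  intro x hx
  obtain ⟨w, hw, rfl⟩ := hx
  refine mul_inv_eq_iff_eq_mul.1 ?_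
  rw [hi w hw]
  have : wp = W12.gp := F.hom_injective (ep.trans (mul_inv_eq_iff_eq_mul.2 hkp.eq))
  rw [this, W12.img_id w hw]

end Frame

namespace Frame.Core

variable {F : Frame G} (hC : F.Core)
include hC

theorem z_of_E0 {w : W12} (hw : w ∈ W12.subE0) (hwi : W12.Inv2 w) : F.Rel W12.gz w := by
  obtain ⟨c, hc⟩ := W12.E0_class.1 w hw hwi
  have h' := F.rel_conj (c := c) (w := w) rfl
  simp only [List.mem_cons, List.not_mem_nil, or_false] at hc
  rcases hc with e | e | e | e <;> rw [e] at h'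
  exacts [h'.symm, (show F.Rel W12.gz W12.gu from hC.zu).trans h'.symm, hC.rel_u'.trans h'.symm, hC.p.trans h'.symm]

theorem norm_E0 : normalizer (F.Q : Set G) ⊓ F.Cz ≤ normalizer (F.E0 : Set G) := by
  intro n hn
  refine CfsgLib.ProdFusion.mem_of_forall_conj_mem ?_
  rintro _ ⟨w, hw, rfl⟩
  by_cases hw1 : w = 1
  · subst hw1
    rw [map_one, mul_one, mul_inv_cancel]
    exact one_mem _
  · have hwi : W12.Inv2 w := ⟨hw1, (W12.E0_class.2.2.1 w hw).2⟩
    obtain ⟨w', hw', e⟩ := (mem_normalizer_iff.1 hn.1 _).1 (F.E0_le_Q (F.mem_E0.2 hw))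
    rcases W12.E0_class.2.1 w' hw' (F.hom_invol.1 (e ▸ invol_conj (F.hom_invol.2 hwi) n)) with h | h
    · rw [← e]; exact F.mem_E0.2 h
    · exact absurd ((hC.z_of_E0 hw hwi).trans (isConj_iff.2 ⟨n, e.symm⟩)) (hC.not_z h)

theorem NQ_le_N0 : normalizer (F.Q : Set G) ⊓ F.Cz ≤ F.N0 := le_inf hC.norm_E0 inf_le_right

theorem fpf {n : G} (hn : n ∈ normalizer (F.Q : Set G) ⊓ F.Cz) (hr : F.Rot n) {q : G} (hq : q ∈ F.Q)
    (hc : n * q * n⁻¹ * q⁻¹ = 1 ∨ n * q * n⁻¹ * q⁻¹ = F.z) : q = 1 ∨ q = F.z := by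
  obtain ⟨w, hw, rfl⟩ := hq
  obtain ⟨wu, wp, hok, eu, ep, hi⟩ := F.exists_imgs (hC.NQ_le_N0 hn)
  have hr' := (F.rot_iff hok hi).1 hr
  obtain ⟨d, hd, hq'⟩ : ∃ d : G, (∀ y : G, y ∈ (F.T : Subgroup G) → Commute d y) ∧
      n * F.hom w * n⁻¹ = d * F.hom w := by
    rcases hc with h | h
    · exact ⟨1, fun y _ => Commute.one_left y, by rw [one_mul]; exact mul_inv_eq_one.1 h⟩
    · exact ⟨F.z, fun y hy => (F.z_central hy).symm, mul_inv_eq_iff_eq_mul.1 h⟩
  have key : ∀ e e' : W12, e ∈ W12.subE0 → n * F.hom e * n⁻¹ = F.hom e' →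
      w * e * w⁻¹ * e⁻¹ = w * e' * w⁻¹ * e'⁻¹ := by
    intro e e' he hee
    apply F.hom_injective
    have hz : n * F.z * n⁻¹ = F.z := mul_inv_eq_iff_eq_mul.2 (mem_centralizer_singleton_iff.1 hn.2)
    have hl : n * F.hom (w * e * w⁻¹ * e⁻¹) * n⁻¹ = F.hom (w * e * w⁻¹ * e⁻¹) := by
      rcases W12.comm_E0 w hw e he with h | h <;> rw [h]
      · rw [map_one, mul_one, mul_inv_cancel]
      · exact hz
    rw [← hl, map_mul, map_mul, map_mul, map_inv, map_inv, map_mul, map_mul, map_mul, map_inv, map_inv]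
    rw [show n * (F.hom w * F.hom e * (F.hom w)⁻¹ * (F.hom e)⁻¹) * n⁻¹ = (n * F.hom w * n⁻¹) * (n * F.hom e * n⁻¹) *
      (n * F.hom w * n⁻¹)⁻¹ * (n * F.hom e * n⁻¹)⁻¹ by group, hq', hee,
      show d * F.hom w * F.hom e' * (d * F.hom w)⁻¹ = d * (F.hom w * F.hom e' * (F.hom w)⁻¹) * d⁻¹ by group,
      (hd _ (mul_mem (mul_mem (F.hom_mem w) (F.hom_mem e')) (inv_mem (F.hom_mem w)))).eq, mul_inv_cancel_right]
  exact hr (F.hom w) (F.mem_E0.2 (W12.comm_rot w hw wu hok.1 wp hok.2.1 hr'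
    (key _ _ W12.E0_class.2.2.2.2.1 eu.symm) (key _ _ W12.E0_class.2.2.2.2.2.1 ep.symm))) hc

theorem cent_Q {k : G} (hk : k ∈ normalizer (F.Q : Set G) ⊓ F.Cz) (ho : Odd (orderOf k))
    (hE : ∀ x ∈ F.E0, Commute k x) {q : G} (hq : q ∈ F.Q) : Commute k q := by
  obtain ⟨w, hw, rfl⟩ := hq
  obtain ⟨w', hw', e⟩ := (mem_normalizer_iff.1 hk.1 _).1 (F.mem_Q.2 hw)
  have key : ∀ d : W12, d ∈ W12.subE0 → w' * d * w'⁻¹ * d⁻¹ = w * d * w⁻¹ * d⁻¹ := by
    intro d hd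
    apply F.hom_injective
    have hc : Commute k (F.hom (w * d * w⁻¹ * d⁻¹)) := by
      rcases W12.comm_E0 w hw d hd with h | h <;> rw [h]
      · rw [map_one]; exact Commute.one_right _
      · exact mem_centralizer_singleton_iff.1 hk.2
    rw [← mul_inv_eq_iff_eq_mul.2 hc.eq, map_mul, map_mul, map_mul, map_inv, map_inv, map_mul, map_mul, map_mul,
      map_inv, map_inv, e,
      show k * (F.hom w * F.hom d * (F.hom w)⁻¹ * (F.hom d)⁻¹) * k⁻¹ = (k * F.hom w * k⁻¹) * (k * F.hom d * k⁻¹) *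
        (k * F.hom w * k⁻¹)⁻¹ * (k * F.hom d * k⁻¹)⁻¹ by group,
      mul_inv_eq_iff_eq_mul.2 (hE _ (F.mem_E0.2 hd)).eq]
  have hd := W12.comm_cent w hw w' hw' (key _ W12.E0_class.2.2.2.2.1) (key _ W12.E0_class.2.2.2.2.2.1)
  refine odd_fix ho (F.sq_E0 (F.mem_E0.2 hd)) (hE _ (F.mem_E0.2 hd)) ?_
  rw [map_mul, map_inv, e]
  group

/-- a rotation in the normaliser of `E0` -/
theorem exists_rot0 : ∃ n ∈ F.N0, F.Rot n := by
  haveI : Fact (Nat.Prime 2) := ⟨Nat.prime_two⟩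
  obtain ⟨k, hk, hkp⟩ := hC.exists_k
  have hcomm : ∀ x ∈ F.E0, Commute (k * x * k⁻¹) F.u := by
    intro x hx
    have h1 : Commute (k * x * k⁻¹) (k * F.hom W12.gp * k⁻¹) :=
      Commute.map (F.comm_E0 hx (F.mem_E0.2 W12.E0_class.2.2.2.2.2.1)) (MulAut.conj k).toMonoidHom
    rcases hkp with h | h <;> rw [h] at h1
    · exact h1
    · have h2 : Commute (k * x * k⁻¹) F.z := mem_centralizer_singleton_iff.1
        (F.Cz.mul_mem (F.Cz.mul_mem hk (F.T_le_Cz (F.E0_le hx))) (F.Cz.inv_mem hk))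
      rw [show F.u = F.hom (W12.gu' * W12.gz) from congrArg F.hom W12.gens.2.2.1.symm, map_mul]
      exact h1.mul_right h2
  have hle : conjBy k F.E0 ≤ F.CV := by
    rintro _ ⟨x, hx, rfl⟩
    exact ⟨F.Cz.mul_mem (F.Cz.mul_mem hk (F.T_le_Cz (F.E0_le hx))) (F.Cz.inv_mem hk),
      mem_centralizer_singleton_iff.2 (hcomm x hx).eq⟩
  obtain ⟨c, hc, hcM⟩ := F.into_M5 F.M5_le_CV le_rfl hle ((F.T.2.to_le F.E0_le).map _)
  set m := c * k with hm
  have hmz : m ∈ F.Cz := F.Cz.mul_mem hc.1 hk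
  have hmM : ∀ x ∈ F.E0, m * x * m⁻¹ ∈ F.M5 := fun x hx => by
    have := hcM _ ⟨x, hx, rfl⟩
    simpa [hm, mul_assoc] using this
  have hcu : c * F.hom W12.gu' * c⁻¹ = F.hom W12.gu' := by
    refine mul_inv_eq_iff_eq_mul.2 ?_
    rw [← W12.gens.1, map_mul]
    exact ((show Commute c (F.hom W12.gz) from mem_centralizer_singleton_iff.1 hc.1).mul_right
      (show Commute c (F.hom W12.gu) from mem_centralizer_singleton_iff.1 hc.2)).eq
  obtain ⟨wp, hwp, ep⟩ : ∃ wp, (wp = W12.gu ∨ wp = W12.gu') ∧ F.hom wp = m * F.hom W12.gp * m⁻¹ := by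
    rcases hkp with h | h
    · refine ⟨W12.gu, Or.inl rfl, ?_⟩
      rw [hm, show c * k * F.hom W12.gp * (c * k)⁻¹ = c * (k * F.hom W12.gp * k⁻¹) * c⁻¹ by group, h]
      exact (mul_inv_eq_iff_eq_mul.2 (mem_centralizer_singleton_iff.1 hc.2)).symm
    · refine ⟨W12.gu', Or.inr rfl, ?_⟩
      rw [hm, show c * k * F.hom W12.gp * (c * k)⁻¹ = c * (k * F.hom W12.gp * k⁻¹) * c⁻¹ by group, h, hcu]
  obtain ⟨y, hy, ey⟩ := hmM F.u F.u_mem_E0
  have hyi : W12.Inv2 y := F.hom_invol.1 (ey ▸ invol_conj F.u_ord m)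
  have hmzz : m * F.hom W12.gz * m⁻¹ = F.hom W12.gz :=
    mul_inv_eq_iff_eq_mul.2 (mem_centralizer_singleton_iff.1 hmz)
  have inj : ∀ {a b : W12}, m * F.hom a * m⁻¹ = m * F.hom b * m⁻¹ → a = b := fun e =>
    F.hom_injective (mul_left_cancel (mul_right_cancel e))
  have hpz : m * F.hom (W12.gp * W12.gz) * m⁻¹ = F.hom (wp * W12.gz) := by
    rw [map_mul, map_mul, ep]
    calc m * (F.hom W12.gp * F.hom W12.gz) * m⁻¹ = m * F.hom W12.gp * m⁻¹ * (m * F.hom W12.gz * m⁻¹) := by group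
      _ = _ := by rw [hmzz]
  have hyX : InX y := W12.invol_M y hy hyi.2 fun hV => by
    have hcase : y = 1 ∨ y = W12.gz ∨ y = wp ∨ y = wp * W12.gz := by
      rcases (W12.subV_le y hV).2.2 with h | h | h | h <;> rcases hwp with rfl | rfl <;> subst h <;> decide +kernel
    rcases hcase with rfl | rfl | rfl | rfl
    · exact hyi.1 rfl
    · exact absurd (inj (ey.symm.trans hmzz.symm : m * F.hom W12.gu * m⁻¹ = _)) (by decide +kernel)
    · exact absurd (inj (ey.symm.trans ep : m * F.hom W12.gu * m⁻¹ = _)) (by decide +kernel)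
    · exact absurd (inj (ey.symm.trans hpz.symm : m * F.hom W12.gu * m⁻¹ = _)) (by decide +kernel)
  have hzy : F.Rel W12.gz y := (show F.Rel W12.gz W12.gu from hC.zu).trans (isConj_iff.2 ⟨m, ey.symm⟩)
  have himg : ∀ x ∈ W12.subE0, ∃ x', F.hom x' = m * F.hom x * m⁻¹ ∧
      (x' ∈ W12.subV ∨ InX x' ∧ idx x' = idx y) := by
    intro x hx
    have hwV : wp ∈ W12.subV ∧ W12.gz ∈ W12.subV := by rcases hwp with rfl | rfl <;> decide +kernel
    have hid := W12.img_id x hx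
    refine ⟨img y wp x, ?_, ?_⟩
    · have hone : m * F.hom 1 * m⁻¹ = F.hom 1 := by rw [map_one, mul_one, mul_inv_cancel]
      have hif : ∀ (c : Prop) [Decidable c] (a b : W12), m * F.hom a * m⁻¹ = F.hom b →
          m * F.hom (if c then a else 1) * m⁻¹ = F.hom (if c then b else 1) := by
        intro c _ a b h; split_ifs; exacts [h, hone]
      conv_rhs => rw [← hid]
      simp only [W12.img, map_mul]
      rw [show ∀ a b c : G, m * (a * (b * c)) * m⁻¹ = (m * a * m⁻¹) * ((m * b * m⁻¹) * (m * c * m⁻¹)) from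
        fun a b c => by group, hif _ _ _ ep.symm, hif _ _ _ ey.symm, hif _ _ _ hmzz]
    · simp only [W12.img]
      generalize hA : (if x.x = 1 then wp else 1) = A
      have hA' : A ∈ W12.subV := by rw [← hA]; split_ifs <;> first | exact hwV.1 | exact one_mem _
      generalize hB : (if (if x.x = 1 then W12.gp * x else x) = W12.gz ∨ (if x.x = 1 then W12.gp * x else x) = W12.gu'
        then W12.gz else 1) = B
      have hB' : B ∈ W12.subV := by rw [← hB]; split_ifs <;> first | exact hwV.2 | exact one_mem _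
      by_cases hY : (if x.x = 1 then W12.gp * x else x) = W12.gu ∨ (if x.x = 1 then W12.gp * x else x) = W12.gu'
      · rw [if_pos hY]
        refine Or.inr ?_
        have hcA : A * (y * B) = y * (A * B) := by rw [← mul_assoc, ← (W12.subV_le A hA').2.1 y hy, mul_assoc]
        rw [hcA]
        exact ⟨(W12.mul_V y hyX _ (W12.subV.mul_mem hA' hB')).2, (W12.mul_V y hyX _ (W12.subV.mul_mem hA' hB')).1⟩
      · rw [if_neg hY, one_mul]
        exact Or.inl (W12.subV.mul_mem hA' hB')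
  have hnot : ∀ l ∈ F.Cz, (∀ x ∈ F.E0, l * x * l⁻¹ ∈ F.ER) → False := by
    intro l hl h
    have he : conjBy l F.E0 = F.ER := eq_of_le_of_card_ge (by rintro _ ⟨x, hx, rfl⟩; exact h x hx)
      (by rw [CfsgLib.Coprime.card_conjBy, F.card_E0, F.card_ER])
    refine F.not_E0 (F.Cz.inv_mem hl) fun x hx => ?_
    rw [← he, mem_conjBy] at hx
    rwa [inv_inv]
  rcases W12.C4_cases (idx y) with hj | hj | hj | hj
  · exfalso
    obtain ⟨c', -, hc'⟩ := W12.coset_zero y hyX hj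
    exact hC.na (hzy.trans (F.rel_conj hc'))
  · have hmN : m ∈ F.N0 := ⟨CfsgLib.ProdFusion.mem_of_forall_conj_mem (by
      rintro _ ⟨x, hx, rfl⟩
      obtain ⟨x', e, h | ⟨hX, hI⟩⟩ := himg x hx <;> rw [← e]
      · exact F.mem_E0.2 (W12.V_ER.1 x' h).2.1
      · exact F.mem_E0.2 ((W12.M_cosets x' hX).2.1 (hI.trans hj))), hmz⟩
    obtain ⟨wu', wp', hok, eu', ep', hi⟩ := F.exists_imgs hmN
    obtain rfl : wu' = y := F.hom_injective (eu'.trans ey.symm)
    obtain rfl : wp' = wp := F.hom_injective (ep'.trans ep.symm)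
    rcases W12.rot_trans _ hok.1 _ hok.2.1 hyX hwp with h | h
    · exact ⟨m, hmN, (F.rot_iff hok hi).2 h⟩
    · set t : W12 := ⟨1, 0, 0, 0⟩ with ht
      have hmt : m * F.hom t ∈ F.N0 := F.N0.mul_mem hmN (F.T_le_N0 (F.hom_mem t))
      obtain ⟨u1, p1, hok1, eu1, ep1, hi1⟩ := F.exists_imgs hmt
      have step : ∀ w ∈ W12.subE0, m * F.hom t * F.hom w * (m * F.hom t)⁻¹ =
          F.hom (img wu' wp' (t * w * t⁻¹)) := fun w hw => by
        rw [← hi _ ((W12.E_normal t w).1 hw), ← F.hom_conj]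
        group
      obtain rfl : u1 = img wu' wp' (t * W12.gu * t⁻¹) :=
        F.hom_injective (eu1.trans (step _ W12.E0_class.2.2.2.2.1))
      obtain rfl : p1 = img wu' wp' (t * W12.gp * t⁻¹) :=
        F.hom_injective (ep1.trans (step _ W12.E0_class.2.2.2.2.2.1))
      exact ⟨_, hmt, (F.rot_iff hok1 hi1).2 h⟩
  · exfalso
    refine hnot m hmz ?_
    rintro _ ⟨x, hx, rfl⟩
    obtain ⟨x', e, h | ⟨hX, hI⟩⟩ := himg x hx <;> rw [← e]
    · exact F.mem_ER.2 (W12.V_ER.1 x' h).1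
    · exact F.mem_ER.2 ((W12.M_cosets x' hX).2.2.1 (hI.trans hj))
  · exfalso
    refine hnot _ (F.Cz.mul_mem (F.T_le_Cz (F.hom_mem W12.gs)) hmz) ?_
    rintro _ ⟨x, hx, rfl⟩
    obtain ⟨x', e, h | ⟨hX, hI⟩⟩ := himg x hx <;>
      rw [show F.hom W12.gs * m * F.hom x * (F.hom W12.gs * m)⁻¹ =
        F.hom W12.gs * (m * F.hom x * m⁻¹) * (F.hom W12.gs)⁻¹ by group, ← e, F.hom_conj]
    · exact F.mem_ER.2 (W12.V_ER.1 _ (W12.V_ER.1 x' h).2.2.2).1
    · exact F.mem_ER.2 ((W12.M_cosets x' hX).2.2.2 (hI.trans hj))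

/-- **a rotation normalising `Q`** -/
theorem exists_rot : ∃ n ∈ normalizer (F.Q : Set G) ⊓ F.Cz, F.Rot n := by
  haveI : Fact (Nat.Prime 2) := ⟨Nat.prime_two⟩
  obtain ⟨m, hm, hr⟩ := hC.exists_rot0
  have hone : ∀ y : G, y * F.z = F.z * y → y * (1 : G) * y⁻¹ = 1 ∧ y * F.z * y⁻¹ = F.z := fun y hy =>
    ⟨by group, by rw [hy, mul_inv_cancel_right]⟩
  let K : Subgroup G :=
    { carrier := {g | g ∈ F.N0 ∧ ∀ x ∈ F.E0, g * x * g⁻¹ * x⁻¹ = 1 ∨ g * x * g⁻¹ * x⁻¹ = F.z}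
      one_mem' := ⟨one_mem _, fun x _ => Or.inl (by group)⟩
      mul_mem' := by
        rintro a b ⟨ha, ha'⟩ ⟨hb, hb'⟩
        refine ⟨F.N0.mul_mem ha hb, fun x hx => ?_⟩
        have hz := mem_centralizer_singleton_iff.1 ha.2
        have e : a * b * x * (a * b)⁻¹ * x⁻¹ = a * (b * x * b⁻¹ * x⁻¹) * a⁻¹ * (a * x * a⁻¹ * x⁻¹) := by group
        rcases hb' x hx with h | h <;> rcases ha' x hx with h' | h' <;> rw [e, h, h']
        · left; group
        · right; group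
        · right; rw [(hone a hz).2, mul_one]
        · left; rw [(hone a hz).2]; exact invol_mul_self F.z_ord
      inv_mem' := by
        rintro a ⟨ha, ha'⟩
        refine ⟨F.N0.inv_mem ha, fun x hx => ?_⟩
        have hz := mem_centralizer_singleton_iff.1 (F.N0.inv_mem ha).2
        have e : a⁻¹ * x * a⁻¹⁻¹ * x⁻¹ = a⁻¹ * (a * x * a⁻¹ * x⁻¹)⁻¹ * a⁻¹⁻¹ := by group
        rcases ha' x hx with h | h <;> rw [e, h]
        · left; group
        · right; rw [invol_inv F.z_ord]; exact (hone _ hz).2 }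
  have hQK : F.Q ≤ K := by
    rintro _ ⟨w, hw, rfl⟩
    refine ⟨F.T_le_N0 (F.hom_mem w), ?_⟩
    rintro _ ⟨e, he, rfl⟩
    rw [F.hom_conj, ← map_inv, ← map_mul]
    rcases W12.comm_E0 w hw e he with h | h <;> rw [h]
    exacts [Or.inl (map_one _), Or.inr rfl]
  have hKn : ∀ g ∈ F.N0, ∀ x ∈ K, g * x * g⁻¹ ∈ K := by
    rintro g hg x ⟨hx, hx'⟩
    refine ⟨F.N0.mul_mem (F.N0.mul_mem hg hx) (F.N0.inv_mem hg), fun y hy => ?_⟩
    have hy' : g⁻¹ * y * g⁻¹⁻¹ ∈ F.E0 := (mem_normalizer_iff.1 (F.N0.inv_mem hg).1 y).1 hy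
    have e : g * x * g⁻¹ * y * (g * x * g⁻¹)⁻¹ * y⁻¹ =
        g * (x * (g⁻¹ * y * g⁻¹⁻¹) * x⁻¹ * (g⁻¹ * y * g⁻¹⁻¹)⁻¹) * g⁻¹ := by group
    rcases hx' _ hy' with h | h <;> rw [e, h]
    · left; group
    · right; exact (hone g (mem_centralizer_singleton_iff.1 hg.2)).2
  have hidx : ¬ 2 ∣ (F.Q.subgroupOf K).index := by
    obtain ⟨P, hP⟩ := ((F.T.2.to_le F.Q_le).of_equiv (subgroupOfEquivOfLe hQK).symm).exists_le_sylow
    obtain ⟨d, hd, hdP⟩ := exists_conj_into (R := (P : Subgroup K).map K.subtype)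
      ((map_subtype_le _).trans (show K ≤ F.N0 from fun g hg => hg.1)) (P.2.map _) F.T_le_N0 F.T.2
      (F.not_dvd_index_sub F.T_le_N0)
    have hc : Nat.card ((P : Subgroup K).map K.subtype) ≤ 32 := by
      rw [← CfsgLib.Coprime.card_conjBy d, ← F.card_Q]
      refine Nat.le_of_dvd Nat.card_pos (card_dvd_of_le ?_)
      rintro _ ⟨x, hx, rfl⟩
      obtain ⟨w, hw⟩ := F.exists_of_mem (hdP x hx)
      show d * x * d⁻¹ ∈ F.Q
      have hk := hKn d hd x (map_subtype_le _ hx)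
      rw [← hw] at hk ⊢
      have hcase : ∀ e ∈ W12.subE0, w * e * w⁻¹ = e ∨ w * e * w⁻¹ = e * W12.gz := by
        intro e he
        rcases hk.2 _ (F.mem_E0.2 he) with h | h <;> rw [F.hom_conj] at h
        · exact Or.inl (F.hom_injective (mul_inv_eq_one.1 h))
        · refine Or.inr (F.hom_injective ?_)
          rw [mul_inv_eq_iff_eq_mul.1 h, map_mul]
          exact (F.z_central (F.hom_mem e)).symm
      refine F.mem_Q.2 ((W12.K_iff w).1 ⟨?_, hcase _ W12.E0_class.2.2.2.2.2.1⟩)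
      rcases hcase _ W12.E0_class.2.2.2.2.1 with h | h
      · exact Or.inl h
      · exact Or.inr (h.trans (by decide +kernel))
    have hPQ : (P : Subgroup K) = F.Q.subgroupOf K := by
      refine (eq_of_le_of_card_ge hP ?_).symm
      rw [Nat.card_congr (subgroupOfEquivOfLe hQK).toEquiv, F.card_Q]
      rwa [card_map_of_injective K.subtype_injective] at hc
    exact hPQ ▸ P.not_dvd_index
  have hmQ : conjBy m F.Q ≤ K := by rintro _ ⟨x, hx, rfl⟩; exact hKn m hm x (hQK hx)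
  obtain ⟨c, hc, hcQ⟩ := exists_conj_into hmQ ((F.T.2.to_le F.Q_le).map _) hQK (F.T.2.to_le F.Q_le) hidx
  refine ⟨c * m, ⟨CfsgLib.ProdFusion.mem_of_forall_conj_mem fun x hx => ?_, F.Cz.mul_mem hc.1.2 hm.2⟩,
    fun x hx hcx => ?_⟩
  · have := hcQ _ ⟨x, hx, rfl⟩
    simpa [mul_assoc] using this
  · have hmx : m * x * m⁻¹ ∈ F.E0 := (mem_normalizer_iff.1 hm.1 x).1 hx
    refine hr x hx ?_
    have e : c * m * x * (c * m)⁻¹ * x⁻¹ = c * (m * x * m⁻¹) * c⁻¹ * (m * x * m⁻¹)⁻¹ * (m * x * m⁻¹ * x⁻¹) := by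
      group
    rcases hc.2 _ hmx with h | h <;> rw [e, h] at hcx
    · rw [one_mul] at hcx; exact hcx
    · rcases hcx with h' | h'
      · exact Or.inr (by rw [eq_inv_of_mul_eq_one_right h', invol_inv F.z_ord])
      · exact Or.inl (mul_eq_left.1 h')

end Frame.Core

end CfsgLib.Invol.MTwelveType
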