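import Mathlib.Algebra.Field.ZMod
import Mathlib.Data.Fintype.Basic
import Mathlib.Tactic.DeriveFintype
import Mathlib.Tactic.Ring
import Mathlib.Tactic.FinCases
import Mathlib.Algebra.Group.Subgroup.Defs

/-!
# The Sylow two-subgroup of the Mathieu group of degree twelve

`(ℤ/4)²` extended by the inversion `x` and the exchange `s` of the two coordinates.
-/

set_option autoImplicit false
set_option synthInstance.maxSize 4000
set_option synthInstance.maxHeartbeats 80000
set_option maxRecDepth 10000

namespace CfsgLib.Invol.MTwelveType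

/-- the coordinates -/
structure W12 where
  p : ZMod 4
  q : ZMod 4
  x : ZMod 2
  s : ZMod 2
deriving DecidableEq, Fintype

namespace W12

/-- the sign of the inversion part -/
def sg (x : ZMod 2) : ZMod 4 := if x = 0 then 1 else -1

/-- the first coordinate after the exchange part -/
def sw (s : ZMod 2) (a b : ZMod 4) : ZMod 4 := if s = 0 then a else b

instance : Mul W12 := ⟨fun u w => ⟨u.p + sg u.x * sw u.s w.p w.q, u.q + sg u.x * sw u.s w.q w.p,
  u.x + w.x, u.s + w.s⟩⟩
instance : One W12 := ⟨⟨0, 0, 0, 0⟩⟩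
instance : Inv W12 := ⟨fun u => ⟨-(sg u.x * sw u.s u.p u.q), -(sg u.x * sw u.s u.q u.p), u.x, u.s⟩⟩

theorem mul_def (u w : W12) : u * w = ⟨u.p + sg u.x * sw u.s w.p w.q, u.q + sg u.x * sw u.s w.q w.p,
    u.x + w.x, u.s + w.s⟩ := rfl

theorem one_mul' : ∀ u : W12, 1 * u = u := by decide +kernel
theorem mul_one' : ∀ u : W12, u * 1 = u := by decide +kernel
theorem inv_mul' : ∀ u : W12, u⁻¹ * u = 1 := by decide +kernel

theorem sg_add : ∀ x y : ZMod 2, sg (x + y) = sg x * sg y := by decide +kernel
theorem sw_add : ∀ (s : ZMod 2) (a b c d : ZMod 4), sw s (a + c) (b + d) = sw s a b + sw s c d := by decide +kernel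
theorem sw_mul : ∀ (s : ZMod 2) (e a b : ZMod 4), sw s (e * a) (e * b) = e * sw s a b := by decide +kernel
theorem sw_sw : ∀ (s t : ZMod 2) (a b : ZMod 4), sw s (sw t a b) (sw t b a) = sw (s + t) a b := by decide +kernel

theorem mul_assoc' (u v w : W12) : u * v * w = u * (v * w) := by
  simp only [mul_def, W12.mk.injEq, sg_add, sw_add, sw_mul, sw_sw]
  refine ⟨?_, ?_, ?_, ?_⟩ <;> ring

instance : Group W12 where
  mul_assoc := mul_assoc'
  one_mul := one_mul'
  mul_one := mul_one'
  inv_mul_cancel := inv_mul'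

theorem card_W12 : Fintype.card W12 = 64 := by decide +kernel

/-! ### elements and subgroups -/

def gz : W12 := ⟨2, 2, 0, 0⟩
def gu : W12 := ⟨2, 0, 0, 0⟩
def gu' : W12 := ⟨0, 2, 0, 0⟩
def gp : W12 := ⟨1, 1, 1, 0⟩
def gr : W12 := ⟨1, 0, 1, 0⟩
def gr' : W12 := ⟨0, 1, 1, 0⟩
def ga : W12 := ⟨0, 0, 1, 0⟩
def gs : W12 := ⟨0, 0, 0, 1⟩
def gas : W12 := ⟨0, 0, 1, 1⟩

/-- reduction modulo two -/
def par (a : ZMod 4) : ZMod 2 := if a = 0 ∨ a = 2 then 0 else 1

/-- the centraliser of `u` -/
def subM : Subgroup W12 where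
  carrier := {w | w.s = 0}
  one_mem' := rfl
  mul_mem' := fun {a b} ha hb => (by decide +kernel : ∀ a b : W12, a.s = 0 → b.s = 0 → (a * b).s = 0) a b ha hb
  inv_mem' := fun {a} ha => ha

/-- the extraspecial subgroup -/
def subQ : Subgroup W12 where
  carrier := {w | par w.p = par w.q}
  one_mem' := rfl
  mul_mem' := fun {a b} ha hb =>
    (by decide +kernel : ∀ a b : W12, par a.p = par a.q → par b.p = par b.q → par (a * b).p = par (a * b).q) a b ha hb
  inv_mem' := fun {a} ha => (by decide +kernel : ∀ a : W12, par a.p = par a.q → par a⁻¹.p = par a⁻¹.q) a ha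

/-- the pure elementary subgroup normal in the Sylow subgroup -/
abbrev InE0 (w : W12) : Prop := w.s = 0 ∧ par w.p = w.x ∧ par w.q = w.x

/-- the mixed elementary subgroup normal in the Sylow subgroup -/
abbrev InE1 (w : W12) : Prop := w.s = 0 ∧ par w.p = 0 ∧ par w.q = 0

/-- the four group -/
abbrev InV (w : W12) : Prop := w.s = 0 ∧ w.x = 0 ∧ par w.p = 0 ∧ par w.q = 0

/-- a third elementary subgroup -/
abbrev InER (w : W12) : Prop := w.s = 0 ∧ par w.p = w.x ∧ par w.q = 0

def subE0 : Subgroup W12 where
  carrier := {w | InE0 w}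
  one_mem' := by decide +kernel
  mul_mem' := fun {a b} ha hb => (by decide +kernel : ∀ a b : W12, InE0 a → InE0 b → InE0 (a * b)) a b ha hb
  inv_mem' := fun {a} ha => (by decide +kernel : ∀ a : W12, InE0 a → InE0 a⁻¹) a ha

def subE1 : Subgroup W12 where
  carrier := {w | InE1 w}
  one_mem' := by decide +kernel
  mul_mem' := fun {a b} ha hb => (by decide +kernel : ∀ a b : W12, InE1 a → InE1 b → InE1 (a * b)) a b ha hb
  inv_mem' := fun {a} ha => (by decide +kernel : ∀ a : W12, InE1 a → InE1 a⁻¹) a ha

def subV : Subgroup W12 where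
  carrier := {w | InV w}
  one_mem' := by decide +kernel
  mul_mem' := fun {a b} ha hb => (by decide +kernel : ∀ a b : W12, InV a → InV b → InV (a * b)) a b ha hb
  inv_mem' := fun {a} ha => (by decide +kernel : ∀ a : W12, InV a → InV a⁻¹) a ha

def subER : Subgroup W12 where
  carrier := {w | InER w}
  one_mem' := by decide +kernel
  mul_mem' := fun {a b} ha hb => (by decide +kernel : ∀ a b : W12, InER a → InER b → InER (a * b)) a b ha hb
  inv_mem' := fun {a} ha => (by decide +kernel : ∀ a : W12, InER a → InER a⁻¹) a ha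

instance (w : W12) : Decidable (w ∈ subM) := inferInstanceAs (Decidable (w.s = 0))
instance (w : W12) : Decidable (w ∈ subQ) := inferInstanceAs (Decidable (par w.p = par w.q))
instance (w : W12) : Decidable (w ∈ subE0) := inferInstanceAs (Decidable (InE0 w))
instance (w : W12) : Decidable (w ∈ subE1) := inferInstanceAs (Decidable (InE1 w))
instance (w : W12) : Decidable (w ∈ subV) := inferInstanceAs (Decidable (InV w))
instance (w : W12) : Decidable (w ∈ subER) := inferInstanceAs (Decidable (InER w))

/-- an involution -/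
abbrev Inv2 (w : W12) : Prop := w ≠ 1 ∧ w * w = 1

/-- the involutions of the class of the centre -/
abbrev ZType (w : W12) : Prop := Inv2 w ∧ w.s = 0 ∧ (w.x = 0 ∨ par w.p = 1 ∨ par w.q = 1)

/-- the involutions of the other class -/
abbrev AType (w : W12) : Prop := Inv2 w ∧ ¬ ZType w

/-- the centraliser of the chosen involution of the other class -/
abbrev InTa (w : W12) : Prop := par w.p = 0 ∧ par w.q = 0

/-! ### the translation of `x` -/

/-- the automorphism moving `x` to `(1, 1) x` -/
def shift (w : W12) : W12 :=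
  if w.x = 0 then w else ⟨w.p + 1, w.q + 1, w.x, w.s⟩

theorem shift_mul : ∀ u w : W12, shift (u * w) = shift u * shift w := by decide +kernel
theorem shift_bij : Function.Bijective shift := by decide +kernel

/-- the translation as an automorphism -/
noncomputable def shiftEquiv : W12 ≃* W12 :=
  MulEquiv.ofBijective (MonoidHom.mk' shift shift_mul) shift_bij

/-! ### facts -/

theorem gz_central : ∀ w : W12, w * gz = gz * w := by decide +kernel
theorem center_only : ∀ w : W12, (∀ v : W12, w * v = v * w) → w = 1 ∨ w = gz := by decide +kernel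
theorem subM_cent : ∀ w : W12, w ∈ subM ↔ w * gu = gu * w := by decide +kernel
theorem no_sixteen : ∀ a : W12, Inv2 a → ∀ b : W12, Inv2 b → a * b = b * a → b ≠ a →
    ∀ c : W12, Inv2 c → c * a = a * c → c * b = b * c → c ∉ [a, b, a * b] →
    ∀ d : W12, Inv2 d → d * a = a * d → d * b = b * d → d * c = c * d →
      d ∈ [a, b, a * b, c, a * c, b * c, a * b * c] := by decide +kernel

end W12

end CfsgLib.Invol.MTwelveType
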