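import Cfsg.Agent.Lib.Invol.MTwelveType.Defs

/-!
# An involution outside the extraspecial subgroup is not fused into it in the centraliser of `z`
-/

set_option autoImplicit false
set_option linter.unusedSectionVars false
set_option linter.style.haveILetI false
set_option maxRecDepth 10000

namespace CfsgLib.Invol.MTwelveType

open Subgroup
open CfsgLib.Invol
open CfsgLib.Coprime (conjBy mem_conjBy conjBy_eq_self_iff)

universe u

namespace W12

theorem cent_gu : ∀ v : W12, v ∈ subM → v * gu = gu * v := by decide +kernel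
theorem cent_ga_comm : ∀ c : W12, c * ga = ga * c → ∀ d : W12, d * ga = ga * d →
    Inv2 (c * d * c⁻¹ * d⁻¹) → c * d * c⁻¹ * d⁻¹ = gz := by decide +kernel
theorem z_comm : (∃ c, c * gs = gs * c ∧ ∃ d, d * gs = gs * d ∧ c * d * c⁻¹ * d⁻¹ = gz) ∧
    (∃ c, c * gas = gas * c ∧ ∃ d, d * gas = gas * d ∧ c * d * c⁻¹ * d⁻¹ = gz) ∧
    (∃ c, c * gp = gp * c ∧ ∃ d, d * gp = gp * d ∧ c * d * c⁻¹ * d⁻¹ = gz) := by decide +kernel
theorem cent_card : (Finset.univ.filter fun v => v * ga = ga * v).card = 16 ∧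
    (Finset.univ.filter fun v => v * gs = gs * v).card = 16 ∧
    (Finset.univ.filter fun v => v * gas = gas * v).card = 16 := by decide +kernel
theorem Q_cases : ∀ w : W12, w ∈ subQ → Inv2 w → w ≠ gz → ∃ c, c * w * c⁻¹ ∈ [gu, gp, ga, gs, gas] := by
  decide +kernel
theorem cent_ga_z : ∀ v : W12, v * ga = ga * v → Inv2 v →
    v = gz ∨ v = gu ∨ v = gu' ∨ ∃ c, c * v * c⁻¹ ∈ [ga, gs, gas] := by decide +kernel
theorem M_cosets : ∀ w : W12, InX w → (idx w = 0 → w ∈ subE1) ∧ (idx w = (1, 1) → w ∈ subE0) ∧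
    (idx w = (1, 0) → w ∈ subER) ∧ (idx w = (0, 1) → gs * w * gs⁻¹ ∈ subER) := by decide +kernel
theorem E_mixed : ∀ w : W12, InX w → (w ∈ subE0 ∨ w ∈ subE1) → idx w = (idx w).swap := by decide +kernel
theorem E_normal : ∀ v w : W12, (w ∈ subE0 → v * w * v⁻¹ ∈ subE0) ∧ (w ∈ subE1 → v * w * v⁻¹ ∈ subE1) := by
  decide +kernel
theorem E_le : (∀ w : W12, w ∈ subE0 → w ∈ subM) ∧ (∀ w : W12, w ∈ subE1 → w ∈ subM) ∧
    (∀ w : W12, w ∈ subER → w ∈ subM ∧ w * w = 1) := by decide +kernel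
theorem ER_shape : ∀ w : W12, w ∈ subER → w ∈ subV ∨ InR w ∧ idx w = (1, 0) := by decide +kernel
theorem V_ER : (∀ v : W12, v ∈ subV → v ∈ subER ∧ v ∈ subE0 ∧ v ∈ subE1 ∧ gs * v * gs⁻¹ ∈ subV) ∧ gr ∈ subER := by
  decide +kernel
theorem m1_facts : (∀ w : W12, w ∈ subV → (⟨1, 1, 0, 0⟩ : W12) * w * (⟨1, 1, 0, 0⟩ : W12)⁻¹ = w) ∧
    (∀ w : W12, InR w → idx w = (1, 0) → (⟨1, 1, 0, 0⟩ : W12) * w * (⟨1, 1, 0, 0⟩ : W12)⁻¹ = w * gz) ∧
    (∀ w : W12, w ∈ subER → (⟨1, 1, 0, 0⟩ : W12) * w * (⟨1, 1, 0, 0⟩ : W12)⁻¹ ∈ subER) := by decide +kernel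
theorem rep_R : rep (1, 0) ∈ subER ∧ gr = rep (1, 0) := by decide +kernel
theorem swap_ne : ((1, 0) : C4) ≠ ((1, 0) : C4).swap ∧ ((1, 0) : C4).swap ≠ ((1, 0) : C4).swap.swap := by decide +kernel
theorem gs_ER : ∀ w' : W12, w' ∈ subER → InX (gs * w' * gs⁻¹) → idx (gs * w' * gs⁻¹) ≠ (1, 0) := by decide +kernel
theorem card_cent_u : (Finset.univ.filter fun v => v * gu = gu * v).card ≤ 32 ∧
    (Finset.univ.filter fun v => v * gu' = gu' * v).card ≤ 32 := by decide +kernel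
theorem s_ER : ∀ w : W12, InR w → idx w = (1, 0) → InR (gs * w * gs⁻¹) ∧ idx (gs * w * gs⁻¹) = (0, 1) := by
  decide +kernel

end W12

open W12 (C4 idx rep InX InR)

variable {G : Type u} [Group G] [Finite G] {F : Frame G}

namespace Frame.Core

variable (hC : F.Core)
include hC

theorem zu : IsConj F.z F.u := hC.turn.elim fun h H => isConj_iff.2 ⟨h, H.hz⟩

theorem rel_u' : F.Rel W12.gz W12.gu' := (show F.Rel W12.gz W12.gu from hC.zu).trans F.rel_s

theorem not_z_s : ¬ F.Rel W12.gz W12.gs := fun h => hC.na (h.trans hC.as_.symm)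
theorem not_z_as : ¬ F.Rel W12.gz W12.gas := fun h => hC.na (h.trans hC.aas.symm)

theorem not_z {w : W12} (hw : ∃ c, c * w * c⁻¹ ∈ [W12.ga, W12.gs, W12.gas]) : ¬ F.Rel W12.gz w := by
  obtain ⟨c, hc⟩ := hw
  intro h
  have h' := h.trans (F.rel_conj (c := c) (w := w) rfl)
  simp only [List.mem_cons, List.not_mem_nil, or_false] at hc
  rcases hc with e | e | e <;> rw [e] at h'
  exacts [hC.na h', hC.not_z_s h', hC.not_z_as h']

/-- two-subgroups of the centraliser of an involution of the other class -/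
theorem card_le_cent {w : W12} (hw : W12.Inv2 w) (hwz : ¬ F.Rel W12.gz w) {P : Subgroup G}
    (hP : IsPGroup 2 P) (hPc : P ≤ centralizer ({F.hom w} : Set G)) (hwP : F.hom w ∈ P) : Nat.card P ≤ 16 := by
  haveI : Fact (Nat.Prime 2) := ⟨Nat.prime_two⟩
  obtain ⟨k, hk⟩ := exists_conj_le_sylow hP F.T
  obtain ⟨y, hy⟩ := F.exists_of_mem (hk _ hwP)
  have hyi : W12.Inv2 y := F.hom_invol.1 (hy ▸ invol_conj (F.hom_invol.2 hw) k)
  have hrel : F.Rel w y := isConj_iff.2 ⟨k, hy.symm⟩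
  rw [← CfsgLib.Coprime.card_conjBy k P]
  refine (F.card_le_of_central (y := y) (by rintro _ ⟨x, hx, rfl⟩; exact hk x hx) ?_).trans
    (W12.small_cent y hyi (fun e => ?_) (fun e => ?_) fun e => ?_)
  · rintro _ ⟨x, hx, rfl⟩
    rw [hy]
    exact Commute.map (show Commute x (F.hom w) from mem_centralizer_singleton_iff.1 (hPc hx))
      (MulAut.conj k).toMonoidHom
  all_goals subst e
  · exact hwz hrel.symm
  · exact hwz ((show F.Rel W12.gz W12.gu from hC.zu).trans hrel.symm)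
  · exact hwz (hC.rel_u'.trans hrel.symm)

theorem card_cent_T {w : W12} (hw : (Finset.univ.filter fun v => v * w = w * v).card = 16) :
    16 ≤ Nat.card ((F.T : Subgroup G) ⊓ centralizer ({F.hom w} : Set G) : Subgroup G) := by
  rw [← hw, ← Nat.card_eq_finsetCard]
  exact Nat.card_le_card_of_injective (fun v => ⟨F.hom v.1, F.hom_mem _,
    mem_centralizer_singleton_iff.2 (F.hom_commute.2 (Finset.mem_filter.1 v.2).2).eq⟩)
    fun v v' e => Subtype.ext (F.hom_injective (Subtype.mk.inj e))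

/-- the centraliser of `a` in the Sylow subgroup is Sylow in that of `a` -/
theorem into_cent_a {R : Subgroup G} (hR : IsPGroup 2 R) (hRc : R ≤ centralizer ({F.a} : Set G)) {C : Subgroup G}
    (hRC : R ≤ C) (hTC : (F.T : Subgroup G) ⊓ centralizer ({F.a} : Set G) ≤ C)
    (hC' : C ≤ centralizer ({F.a} : Set G)) :
    ∃ c ∈ C, ∀ x ∈ R, c * x * c⁻¹ ∈ (F.T : Subgroup G) ⊓ centralizer ({F.a} : Set G) := by
  haveI : Fact (Nat.Prime 2) := ⟨Nat.prime_two⟩
  set T0 := (F.T : Subgroup G) ⊓ centralizer ({F.a} : Set G) with hT0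
  obtain ⟨P, hP⟩ := ((F.T.2.to_le (inf_le_left : T0 ≤ _)).of_equiv (subgroupOfEquivOfLe hTC).symm).exists_le_sylow
  have hle : (P : Subgroup C).map C.subtype ≤ centralizer ({F.a} : Set G) := (map_subtype_le _).trans hC'
  have haT : F.a ∈ T0 := ⟨F.hom_mem _, mem_centralizer_singleton_iff.2 rfl⟩
  have hsub : T0 ≤ (P : Subgroup C).map C.subtype := fun x hx => ⟨⟨x, hTC hx⟩, hP hx, rfl⟩
  have he : T0 = (P : Subgroup C).map C.subtype := eq_of_le_of_card_ge hsub
    ((hC.card_le_cent (w := W12.ga) W12.s_maps.2.2.2.1 hC.na (P.2.map C.subtype) hle (hsub haT)).trans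
      (hC.card_cent_T W12.cent_card.1))
  obtain ⟨c, hc⟩ := exists_conj_le_sylow (hR.of_equiv (subgroupOfEquivOfLe hRC).symm) P
  exact ⟨c, c.2, fun x hx => he ▸ ⟨_, hc ⟨x, hRC hx⟩ hx, rfl⟩⟩

/-- the elements of the other class in `Q` are conjugate to `a` inside the centraliser of `z` -/
theorem exists_to_a {w : W12} (hw : w = W12.gs ∨ w = W12.gas) :
    ∃ g ∈ F.Cz, g * F.hom w * g⁻¹ = F.a := by
  haveI : Fact (Nat.Prime 2) := ⟨Nat.prime_two⟩
  obtain ⟨hrel, hcd⟩ : F.Rel w W12.ga ∧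
      ∃ c, c * w = w * c ∧ ∃ d, d * w = w * d ∧ c * d * c⁻¹ * d⁻¹ = W12.gz := by
    rcases hw with rfl | rfl
    exacts [⟨hC.as_.symm, W12.z_comm.1⟩, ⟨hC.aas.symm, W12.z_comm.2.1⟩]
  obtain ⟨c, hc, d, hd, hcd⟩ := hcd
  obtain ⟨g0, hg0⟩ := isConj_iff.1 hrel
  have hle : conjBy g0 ((F.T : Subgroup G) ⊓ centralizer ({F.hom w} : Set G)) ≤ centralizer ({F.a} : Set G) := by
    rintro _ ⟨x, hx, rfl⟩
    refine mem_centralizer_singleton_iff.2 ?_
    show MulAut.conj g0 x * F.hom W12.ga = F.hom W12.ga * MulAut.conj g0 x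
    rw [← hg0]
    exact (Commute.map (show Commute x (F.hom w) from mem_centralizer_singleton_iff.1 hx.2)
      (MulAut.conj g0).toMonoidHom).eq
  obtain ⟨k, hk, hkR⟩ := hC.into_cent_a ((F.T.2.to_le inf_le_left).map _) hle hle inf_le_right le_rfl
  refine ⟨k * g0, mem_centralizer_singleton_iff.2 ?_, ?_⟩
  · have hm : ∀ v, v * w = w * v → ∃ v', v' * W12.ga = W12.ga * v' ∧
        F.hom v' = k * g0 * F.hom v * (k * g0)⁻¹ := by
      intro v hv
      have h1 := hkR _ ⟨F.hom v, ⟨F.hom_mem v, mem_centralizer_singleton_iff.2 (F.hom_commute.2 hv).eq⟩, rfl⟩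
      obtain ⟨v', hv'⟩ := F.exists_of_mem h1.1
      refine ⟨v', F.hom_commute.1 ?_, by rw [hv']; show k * (g0 * F.hom v * g0⁻¹) * k⁻¹ = _; group⟩
      show F.hom v' * F.a = F.a * F.hom v'
      rw [hv']
      exact mem_centralizer_singleton_iff.1 h1.2
    obtain ⟨c', hc', ec⟩ := hm c hc
    obtain ⟨d', hd', ed⟩ := hm d hd
    have e : F.hom (c' * d' * c'⁻¹ * d'⁻¹) = k * g0 * F.z * (k * g0)⁻¹ := by
      rw [map_mul, map_mul, map_mul, map_inv, map_inv, ec, ed,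
        show F.z = F.hom (c * d * c⁻¹ * d⁻¹) by rw [hcd]; rfl, map_mul, map_mul, map_mul, map_inv, map_inv]
      group
    rw [W12.cent_ga_comm c' hc' d' hd' (F.hom_invol.1 (e ▸ invol_conj F.z_ord _))] at e
    exact mul_inv_eq_iff_eq_mul.1 e.symm
  · rw [show k * g0 * F.hom w * (k * g0)⁻¹ = k * (g0 * F.hom w * g0⁻¹) * k⁻¹ by group, hg0]
    exact mul_inv_eq_iff_eq_mul.2 (mem_centralizer_singleton_iff.1 hk)

end Frame.Core

namespace Frame

variable (F)

/-- the centraliser of the four group -/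
abbrev CV : Subgroup G := F.Cz ⊓ centralizer ({F.u} : Set G)

theorem M5_le_CV : F.M5 ≤ F.CV := by
  rintro _ ⟨w, hw, rfl⟩
  exact ⟨mem_centralizer_singleton_iff.2 (F.z_central (F.hom_mem w)),
    mem_centralizer_singleton_iff.2 (F.hom_commute.2 (W12.cent_gu w hw)).eq⟩

theorem V_comm_M5 {v : W12} (hv : v ∈ W12.subV) {g : G} (hg : g ∈ F.M5) : Commute g (F.hom v) := by
  obtain ⟨w, hw, rfl⟩ := hg
  exact F.hom_commute.2 ((W12.subV_le v hv).2.1 w hw)

/-- two-subgroups centralising the four group can be moved into `M5` -/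
theorem into_M5 {C : Subgroup G} (hMC : F.M5 ≤ C) (hC : C ≤ F.CV) {R : Subgroup G} (hR : R ≤ C)
    (h2 : IsPGroup 2 R) : ∃ c ∈ C, ∀ r ∈ R, c * r * c⁻¹ ∈ F.M5 := by
  haveI : Fact (Nat.Prime 2) := ⟨Nat.prime_two⟩
  obtain ⟨P, hP⟩ := ((F.T.2.to_le F.M5_le).of_equiv (subgroupOfEquivOfLe hMC).symm).exists_le_sylow
  set P' := (P : Subgroup C).map C.subtype with hP'
  have hsub : F.M5 ≤ P' := fun x hx => ⟨⟨x, hMC hx⟩, hP hx, rfl⟩
  have hP'C : P' ≤ F.CV := (map_subtype_le _).trans hC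
  obtain ⟨k, hk, hkP⟩ := F.into_T_Cz (hP'C.trans inf_le_left) (P.2.map _)
  obtain ⟨y, hy⟩ := F.exists_of_mem (hkP F.u (hsub (F.mem_M5.2 (by decide +kernel))))
  have hyi : W12.Inv2 y := F.hom_invol.1 (hy ▸ invol_conj F.u_ord k)
  have hkz : k * F.z * k⁻¹ = F.z := mul_inv_eq_iff_eq_mul.2 (mem_centralizer_singleton_iff.1 hk)
  have hyz : y ≠ W12.gz := fun e => by
    have e1 : k * F.u * k⁻¹ = k * F.z * k⁻¹ := by rw [hkz, ← hy, e]; rfl
    exact absurd (F.hom_injective (mul_left_cancel (mul_right_cancel e1))) (by decide +kernel)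
  have hcard : Nat.card P' ≤ 32 := by
    rw [← CfsgLib.Coprime.card_conjBy k P']
    refine (F.card_le_of_central (y := y) (by rintro _ ⟨x, hx, rfl⟩; exact hkP x hx) ?_).trans ?_
    · rintro _ ⟨x, hx, rfl⟩
      rw [hy]
      exact Commute.map (show Commute x F.u from mem_centralizer_singleton_iff.1 (hP'C hx).2)
        (MulAut.conj k).toMonoidHom
    · by_cases h : y = W12.gu ∨ y = W12.gu'
      · rcases h with rfl | rfl
        exacts [W12.card_cent_u.1, W12.card_cent_u.2]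
      · push Not at h
        exact (W12.small_cent y hyi hyz h.1 h.2).trans (by norm_num)
  have he : F.M5 = P' := eq_of_le_of_card_ge hsub (hcard.trans F.card_M5.ge)
  obtain ⟨c, hc⟩ := exists_conj_le_sylow (h2.of_equiv (subgroupOfEquivOfLe hR).symm) P
  exact ⟨c, c.2, fun r hr => he ▸ ⟨_, hc ⟨r, hR hr⟩ hr, rfl⟩⟩

/-- the third elementary subgroup is not moved onto a normal one inside the centraliser of `z` -/
theorem ER_not_conj {K : Subgroup W12} (hK : ∀ w, w ∈ K → InX w → idx w = (idx w).swap)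
    (hKn : ∀ v w : W12, w ∈ K → v * w * v⁻¹ ∈ K) (hKM : ∀ w, w ∈ K → w ∈ W12.subM)
    (hK8 : Nat.card (K.map F.hom) = 8) {g : G} (hg : g ∈ F.Cz)
    (hm : ∀ x ∈ F.ER, g * x * g⁻¹ ∈ K.map F.hom) : False := by
  haveI : Fact (Nat.Prime 2) := ⟨Nat.prime_two⟩
  set E := K.map F.hom with hE
  have hgE : conjBy g F.ER = E := eq_of_le_of_card_ge (by rintro _ ⟨x, hx, rfl⟩; exact hm x hx)
    (by rw [CfsgLib.Coprime.card_conjBy, F.card_ER, hK8])
  set N := normalizer (E : Set G) ⊓ F.Cz with hN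
  have hTN : (F.T : Subgroup G) ≤ N := le_inf (fun t ht => by
    obtain ⟨v, rfl⟩ := F.exists_of_mem ht
    refine CfsgLib.ProdFusion.mem_of_forall_conj_mem ?_
    rintro _ ⟨w, hw, rfl⟩
    exact F.conj_mem_map (hKn v w hw)) F.T_le_Cz
  have hMN : conjBy g F.M5 ≤ N := by
    rintro _ ⟨m, hm', rfl⟩
    refine ⟨CfsgLib.ProdFusion.mem_of_forall_conj_mem fun e he => ?_, ?_⟩
    · rw [← hgE] at he ⊢
      obtain ⟨x, hx, rfl⟩ := he
      refine ⟨m * x * m⁻¹, ?_, by simp [mul_assoc]⟩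
      obtain ⟨v, hv, rfl⟩ := hm'
      obtain ⟨w, hw, rfl⟩ := hx
      exact F.conj_mem_map ((by decide +kernel : ∀ v w : W12, v ∈ W12.subM → w ∈ W12.subER →
        v * w * v⁻¹ ∈ W12.subER) v w hv hw)
    · exact F.Cz.mul_mem (F.Cz.mul_mem hg (F.T_le_Cz (F.M5_le hm'))) (F.Cz.inv_mem hg)
  obtain ⟨c, hc, hcM⟩ := exists_conj_into hMN ((F.T.2.to_le F.M5_le).map _) hTN F.T.2 (F.not_dvd_index_sub hTN)
  set n := c * g with hn
  have hnz : Commute n F.z := (show Commute c F.z from mem_centralizer_singleton_iff.1 hc.2).mul_left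
    (mem_centralizer_singleton_iff.1 hg)
  obtain ⟨y, hy⟩ := F.exists_of_mem (show n * F.u * n⁻¹ ∈ (F.T : Subgroup G) by
    have := hcM _ ⟨F.u, F.mem_M5.2 (by decide +kernel), rfl⟩
    simpa [hn, mul_assoc] using this)
  have hle : conjBy n F.M5 ≤ (F.T : Subgroup G) := by
    rintro _ ⟨x, hx, rfl⟩
    have := hcM _ ⟨x, hx, rfl⟩
    simpa [hn, mul_assoc] using this
  obtain ⟨-, hM⟩ := F.eq_M5_of_central hle (by rw [CfsgLib.Coprime.card_conjBy, F.card_M5])
    (F.hom_invol.1 (hy ▸ invol_conj F.u_ord n)) (fun e => by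
      have e1 : n * F.u * n⁻¹ = n * F.z * n⁻¹ := by rw [mul_inv_eq_iff_eq_mul.2 hnz.eq, ← hy, e]; rfl
      exact absurd (F.hom_injective (mul_left_cancel (mul_right_cancel e1))) (by decide +kernel)) (by
      rintro _ ⟨x, hx, rfl⟩
      rw [hy]
      exact Commute.map (show Commute x F.u from mem_centralizer_singleton_iff.1 (F.M5_le_CV hx).2)
        (MulAut.conj n).toMonoidHom)
  have hnM : n ∈ normalizer (F.M5 : Set G) := conjBy_eq_self_iff.1 hM
  obtain ⟨w, hw, e, hi⟩ := F.act_spec hnM (W12.rep_inX (1, 0)).1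
  rw [W12.idx_rep] at hi
  have hwK : w ∈ K := by
    have h1 : n * F.hom (rep (1, 0)) * n⁻¹ ∈ E := by
      rw [hn, show c * g * F.hom (rep (1, 0)) * (c * g)⁻¹ = c * (g * F.hom (rep (1, 0)) * g⁻¹) * c⁻¹ by group]
      exact (mem_normalizer_iff.1 hc.1 _).1 (hm _ (F.mem_ER.2 W12.rep_R.1))
    rwa [← e, hE, mem_map_iff_mem F.hom_injective] at h1
  have hsw := hK w hwK hw
  rw [hi] at hsw
  rcases F.act_of_commute_z hnM hnz with h | h <;> rw [h] at hsw
  exacts [W12.swap_ne.1 hsw, W12.swap_ne.2 hsw]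

theorem not_E0 {g : G} (hg : g ∈ F.Cz) (hm : ∀ x ∈ F.ER, g * x * g⁻¹ ∈ F.E0) : False :=
  F.ER_not_conj (fun w hw hX => W12.E_mixed w hX (Or.inl hw)) (fun v w => (W12.E_normal v w).1)
    W12.E_le.1 F.card_E0 hg hm

theorem not_E1 {g : G} (hg : g ∈ F.Cz) (hm : ∀ x ∈ F.ER, g * x * g⁻¹ ∈ F.E1) : False :=
  F.ER_not_conj (fun w hw hX => W12.E_mixed w hX (Or.inr hw)) (fun v w => (W12.E_normal v w).2)
    W12.E_le.2.1 F.card_E1 hg hm

/-- no element normalising the third elementary subgroup and fixing `z` moves `r` into the four group -/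
theorem no_turn_ER {n : G} (hn : n ∈ F.Cz) (hER : ∀ x ∈ F.ER, n * x * n⁻¹ ∈ F.ER)
    (hr : n * F.hom W12.gr * n⁻¹ = F.u ∨ n * F.hom W12.gr * n⁻¹ = F.hom W12.gu') : False := by
  haveI : Fact (Nat.Prime 2) := ⟨Nat.prime_two⟩
  have hnN : n ∈ normalizer (F.ER : Set G) := CfsgLib.ProdFusion.mem_of_forall_conj_mem hER
  set m := F.hom ⟨1, 1, 0, 0⟩ with hm
  have hmN : m ∈ normalizer (F.ER : Set G) := by
    refine CfsgLib.ProdFusion.mem_of_forall_conj_mem ?_
    rintro _ ⟨w, hw, rfl⟩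
    exact F.conj_mem_map (W12.m1_facts.2.2 w hw)
  have hnz : n * F.z * n⁻¹ = F.z := mul_inv_eq_iff_eq_mul.2 (mem_centralizer_singleton_iff.1 hn)
  obtain ⟨y, hy, hey⟩ := hER F.u (F.mem_ER.2 (by decide +kernel))
  have hyR : InR y ∧ idx y = (1, 0) := by
    rcases W12.ER_shape y hy with hV | hV
    · exfalso
      rcases (W12.subV_le y hV).2.2 with rfl | rfl | rfl | rfl
      · rw [map_one, eq_comm, conj_eq_one_iff] at hey; exact invol_ne_one F.u_ord hey
      · exact absurd (F.hom_injective (mul_left_cancel (mul_right_cancel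
          (hey.symm.trans hnz.symm : n * F.hom W12.gu * n⁻¹ = n * F.hom W12.gz * n⁻¹)))) (by decide +kernel)
      · rcases hr with h | h
        · exact absurd (F.hom_injective (mul_left_cancel (mul_right_cancel
            (hey.symm.trans h.symm : n * F.hom W12.gu * n⁻¹ = n * F.hom W12.gr * n⁻¹)))) (by decide +kernel)
        · have e : n * (F.hom W12.gr * F.z) * n⁻¹ = n * F.u * n⁻¹ := by
            rw [show n * (F.hom W12.gr * F.z) * n⁻¹ = (n * F.hom W12.gr * n⁻¹) * (n * F.z * n⁻¹) by group, h, hnz,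
              ← hey]
            show F.hom W12.gu' * F.hom W12.gz = F.hom W12.gu
            rw [← map_mul, W12.gens.2.2.1]
          have e' : F.hom (W12.gr * W12.gz) = F.hom W12.gu := by
            rw [map_mul]; exact mul_left_cancel (mul_right_cancel e)
          exact absurd (F.hom_injective e') (by decide +kernel)
      · rcases hr with h | h
        · have e : n * (F.hom W12.gr * F.z) * n⁻¹ = n * F.u * n⁻¹ := by
            rw [show n * (F.hom W12.gr * F.z) * n⁻¹ = (n * F.hom W12.gr * n⁻¹) * (n * F.z * n⁻¹) by group, h, hnz,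
              ← hey]
            show F.hom W12.gu * F.hom W12.gz = F.hom W12.gu'
            rw [← map_mul]
            exact congrArg F.hom (by decide +kernel)
          have e' : F.hom (W12.gr * W12.gz) = F.hom W12.gu := by
            rw [map_mul]; exact mul_left_cancel (mul_right_cancel e)
          exact absurd (F.hom_injective e') (by decide +kernel)
        · exact absurd (F.hom_injective (mul_left_cancel (mul_right_cancel
            (hey.symm.trans h.symm : n * F.hom W12.gu * n⁻¹ = n * F.hom W12.gr * n⁻¹)))) (by decide +kernel)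
    · exact hV
  set d := n⁻¹ * m * n with hd
  have hdu : d * F.u * d⁻¹ = F.hom W12.gu' := by
    rw [hd, show n⁻¹ * m * n * F.u * (n⁻¹ * m * n)⁻¹ = n⁻¹ * (m * (n * F.u * n⁻¹) * m⁻¹) * n by group, ← hey, hm,
      F.hom_conj, W12.m1_facts.2.1 y hyR.1 hyR.2, map_mul, hey]
    calc n⁻¹ * (n * F.u * n⁻¹ * F.hom W12.gz) * n = n⁻¹ * (n * F.u * n⁻¹ * (n * F.z * n⁻¹)) * n := by rw [hnz]; rfl
      _ = F.u * F.z := by group
      _ = F.hom W12.gu' := by
        show F.hom W12.gu * F.hom W12.gz = _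
        rw [← map_mul]; exact congrArg F.hom (by decide +kernel)
  have hdCz : d ∈ F.Cz := F.Cz.mul_mem (F.Cz.mul_mem (F.Cz.inv_mem hn) (F.T_le_Cz (F.hom_mem _))) hn
  set c := F.hom W12.gs * d with hc
  have hdER : d ∈ normalizer (F.ER : Set G) := mul_mem (mul_mem (inv_mem hnN) hmN) hnN
  have hcCV : c ∈ F.CV := by
    refine ⟨F.Cz.mul_mem (F.T_le_Cz (F.hom_mem _)) hdCz, mem_centralizer_singleton_iff.2 (mul_inv_eq_iff_eq_mul.1 ?_)⟩
    rw [hc, show F.hom W12.gs * d * F.u * (F.hom W12.gs * d)⁻¹ =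
      F.hom W12.gs * (d * F.u * d⁻¹) * (F.hom W12.gs)⁻¹ by group, hdu, F.hom_conj]
    exact congrArg F.hom W12.gens.2.2.2.2.2.2.2.2.2.2.2.2.2.1
  -- `c` moves `ER` onto its image under the exchange
  set E' := conjBy (F.hom W12.gs) F.ER with hE'
  have hcE : ∀ x ∈ F.ER, c * x * c⁻¹ ∈ E' := fun x hx => by
    refine ⟨d * x * d⁻¹, (mem_normalizer_iff.1 hdER x).1 hx, ?_⟩
    simp [hc, mul_assoc]
  set N := normalizer (E' : Set G) ⊓ F.CV with hN
  have hMN : F.M5 ≤ N := by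
    refine le_inf ?_ F.M5_le_CV
    rintro _ ⟨v, hv, rfl⟩
    refine CfsgLib.ProdFusion.mem_of_forall_conj_mem ?_
    rintro _ ⟨_, ⟨w, hw, rfl⟩, rfl⟩
    refine ⟨F.hom (W12.gs⁻¹ * v * W12.gs * w * (W12.gs⁻¹ * v * W12.gs)⁻¹), F.mem_ER.2 ?_, ?_⟩
    · exact (by decide +kernel : ∀ v w : W12, v ∈ W12.subM → w ∈ W12.subER →
        W12.gs⁻¹ * v * W12.gs * w * (W12.gs⁻¹ * v * W12.gs)⁻¹ ∈ W12.subER) v w hv hw
    · show F.hom W12.gs * _ * (F.hom W12.gs)⁻¹ = F.hom v * (F.hom W12.gs * F.hom w * (F.hom W12.gs)⁻¹) * (F.hom v)⁻¹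
      simp only [map_mul, map_inv]
      group
  have hcM : conjBy c F.M5 ≤ N := by
    rintro _ ⟨x, hx, rfl⟩
    refine ⟨CfsgLib.ProdFusion.mem_of_forall_conj_mem fun e he => ?_, ?_⟩
    · have he' : c⁻¹ * e * c ∈ F.ER := by
        have hce : conjBy c F.ER = E' := eq_of_le_of_card_ge (by rintro _ ⟨y, hy', rfl⟩; exact hcE y hy')
          (by rw [hE', CfsgLib.Coprime.card_conjBy, CfsgLib.Coprime.card_conjBy])
        rw [← hce, mem_conjBy] at he
        exact he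
      have h1 : x * (c⁻¹ * e * c) * x⁻¹ ∈ F.ER := by
        obtain ⟨v, hv, rfl⟩ := hx
        obtain ⟨w, hw, e0⟩ := he'
        rw [← e0]
        exact F.conj_mem_map ((by decide +kernel : ∀ v w : W12, v ∈ W12.subM → w ∈ W12.subER →
          v * w * v⁻¹ ∈ W12.subER) v w hv hw)
      have := hcE _ h1
      simpa [mul_assoc] using this
    · exact F.CV.mul_mem (F.CV.mul_mem hcCV (F.M5_le_CV hx)) (F.CV.inv_mem hcCV)
  obtain ⟨k, hk, hkM⟩ := F.into_M5 hMN inf_le_right hcM ((F.T.2.to_le F.M5_le).map _)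
  set l := k * c with hl
  have hlM : l ∈ normalizer (F.M5 : Set G) := conjBy_eq_self_iff.1 (eq_of_le_of_card_ge (by
    rintro _ ⟨x, hx, rfl⟩
    have := hkM _ ⟨x, hx, rfl⟩
    simpa [hl, mul_assoc] using this) (by rw [CfsgLib.Coprime.card_conjBy]))
  have hlCV : l ∈ F.CV := F.CV.mul_mem hk.2 hcCV
  obtain ⟨w, hw, e, hi⟩ := F.act_spec hlM (W12.rep_inX (1, 0)).1
  rw [W12.idx_rep, F.act_of_fix hlM (mem_centralizer_singleton_iff.1 hlCV.1)
    (mem_centralizer_singleton_iff.1 hlCV.2)] at hi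
  have h1 : F.hom w ∈ E' := by
    rw [e, hl, show k * c * F.hom (rep (1, 0)) * (k * c)⁻¹ = k * (c * F.hom (rep (1, 0)) * c⁻¹) * k⁻¹ by group]
    exact (mem_normalizer_iff.1 hk.1 _).1 (hcE _ (F.mem_ER.2 W12.rep_R.1))
  obtain ⟨_, ⟨w', hw', rfl⟩, e'⟩ := h1
  have e'' : W12.gs * w' * W12.gs⁻¹ = w := F.hom_injective (by rw [← F.hom_conj]; exact e')
  exact W12.gs_ER w' hw' (e''.symm ▸ hw) (e''.symm ▸ hi)

end Frame

namespace Frame.Core

variable (hC : F.Core)
include hC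

/-- an element of the centraliser of `z` moving `p` into the four group -/
theorem exists_k : ∃ k ∈ F.Cz,
    k * F.hom W12.gp * k⁻¹ = F.u ∨ k * F.hom W12.gp * k⁻¹ = F.hom W12.gu' := by
  haveI : Fact (Nat.Prime 2) := ⟨Nat.prime_two⟩
  set R : Subgroup G := (F.T : Subgroup G) ⊓ centralizer ({F.hom W12.gp} : Set G) with hR
  obtain ⟨g, hg, hgR⟩ := F.exists_back (show IsConj F.z (F.hom W12.gp) from hC.p) (R := R) inf_le_right
    (F.T.2.to_le inf_le_left)
  obtain ⟨c, hc, d, hd, hcd⟩ := W12.z_comm.2.2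
  have hm : ∀ v, v * W12.gp = W12.gp * v → F.hom v ∈ R := fun v hv =>
    ⟨F.hom_mem v, mem_centralizer_singleton_iff.2 (F.hom_commute.2 hv).eq⟩
  obtain ⟨c', hc'⟩ := F.exists_of_mem (hgR _ (hm c hc))
  obtain ⟨d', hd'⟩ := F.exists_of_mem (hgR _ (hm d hd))
  have e : F.hom (c' * d' * c'⁻¹ * d'⁻¹) = g * F.z * g⁻¹ := by
    rw [map_mul, map_mul, map_mul, map_inv, map_inv, hc', hd',
      show F.z = F.hom (c * d * c⁻¹ * d⁻¹) by rw [hcd]; rfl, map_mul, map_mul, map_mul, map_inv, map_inv]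
    group
  have hinv : W12.Inv2 (c' * d' * c'⁻¹ * d'⁻¹) := F.hom_invol.1 (e ▸ invol_conj F.z_ord g)
  obtain ⟨h, H⟩ := hC.turn
  have hgp : ∀ l : G, l * g * F.hom W12.gp * (l * g)⁻¹ = l * F.z * l⁻¹ := fun l => by
    rw [← hg]; group
  rcases W12.comm_inv c' d' hinv with h' | h' | h' <;> rw [h'] at e
  · exfalso
    have e1 : g * F.hom W12.gz * g⁻¹ = g * F.hom W12.gp * g⁻¹ := e.symm.trans hg.symm
    exact absurd (F.hom_injective (mul_left_cancel (mul_right_cancel e1))) (by decide +kernel)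
  · refine ⟨h⁻¹ * g, mem_centralizer_singleton_iff.2 (mul_inv_eq_iff_eq_mul.1 ?_), Or.inr ?_⟩
    · rw [show h⁻¹ * g * F.z * (h⁻¹ * g)⁻¹ = h⁻¹ * (g * F.z * g⁻¹) * h by group, ← e,
        show F.hom W12.gu = F.u from rfl, ← H.hz]
      group
    · rw [hgp]
      nth_rw 1 [← H.hu']
      group
  · refine ⟨h * g, mem_centralizer_singleton_iff.2 (mul_inv_eq_iff_eq_mul.1 ?_), Or.inl ?_⟩
    · rw [show h * g * F.z * (h * g)⁻¹ = h * (g * F.z * g⁻¹) * h⁻¹ by group, ← e]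
      exact H.hu'
    · rw [hgp]; exact H.hz

/-- **`r` is not conjugate into `Q` in the centraliser of `z`** -/
theorem r_not_Q {g : G} (hg : g ∈ F.Cz) : g * F.hom W12.gr * g⁻¹ ∉ F.Q := by
  haveI : Fact (Nat.Prime 2) := ⟨Nat.prime_two⟩
  intro hgQ
  obtain ⟨w, hw, he⟩ := hgQ
  have hwi : W12.Inv2 w := F.hom_invol.1 (he ▸ invol_conj (F.hom_invol.2 W12.s_maps.2.2.2.2.2) g)
  have hgz : g * F.z * g⁻¹ = F.z := mul_inv_eq_iff_eq_mul.2 (mem_centralizer_singleton_iff.1 hg)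
  have hwz : w ≠ W12.gz := fun e => by
    subst e
    exact absurd (F.hom_injective (mul_left_cancel (mul_right_cancel (he.symm.trans hgz.symm :
      g * F.hom W12.gr * g⁻¹ = g * F.hom W12.gz * g⁻¹)))) (by decide +kernel)
  obtain ⟨c, hc⟩ := W12.Q_cases w hw hwi hwz
  have hgc : ∀ l ∈ F.Cz, l * (F.hom c * g) * F.hom W12.gr * (l * (F.hom c * g))⁻¹ =
      l * F.hom (c * w * c⁻¹) * l⁻¹ := fun l _ => by
    rw [← F.hom_conj, he]; group
  have hcg : F.hom c * g ∈ F.Cz := F.Cz.mul_mem (F.T_le_Cz (F.hom_mem c)) hg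
  -- the case of the pure class
  have caseU : ∀ n ∈ F.Cz, n * F.hom W12.gr * n⁻¹ = F.u → False := by
    intro n hn hnr
    have hle : conjBy n F.ER ≤ F.CV := by
      rintro _ ⟨x, hx, rfl⟩
      refine ⟨F.Cz.mul_mem (F.Cz.mul_mem hn (F.T_le_Cz (F.ER_le hx))) (F.Cz.inv_mem hn),
        mem_centralizer_singleton_iff.2 ?_⟩
      rw [← hnr]
      obtain ⟨v, hv, rfl⟩ := hx
      exact (Commute.map (F.hom_commute.2 (W12.ER_elem v hv).1) (MulAut.conj n).toMonoidHom).eq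
    obtain ⟨k, hk, hkM⟩ := F.into_M5 F.M5_le_CV le_rfl hle ((F.T.2.to_le F.ER_le).map _)
    set m := k * n with hm
    have hmz : m ∈ F.Cz := F.Cz.mul_mem hk.1 hn
    have hmr : m * F.hom W12.gr * m⁻¹ = F.u := by
      rw [hm, show k * n * F.hom W12.gr * (k * n)⁻¹ = k * (n * F.hom W12.gr * n⁻¹) * k⁻¹ by group, hnr]
      exact mul_inv_eq_iff_eq_mul.2 (mem_centralizer_singleton_iff.1 hk.2)
    have hmM : ∀ x ∈ F.ER, m * x * m⁻¹ ∈ F.M5 := fun x hx => by
      have := hkM _ ⟨x, hx, rfl⟩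
      simpa [hm, mul_assoc] using this
    obtain ⟨y, hy, hey⟩ := hmM F.u (F.mem_ER.2 (by decide +kernel))
    have hyi : W12.Inv2 y := F.hom_invol.1 (hey ▸ invol_conj F.u_ord m)
    have hmzz : m * F.z * m⁻¹ = F.z := mul_inv_eq_iff_eq_mul.2 (mem_centralizer_singleton_iff.1 hmz)
    have hyX : InX y := W12.invol_M y hy hyi.2 fun hV => by
      rcases (W12.subV_le y hV).2.2 with rfl | rfl | rfl | rfl
      · exact hyi.1 rfl
      · exact absurd (F.hom_injective (mul_left_cancel (mul_right_cancel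
          (hey.symm.trans hmzz.symm : m * F.hom W12.gu * m⁻¹ = m * F.hom W12.gz * m⁻¹)))) (by decide +kernel)
      · exact absurd (F.hom_injective (mul_left_cancel (mul_right_cancel
          (hey.symm.trans hmr.symm : m * F.hom W12.gu * m⁻¹ = m * F.hom W12.gr * m⁻¹)))) (by decide +kernel)
      · have e1 : m * (F.hom W12.gr * F.z) * m⁻¹ = m * F.u * m⁻¹ := by
          rw [show m * (F.hom W12.gr * F.z) * m⁻¹ = (m * F.hom W12.gr * m⁻¹) * (m * F.z * m⁻¹) by group, hmr, hmzz,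
            ← hey]
          show F.hom W12.gu * F.hom W12.gz = F.hom W12.gu'
          rw [← map_mul]; exact congrArg F.hom (by decide +kernel)
        have e' : F.hom (W12.gr * W12.gz) = F.hom W12.gu := by
          rw [map_mul]; exact mul_left_cancel (mul_right_cancel e1)
        exact absurd (F.hom_injective e') (by decide +kernel)
    have himg : ∀ x ∈ F.ER, ∃ x' : W12, F.hom x' = m * x * m⁻¹ ∧
        (x' ∈ W12.subV ∨ InX x' ∧ idx x' = idx y) := by
      rintro _ ⟨v, hv, rfl⟩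
      have hgen : ∀ v ∈ W12.subER, v ∈ [1, W12.gz, W12.gr, W12.gr * W12.gz, W12.gu, W12.gu * W12.gz,
          W12.gr * W12.gu, W12.gr * W12.gu * W12.gz] := by decide +kernel
      have e1 : m * F.hom W12.gz * m⁻¹ = F.hom W12.gz := hmzz
      have e2 : m * F.hom W12.gr * m⁻¹ = F.hom W12.gu := hmr
      have e3 : m * F.hom W12.gu * m⁻¹ = F.hom y := hey.symm
      have hmul : ∀ a b a' b', m * F.hom a * m⁻¹ = F.hom a' → m * F.hom b * m⁻¹ = F.hom b' →
          m * F.hom (a * b) * m⁻¹ = F.hom (a' * b') := fun a b a' b' ha hb => by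
        rw [map_mul, map_mul, ← ha, ← hb]; group
      have hVX : ∀ v ∈ W12.subV, InX (v * y) ∧ idx (v * y) = idx y ∧ InX (y * v) ∧ idx (y * v) = idx y := by
        intro v hv
        have hcomm : v * y = y * v := ((W12.subV_le v hv).2.1 y hy).symm
        exact ⟨hcomm ▸ (W12.mul_V y hyX v hv).2, hcomm ▸ (W12.mul_V y hyX v hv).1,
          (W12.mul_V y hyX v hv).2, (W12.mul_V y hyX v hv).1⟩
      have hV : W12.gz ∈ W12.subV ∧ W12.gu ∈ W12.subV ∧ W12.gu * W12.gz ∈ W12.subV := by decide +kernel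
      have hgen' := hgen v hv
      simp only [List.mem_cons, List.not_mem_nil, or_false] at hgen'
      rcases hgen' with rfl | rfl | rfl | rfl | rfl | rfl | rfl | rfl
      · exact ⟨1, by simp, Or.inl (one_mem _)⟩
      · exact ⟨_, e1.symm, Or.inl hV.1⟩
      · exact ⟨_, e2.symm, Or.inl hV.2.1⟩
      · exact ⟨_, (hmul _ _ _ _ e2 e1).symm, Or.inl hV.2.2⟩
      · exact ⟨_, e3.symm, Or.inr ⟨hyX, rfl⟩⟩
      · exact ⟨_, (hmul _ _ _ _ e3 e1).symm, Or.inr ⟨(hVX _ hV.1).2.2.1, (hVX _ hV.1).2.2.2⟩⟩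
      · exact ⟨_, (hmul _ _ _ _ e2 e3).symm, Or.inr ⟨(hVX _ hV.2.1).1, (hVX _ hV.2.1).2.1⟩⟩
      · refine ⟨_, (hmul _ _ _ _ (hmul _ _ _ _ e2 e3) e1).symm, Or.inr ?_⟩
        obtain ⟨h1, h2, -, -⟩ := hVX _ hV.2.1
        exact ⟨(W12.mul_V _ h1 _ hV.1).2, (W12.mul_V _ h1 _ hV.1).1.trans h2⟩
    rcases W12.C4_cases (idx y) with hj | hj | hj | hj
    · refine F.not_E1 hmz fun x hx => ?_
      obtain ⟨x', e, h | ⟨hX, hI⟩⟩ := himg x hx <;> rw [← e]
      · exact F.mem_E1.2 (W12.V_ER.1 x' h).2.2.1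
      · exact F.mem_E1.2 ((W12.M_cosets x' hX).1 (hI.trans hj))
    · refine F.not_E0 hmz fun x hx => ?_
      obtain ⟨x', e, h | ⟨hX, hI⟩⟩ := himg x hx <;> rw [← e]
      · exact F.mem_E0.2 (W12.V_ER.1 x' h).2.1
      · exact F.mem_E0.2 ((W12.M_cosets x' hX).2.1 (hI.trans hj))
    · refine F.no_turn_ER hmz (fun x hx => ?_) (Or.inl hmr)
      obtain ⟨x', e, h | ⟨hX, hI⟩⟩ := himg x hx <;> rw [← e]
      · exact F.mem_ER.2 (W12.V_ER.1 x' h).1
      · exact F.mem_ER.2 ((W12.M_cosets x' hX).2.2.1 (hI.trans hj))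
    · refine F.no_turn_ER (F.Cz.mul_mem (F.T_le_Cz (F.hom_mem W12.gs)) hmz) (fun x hx => ?_) (Or.inr ?_)
      · obtain ⟨x', e, h | ⟨hX, hI⟩⟩ := himg x hx <;>
          rw [show F.hom W12.gs * m * x * (F.hom W12.gs * m)⁻¹ =
            F.hom W12.gs * (m * x * m⁻¹) * (F.hom W12.gs)⁻¹ by group, ← e, F.hom_conj]
        · exact F.mem_ER.2 (W12.V_ER.1 _ (W12.V_ER.1 x' h).2.2.2).1
        · exact F.mem_ER.2 ((W12.M_cosets x' hX).2.2.2 (hI.trans hj))
      · rw [show F.hom W12.gs * m * F.hom W12.gr * (F.hom W12.gs * m)⁻¹ =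
          F.hom W12.gs * (m * F.hom W12.gr * m⁻¹) * (F.hom W12.gs)⁻¹ by group, hmr]
        exact (F.hom_conj _ _).trans (congrArg F.hom W12.gens.2.2.2.2.2.2.2.2.2.2.2.2.1)
  -- the case of the other class
  have caseA : ∀ n ∈ F.Cz, n * F.hom W12.gr * n⁻¹ = F.a → False := by
    intro n hn hnr
    have haz : (F.T : Subgroup G) ⊓ centralizer ({F.a} : Set G) ≤ centralizer ({F.a} : Set G) ⊓ F.Cz :=
      le_inf inf_le_right (inf_le_left.trans F.T_le_Cz)
    have hle : conjBy n F.ER ≤ centralizer ({F.a} : Set G) ⊓ F.Cz := by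
      rintro _ ⟨x, hx, rfl⟩
      refine ⟨mem_centralizer_singleton_iff.2 ?_,
        F.Cz.mul_mem (F.Cz.mul_mem hn (F.T_le_Cz (F.ER_le hx))) (F.Cz.inv_mem hn)⟩
      rw [← hnr]
      obtain ⟨v, hv, rfl⟩ := hx
      exact (Commute.map (F.hom_commute.2 (W12.ER_elem v hv).1) (MulAut.conj n).toMonoidHom).eq
    obtain ⟨k, hk, hkR⟩ := hC.into_cent_a ((F.T.2.to_le F.ER_le).map _) (hle.trans inf_le_left) hle haz inf_le_left
    set m := k * n with hm
    have hmz : m ∈ F.Cz := F.Cz.mul_mem hk.2 hn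
    have hmr : m * F.hom W12.gr * m⁻¹ = F.hom W12.ga := by
      rw [hm, show k * n * F.hom W12.gr * (k * n)⁻¹ = k * (n * F.hom W12.gr * n⁻¹) * k⁻¹ by group, hnr]
      exact mul_inv_eq_iff_eq_mul.2 (mem_centralizer_singleton_iff.1 hk.1)
    have hmzz : m * F.hom W12.gz * m⁻¹ = F.hom W12.gz :=
      mul_inv_eq_iff_eq_mul.2 (mem_centralizer_singleton_iff.1 hmz)
    have hVimg : ∀ v ∈ W12.subV, ∃ v' ∈ W12.subV, F.hom v' = m * F.hom v * m⁻¹ := by
      intro v hv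
      rcases (W12.subV_le v hv).2.2 with rfl | rfl | rfl | rfl
      · exact ⟨1, one_mem _, by simp⟩
      · exact ⟨W12.gz, W12.gens.2.2.2.1, hmzz.symm⟩
      all_goals
        obtain ⟨y, hy⟩ := F.exists_of_mem (show m * F.hom _ * m⁻¹ ∈ (F.T : Subgroup G) from by
          have := (hkR _ ⟨_, F.mem_ER.2 (W12.V_ER.1 _ hv).1, rfl⟩).1
          rw [hm]
          show k * n * _ * (k * n)⁻¹ ∈ (F.T : Subgroup G)
          simp [mul_assoc] at this ⊢
          exact this)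
        refine ⟨y, ?_, hy⟩
        have hyi : W12.Inv2 y := F.hom_invol.1 (hy ▸ invol_conj (F.hom_invol.2 (by decide +kernel)) m)
        have hya : y * W12.ga = W12.ga * y := F.hom_commute.1 (by
          rw [hy, ← hmr]
          exact Commute.map (F.hom_commute.2 (W12.ER_elem _ (W12.V_ER.1 _ hv).1).1) (MulAut.conj m).toMonoidHom)
        rcases W12.cent_ga_z y hya hyi with rfl | rfl | rfl | hnz
        · exact W12.gens.2.2.2.1
        · exact W12.gens.2.2.2.2.1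
        · exact W12.gens.2.2.2.2.2.1
        · refine absurd ?_ (hC.not_z hnz)
          first
          | exact (show F.Rel W12.gz W12.gu from hC.zu).trans (isConj_iff.2 ⟨m, hy.symm⟩)
          | exact hC.rel_u'.trans (isConj_iff.2 ⟨m, hy.symm⟩)
    refine F.not_E1 hmz ?_
    rintro _ ⟨v, hv, rfl⟩
    rcases W12.ER_shape v hv with hV | ⟨⟨hX, -⟩, hI⟩
    · obtain ⟨v', hv', e⟩ := hVimg v hV
      rw [← e]; exact F.mem_E1.2 (W12.V_ER.1 v' hv').2.2.1
    · obtain ⟨v', hv', e⟩ := hVimg _ (by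
        have := (W12.inX_facts v hX).2.2.2
        rw [hI] at this
        exact this)
      have e2 : F.hom (W12.ga * v') = m * F.hom v * m⁻¹ := by
        rw [map_mul, e, ← hmr, W12.rep_R.2, map_mul, map_inv]
        group
      rw [← e2]
      exact F.mem_E1.2 (W12.subE1.mul_mem (by decide +kernel) (W12.V_ER.1 v' hv').2.2.1)
  simp only [List.mem_cons, List.not_mem_nil, or_false] at hc
  rcases hc with e | e | e | e | e
  · exact caseU _ hcg (by rw [← one_mul (F.hom c * g), hgc 1 (one_mem _), e]; simp [Frame.u])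
  · obtain ⟨k, hk, h | h⟩ := hC.exists_k
    · exact caseU _ (F.Cz.mul_mem hk hcg) (by rw [hgc k hk, e, h])
    · refine caseU _ (F.Cz.mul_mem (F.T_le_Cz (F.hom_mem W12.gs)) (F.Cz.mul_mem hk hcg)) ?_
      rw [show F.hom W12.gs * (k * (F.hom c * g)) * F.hom W12.gr * (F.hom W12.gs * (k * (F.hom c * g)))⁻¹ =
        F.hom W12.gs * (k * (F.hom c * g) * F.hom W12.gr * (k * (F.hom c * g))⁻¹) * (F.hom W12.gs)⁻¹ by group,
        hgc k hk, e, h, F.hom_conj, W12.gens.2.2.2.2.2.2.2.2.2.2.2.2.2.1]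
      rfl
  · exact caseA _ hcg (by rw [← one_mul (F.hom c * g), hgc 1 (one_mem _), e]; simp [Frame.a])
  · obtain ⟨k, hk, h⟩ := hC.exists_to_a (Or.inl rfl)
    exact caseA _ (F.Cz.mul_mem hk hcg) (by rw [hgc k hk, e, h])
  · obtain ⟨k, hk, h⟩ := hC.exists_to_a (Or.inr rfl)
    exact caseA _ (F.Cz.mul_mem hk hcg) (by rw [hgc k hk, e, h])

end Frame.Core

end CfsgLib.Invol.MTwelveType
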