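import Cfsg.Agent.Lib.Invol.MTwelveType.Base
import Cfsg.Agent.Lib.Spor.MTwelveCent.Transport

/-!
# The Sylow two-subgroup of the Mathieu group of degree twelve has the coordinates
-/

set_option autoImplicit false
set_option linter.unusedSectionVars false
set_option linter.style.haveILetI false
set_option maxRecDepth 100000

namespace CfsgLib.Invol.MTwelveType

open Subgroup
open CfsgLib.Spor (card_sporM12)
open CfsgLib.Spor.MTwelveCent (tList mC psi₀ zC mTwelveModel tList_facts)

universe u

/-- the codes of the coordinates -/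
def codes : List ℕ := [0, 1, 120, 142, 50, 28, 114, 78, 161, 165, 140, 101, 49, 74, 146, 119, 40, 67, 63, 97, 104, 85,
  191, 189, 177, 178, 144, 139, 26, 47, 91, 129, 181, 174, 80, 116, 158, 157, 124, 125, 155, 136, 56, 65, 175, 190, 3,
  8, 59, 38, 117, 127, 36, 19, 148, 108, 188, 156, 12, 5, 105, 88, 21, 14]

/-- the code of an element -/
def code (w : W12) : ℕ := codes.getD (16 * w.p.val + 4 * w.q.val + 2 * w.x.val + w.s.val) 0

theorem code_mul : ∀ v w : W12, mC (code v) (code w) = code (v * w) := by decide +kernel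
theorem code_mem : ∀ w : W12, code w ∈ tList := by decide +kernel
theorem code_inj : ∀ v w : W12, code v = code w → v = w := by decide +kernel

/-- **the coordinates exist** -/
theorem exists_frame {G : Type u} [Group G] [Finite G] (S : Sylow 2 G) (P : Sylow 2 ↥Cfsg.Spor.M12)
    (hS : Nonempty (↥(S : Subgroup G) ≃* ↥(P : Subgroup ↥Cfsg.Spor.M12))) : Nonempty (Frame G) := by
  haveI : Fact (Nat.Prime 2) := ⟨Nat.prime_two⟩
  obtain ⟨eS⟩ := hS
  obtain ⟨hT, hTn, hTl, -, hTlt⟩ := tList_facts
  have M := mTwelveModel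
  set R := M.sub tList hT with hR
  have hRc : Nat.card R = 64 := by rw [hR, M.card_sub _ _ hTn, hTl]
  have hidx : ¬ 2 ∣ R.index := fun h => by
    have e := R.card_mul_index
    rw [hRc, card_sporM12] at e
    omega
  let R' : Sylow 2 ↥Cfsg.Spor.M12 := (IsPGroup.of_card (n := 6) (by rw [hRc]; norm_num) : IsPGroup 2 R).toSylow hidx
  let φ : W12 →* R := MonoidHom.mk' (fun w => ⟨psi₀ (code w), code w, code_mem w, rfl⟩) fun v w => Subtype.ext (by
    show psi₀ (code (v * w)) = psi₀ (code v) * psi₀ (code w)
    rw [M.mul _ (hTlt _ (code_mem v)) _ (hTlt _ (code_mem w)), code_mul])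
  have hφ : Function.Bijective φ := by
    haveI := Fintype.ofFinite R
    refine (Fintype.bijective_iff_injective_and_card _).2 ⟨fun v w h => code_inj v w
      (M.inj _ (hTlt _ (code_mem v)) _ (hTlt _ (code_mem w)) (congrArg Subtype.val h)), ?_⟩
    rw [W12.card_W12, ← Nat.card_eq_fintype_card, hRc]
  exact ⟨⟨S, ((MulEquiv.ofBijective φ hφ).trans (MulEquiv.subgroupCongr (show R = (R' : Subgroup _) from rfl))).trans
    ((Sylow.equiv R' P).trans eS.symm)⟩⟩

end CfsgLib.Invol.MTwelveType
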