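import Cfsg.Agent.Lib.Invol.MTwelveType.Central
import Cfsg.Agent.Lib.Invol.MTwelveType.SignalDefs
import Cfsg.Agent.Lib.SolvSignalizer.Main
import Cfsg.Agent.S0205

/-!
# Construction of the signalizer subgroup
-/

set_option autoImplicit false
set_option linter.unusedSectionVars false
set_option linter.style.haveILetI false
set_option maxRecDepth 10000

namespace CfsgLib.Invol.MTwelveType

open Subgroup
open CfsgLib.Invol
open CfsgLib.ProdFusion (OC OC_le odd_card_OC le_normalizer_OC_self conjBy_OC odd_of_le)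
open CfsgLib.Coprime (conjBy mem_conjBy conjBy_eq_self_iff)

universe u

namespace W12

theorem fix_card : ∀ x : W12, Inv2 x →
    4 ≤ (Finset.univ.filter fun v => v ∈ subE0 ∧ v * x = x * v).card ∧
    ∀ f : W12, f ∈ subE0 → f * x = x * f →
      8 ≤ (Finset.univ.filter fun v => v * x = x * v ∧ v * f = f * v).card := by decide +kernel

end W12

variable {G : Type u} [Group G] [Finite G]

namespace Frame

variable (F : Frame G)

theorem conjBy_theta_eq (n a : G) : conjBy n (θ a) = θ (n * a * n⁻¹) := by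
  show conjBy n (OC _) = OC _
  rw [conjBy_OC]
  congr 1
  ext g
  rw [mem_conjBy, mem_centralizer_singleton_iff, mem_centralizer_singleton_iff,
    show g * (n * a * n⁻¹) = n * (n⁻¹ * g * n * a) * n⁻¹ by group,
    show n * a * n⁻¹ * g = n * (a * (n⁻¹ * g * n)) * n⁻¹ by group]
  exact ⟨fun e => by rw [e], fun e => mul_left_cancel (mul_right_cancel e)⟩

theorem V_le_E0 : F.V ≤ F.E0 := by
  rintro _ ⟨v, hv, rfl⟩
  exact F.mem_E0.2 (W12.V_ER.1 v hv).2.1

theorem z_mem_V : F.z ∈ F.V := F.mem_V.2 W12.gens.2.2.2.1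

theorem elemV : Cfsg.IsElementaryAbelian 2 F.V :=
  ⟨⟨⟨fun a b => Subtype.ext (F.comm_E0 (F.V_le_E0 a.2) (F.V_le_E0 b.2)).eq⟩⟩,
    fun a ha => by rw [pow_two]; exact F.sq_E0 (F.V_le_E0 ha)⟩

/-- an element of odd order congruent to an element of the Sylow subgroup modulo `θ z` lies in it -/
theorem odd_mem_theta {x o t : G} (hx : Odd (orderOf x)) (ho : o ∈ θ F.z) (ht : t ∈ (F.T : Subgroup G))
    (e : x = o * t) : x ∈ θ F.z ∧ t = 1 := by
  have hpow : ∀ j : ℕ, x ^ j * (t ^ j)⁻¹ ∈ θ F.z := by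
    intro j
    induction j with
    | zero => simp
    | succ j ih =>
      have h1 : x ^ (j + 1) * (t ^ (j + 1))⁻¹ = x ^ j * (t ^ j)⁻¹ * (t ^ j * (x * t⁻¹) * (t ^ j)⁻¹) := by
        rw [pow_succ, pow_succ]; group
      rw [h1]
      refine mul_mem ih ((mem_normalizer_iff.1 (le_normalizer_OC_self _ (F.T_le_Cz (pow_mem ht j))) _).1 ?_)
      rw [e, mul_inv_cancel_right]
      exact ho
  have ht64 : t ^ 64 = 1 := by
    have h1 := pow_card_eq_one' (x := (⟨t, ht⟩ : (F.T : Subgroup G)))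
    rw [F.card_T] at h1
    exact congrArg Subtype.val h1
  have hx64 := hpow 64
  rw [ht64, inv_one, mul_one] at hx64
  obtain ⟨m, hm⟩ := exists_pow_eq_self_of_coprime (x := x) (n := 64)
    (show Nat.Coprime (2 ^ 6) (orderOf x) from Nat.Coprime.pow_left 6 (Nat.coprime_two_left.2 hx))
  have hxθ : x ∈ θ F.z := hm ▸ pow_mem hx64 m
  refine ⟨hxθ, ?_⟩
  have htθ : t ∈ θ F.z := by
    rw [show t = o⁻¹ * x by rw [e, inv_mul_cancel_left]]
    exact mul_mem (inv_mem ho) hxθ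
  have h1 : orderOf t ∣ Nat.card (θ F.z) := Subgroup.orderOf_dvd_natCard _ htθ
  have h2 : orderOf t ∣ 2 ^ 6 := orderOf_dvd_of_pow_eq_one ht64
  have h3 : Nat.Coprime (orderOf t) (2 ^ 6) :=
    ((Nat.coprime_two_right.2 ((odd_card_OC _).of_dvd_nat h1))).pow_right 6
  exact orderOf_eq_one_iff.1 (h3.eq_one_of_dvd h2)

end Frame

namespace Frame.Core

variable {F : Frame G} (hC : F.Core) (hF : F.Factor)
include hC hF

/-- odd subgroups of the centraliser of `z` normalised by a two-subgroup of order eight lie in `θ z` -/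
theorem balance_Cz {A D : Subgroup G} (hA : A ≤ F.Cz) (hA2 : IsPGroup 2 A) (hA8 : 8 ≤ Nat.card A)
    (hD : D ≤ F.Cz) (hDo : Odd (Nat.card D)) (hn : A ≤ normalizer (D : Set G)) : D ≤ θ F.z := by
  haveI : Fact (Nat.Prime 2) := ⟨Nat.prime_two⟩
  obtain ⟨c, hc, hcA⟩ := F.into_T_Cz hA hA2
  obtain ⟨q, hqA, hqQ, hqz⟩ : ∃ q, q ∈ conjBy c A ∧ q ∈ F.Q ∧ ¬ (q = 1 ∨ q = F.z) := by
    by_contra hcon
    push Not at hcon
    set A' := conjBy c A with hA'
    have hle : (F.Q ⊓ A' : Subgroup G) ≤ zpowers F.z := fun x hx => F.mem_zz.2 (hcon x hx.2 hx.1)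
    have h1 : Nat.card (F.Q ⊓ A' : Subgroup G) ≤ 2 := by
      rw [← F.z_ord, ← Nat.card_zpowers]
      exact Nat.le_of_dvd Nat.card_pos (card_dvd_of_le hle)
    have hQT : F.Q.relIndex (F.T : Subgroup G) = 2 := by
      have h := (F.Q.subgroupOf (F.T : Subgroup G)).card_mul_index
      rw [Nat.card_congr (subgroupOfEquivOfLe F.Q_le).toEquiv, F.card_Q, F.card_T] at h
      show (F.Q.subgroupOf (F.T : Subgroup G)).index = 2
      omega
    have hA'T : A' ≤ (F.T : Subgroup G) := by rintro _ ⟨x, hx, rfl⟩; exact hcA x hx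
    have h2 : (F.Q.subgroupOf A').index ≤ 2 := hQT ▸ relIndex_le_of_le_right hA'T (by omega)
    have h3 := (F.Q.subgroupOf A').card_mul_index
    rw [← inf_subgroupOf_right F.Q A', Nat.card_congr (subgroupOfEquivOfLe inf_le_right).toEquiv,
      inf_subgroupOf_right, hA', CfsgLib.Coprime.card_conjBy] at h3
    have h4 := Nat.mul_le_mul h1 h2
    rw [← hA'] at h3
    omega
  have hqC : q ∈ F.Cz := F.T_le_Cz (F.Q_le hqQ)
  suffices key : ∀ d ∈ conjBy c D, d ∈ θ F.z by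
    intro d hd
    have h := key _ ⟨d, hd, rfl⟩
    have := (mem_normalizer_iff.1 (le_normalizer_OC_self _ (inv_mem hc)) _).1 h
    simpa [mul_assoc] using this
  intro d hd
  have hDc : conjBy c D ≤ F.Cz := by
    rintro _ ⟨x, hx, rfl⟩
    exact F.Cz.mul_mem (F.Cz.mul_mem hc (hD hx)) (F.Cz.inv_mem hc)
  have hqN : q ∈ normalizer (conjBy c D : Set G) := by
    obtain ⟨a, ha, rfl⟩ := hqA
    refine CfsgLib.ProdFusion.mem_of_forall_conj_mem ?_
    rintro _ ⟨x, hx, rfl⟩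
    exact ⟨a * x * a⁻¹, (mem_normalizer_iff.1 (hn ha) x).1 hx, by simp [mul_assoc]⟩
  have hodd : ∀ x ∈ conjBy c D, Odd (orderOf x) := fun x hx => by
    have := Subgroup.orderOf_dvd_natCard _ hx
    rw [CfsgLib.Coprime.card_conjBy] at this
    exact hDo.of_dvd_nat this
  obtain ⟨o, ho, n, hnn, e⟩ := hF.factor d (hDc hd)
  have hpow : ∀ j : ℕ, d ^ j * (n ^ j)⁻¹ ∈ θ F.z := by
    intro j
    induction j with
    | zero => simp
    | succ j ih =>
      have h1 : d ^ (j + 1) * (n ^ (j + 1))⁻¹ = d ^ j * (n ^ j)⁻¹ * (n ^ j * (d * n⁻¹) * (n ^ j)⁻¹) := by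
        rw [pow_succ, pow_succ]; group
      rw [h1]
      refine mul_mem ih ((mem_normalizer_iff.1 (le_normalizer_OC_self _ (pow_mem hnn.2 j)) _).1 ?_)
      rw [e, mul_inv_cancel_right]
      exact ho
  have hr0 : orderOf n ≠ 0 := (orderOf_pos n).ne'
  set j := 2 ^ (orderOf n).factorization 2 with hj
  have hno : Odd (orderOf (n ^ j)) := by
    rw [hj, orderOf_pow' _ (by positivity), Nat.gcd_eq_right (Nat.ordProj_dvd _ 2)]
    exact Nat.odd_iff.2 (by have := Nat.not_dvd_ordCompl Nat.prime_two hr0; omega)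
  obtain ⟨m, hm⟩ := exists_pow_eq_self_of_coprime (x := d) (n := j)
    (Nat.Coprime.pow_left _ (Nat.coprime_two_left.2 (hodd d hd)))
  suffices hdj : d ^ j ∈ θ F.z from hm ▸ pow_mem hdj m
  set d' := d ^ j with hd'
  set n' := n ^ j with hn'
  have hn'N : n' ∈ normalizer (F.Q : Set G) ⊓ F.Cz := pow_mem hnn j
  have hd'D : d' ∈ conjBy c D := pow_mem hd j
  set o' := d' * n'⁻¹ with ho'
  have ho'θ : o' ∈ θ F.z := hpow j
  have hde : d' = o' * n' := by rw [ho', inv_mul_cancel_right]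
  set q' := q * n' * q⁻¹ * n'⁻¹ with hq'
  have hq'Q : q' ∈ F.Q := by
    rw [hq', show q * n' * q⁻¹ * n'⁻¹ = q * (n' * q⁻¹ * n'⁻¹) by group]
    exact F.Q.mul_mem hqQ ((mem_normalizer_iff.1 hn'N.1 _).1 (F.Q.inv_mem hqQ))
  have hnθ : ∀ y ∈ F.Cz, ∀ x ∈ θ F.z, y * x * y⁻¹ ∈ θ F.z := fun y hy x hx =>
    (mem_normalizer_iff.1 (le_normalizer_OC_self _ hy) x).1 hx
  have hq'1 : q' = 1 := by
    refine (F.odd_mem_theta (x := q * d' * q⁻¹ * d'⁻¹)
      (o := q * o' * q⁻¹ * (q' * o'⁻¹ * q'⁻¹)) (hodd _ ?_) (mul_mem (hnθ q hqC _ ho'θ)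
        (hnθ q' (F.T_le_Cz (F.Q_le hq'Q)) _ (inv_mem ho'θ))) (F.Q_le hq'Q) ?_).2
    · exact (conjBy c D).mul_mem ((mem_normalizer_iff.1 hqN _).1 hd'D) ((conjBy c D).inv_mem hd'D)
    · rw [hde, hq']; group
  have hcq : n' * q * n'⁻¹ * q⁻¹ = 1 := by
    rw [show n' * q * n'⁻¹ * q⁻¹ = q'⁻¹ by rw [hq']; group, hq'1, inv_one]
  rcases F.rot_or_cent (hC.NQ_le_N0 hn'N) hno with hr | hcent
  · exact absurd (hF.fpf n' hn'N hr q hqQ (Or.inl hcq)) hqz
  · obtain ⟨o3, ho3, t, ht, e3⟩ := hF.fix n' hn'N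
      (Or.inl (mul_inv_eq_iff_eq_mul.2 (hcent _ F.u_mem_E0).eq))
    exact (F.odd_mem_theta (hodd _ hd'D) (mul_mem ho'θ ho3) ht (by rw [mul_assoc, ← e3]; exact hde)).1

/-- balance at a conjugate of `z` -/
theorem balance_at {A D : Subgroup G} {f : G} (hf : IsConj F.z f) (hA : A ≤ centralizer ({f} : Set G))
    (hA2 : IsPGroup 2 A) (hA8 : 8 ≤ Nat.card A) (hD : D ≤ centralizer ({f} : Set G)) (hDo : Odd (Nat.card D))
    (hn : A ≤ normalizer (D : Set G)) : D ≤ θ f := by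
  obtain ⟨g, hg⟩ := isConj_iff.1 hf.symm
  have hle : ∀ H : Subgroup G, H ≤ centralizer ({f} : Set G) → conjBy g H ≤ F.Cz := by
    rintro H hH _ ⟨x, hx, rfl⟩
    refine mem_centralizer_singleton_iff.2 ?_
    rw [← hg]
    exact (Commute.map (show Commute x f from mem_centralizer_singleton_iff.1 (hH hx))
      (MulAut.conj g).toMonoidHom).eq
  have h := hC.balance_Cz hF (hle A hA) (hA2.map _) ((CfsgLib.Coprime.card_conjBy g A).symm ▸ hA8) (hle D hD)
    ((CfsgLib.Coprime.card_conjBy g D).symm ▸ hDo) (by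
      rintro _ ⟨a, ha, rfl⟩
      refine CfsgLib.ProdFusion.mem_of_forall_conj_mem ?_
      rintro _ ⟨x, hx, rfl⟩
      exact ⟨a * x * a⁻¹, (mem_normalizer_iff.1 (hn ha) x).1 hx, by simp [mul_assoc]⟩)
  intro x hx
  have hx' := h ⟨x, hx, rfl⟩
  rw [← hg, ← conjBy_theta_eq, mem_conjBy] at hx'
  simpa [mul_assoc] using hx'

/-- **the signalizer subgroup** -/
theorem exists_signal : ∃ W : Subgroup G, F.Signal W := by
  haveI : Fact (Nat.Prime 2) := ⟨Nat.prime_two⟩
  have hconj : ∀ e ∈ F.E0, e ≠ 1 → IsConj F.z e := by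
    rintro _ ⟨w, hw, rfl⟩ h1
    exact hC.z_of_E0 hw ⟨fun e => h1 (by rw [e, map_one]), (W12.E0_class.2.2.1 w hw).2⟩
  have hE2 : IsPGroup 2 F.E0 := F.T.2.to_le F.E0_le
  have hEc : ∀ e ∈ F.E0, F.E0 ≤ centralizer ({e} : Set G) := fun e he x hx =>
    mem_centralizer_singleton_iff.2 (F.comm_E0 hx he).eq
  have hEn : ∀ e ∈ F.E0, F.E0 ≤ normalizer (θ e : Set G) := fun e he =>
    (hEc e he).trans (le_normalizer_OC_self _)
  have hbal : ∀ e ∈ F.E0, ∀ f ∈ F.E0, f ≠ 1 → θ e ⊓ centralizer ({f} : Set G) ≤ θ f := fun e he f hf hf1 =>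
    hC.balance_at hF (hconj f hf hf1) (hEc f hf) hE2 F.card_E0.ge inf_le_right
      (odd_of_le inf_le_left (odd_card_OC _))
      (CfsgLib.Coprime.inf_le_normalizer (hEn e he) ((hEc f hf).trans le_normalizer))
  set W : Subgroup G := ⨆ v : {v : G // v ∈ F.V ∧ v ≠ 1}, θ (v : G) with hW
  have hVW : ∀ v ∈ F.V, v ≠ 1 → θ v ≤ W := fun v hv hv1 =>
    le_iSup (fun v : {v : G // v ∈ F.V ∧ v ≠ 1} => θ (v : G)) ⟨v, hv, hv1⟩
  have hEW : ∀ e ∈ F.E0, e ≠ 1 → θ e ≤ W := fun e he _ =>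
    CfsgLib.SolvSignalizer.le_of_fixed_points F.elemV (by rw [F.card_V]; norm_num)
      (F.V_le_E0.trans (hEn e he))
      (fun h => Nat.not_even_iff_odd.2 (odd_card_OC (centralizer ({e} : Set G))) (even_iff_two_dvd.2 h))
      fun v hv hv1 => (hbal e he v (F.V_le_E0 hv) hv1).trans (hVW v hv hv1)
  have hfun : Cfsg.IsSolvableSignalizerFunctor 2 F.E0 (fun e => θ e) := by
    refine ⟨⟨fun e _ _ => OC_le _, fun e _ _ h => Nat.not_even_iff_odd.2 (odd_card_OC _) (even_iff_two_dvd.2 h),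
      fun e he _ c hc x hx => (mem_normalizer_iff.1 (hEn e he hc) x).1 hx,
      fun e he _ f hf hf1 => hbal e he f hf hf1⟩,
      fun e _ _ => Cfsg.Agent.S0205.result (odd_card_OC (centralizer ({e} : Set G)))⟩
  obtain ⟨X, hX, hXθ⟩ := CfsgLib.SolvSignalizer.exists_complete F.elemE0 (by rw [F.card_E0]; norm_num) hfun
  have hWo : Odd (Nat.card W) := odd_of_le (iSup_le fun v => hXθ v (F.V_le_E0 v.2.1) v.2.2) (by
    rw [Nat.odd_iff]
    have := hX.2.1
    omega)
  have hzW : θ F.z ≤ W := hVW F.z F.z_mem_V (invol_ne_one F.z_ord)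
  refine ⟨W, hWo, fun g hg => ?_, fun h H => ?_, fun x hx hx2 => ?_⟩
  · obtain ⟨o, ho, n, hn, rfl⟩ := hF.factor g hg
    refine mul_mem (le_normalizer (hzW ho)) ?_
    have hle : conjBy n W ≤ W := by
      rw [hW, conjBy, Subgroup.map_iSup]
      refine iSup_le fun v => ?_
      show conjBy n (θ (v : G)) ≤ _
      rw [conjBy_theta_eq]
      exact hEW _ ((mem_normalizer_iff.1 (hF.norm_E0 hn) v).1 (F.V_le_E0 v.2.1))
        fun e => v.2.2 (conj_eq_one_iff.1 e)
    exact CfsgLib.ProdFusion.mem_of_forall_conj_mem fun y hy => hle ⟨y, hy, rfl⟩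
  · have hle : conjBy h W ≤ W := by
      rw [hW, conjBy, Subgroup.map_iSup]
      refine iSup_le fun v => ?_
      show conjBy h (θ (v : G)) ≤ _
      rw [conjBy_theta_eq]
      obtain ⟨w, hw, hwv⟩ := v.2.1
      refine hVW _ ?_ fun e => v.2.2 (conj_eq_one_iff.1 e)
      rw [← hwv]
      rcases (W12.subV_le w hw).2.2 with rfl | rfl | rfl | rfl
      · rw [map_one, mul_one, mul_inv_cancel]; exact one_mem _
      · rw [show h * F.hom W12.gz * h⁻¹ = F.u from H.hz]; exact F.mem_V.2 W12.gens.2.2.2.2.1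
      · rw [show h * F.hom W12.gu * h⁻¹ = F.hom W12.gu' from H.hu]; exact F.mem_V.2 W12.gens.2.2.2.2.2.1
      · rw [H.hu']; exact F.z_mem_V
    exact CfsgLib.ProdFusion.mem_of_forall_conj_mem fun y hy => hle ⟨y, hy, rfl⟩
  · obtain ⟨w, rfl⟩ := F.exists_of_mem hx
    have hwi : W12.Inv2 w := F.hom_invol.1 hx2
    obtain ⟨h4, h8⟩ := W12.fix_card w hwi
    set A4 : Subgroup G := F.E0 ⊓ centralizer ({F.hom w} : Set G) with hA4
    have hA4card : 2 ^ 2 ≤ Nat.card A4 := by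
      refine h4.trans ?_
      rw [← Nat.card_eq_finsetCard]
      exact Nat.card_le_card_of_injective (fun v => ⟨F.hom v.1, F.mem_E0.2 (Finset.mem_filter.1 v.2).2.1,
        mem_centralizer_singleton_iff.2 (F.hom_commute.2 (Finset.mem_filter.1 v.2).2.2).eq⟩)
        fun v v' e => Subtype.ext (F.hom_injective (Subtype.mk.inj e))
    have hA4e : Cfsg.IsElementaryAbelian 2 A4 :=
      ⟨⟨⟨fun a b => Subtype.ext (F.comm_E0 a.2.1 b.2.1).eq⟩⟩, fun a ha => by rw [pow_two]; exact F.sq_E0 ha.1⟩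
    refine CfsgLib.SolvSignalizer.le_of_fixed_points hA4e hA4card
      ((inf_le_right : A4 ≤ _).trans (le_normalizer_OC_self _))
      (fun h => Nat.not_even_iff_odd.2 (odd_card_OC (centralizer ({F.hom w} : Set G))) (even_iff_two_dvd.2 h))
      fun f hf hf1 => ?_
    obtain ⟨f', hf', rfl⟩ := hf.1
    refine le_trans ?_ (hEW _ hf.1 hf1)
    set A : Subgroup G := (F.T : Subgroup G) ⊓ (centralizer ({F.hom w} : Set G) ⊓ centralizer ({F.hom f'} : Set G))
      with hA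
    have hA8 : 8 ≤ Nat.card A := by
      refine (h8 f' hf' (F.hom_commute.1 (mem_centralizer_singleton_iff.1 hf.2))).trans ?_
      rw [← Nat.card_eq_finsetCard]
      exact Nat.card_le_card_of_injective (fun v => ⟨F.hom v.1, F.hom_mem _,
        mem_centralizer_singleton_iff.2 (F.hom_commute.2 (Finset.mem_filter.1 v.2).2.1).eq,
        mem_centralizer_singleton_iff.2 (F.hom_commute.2 (Finset.mem_filter.1 v.2).2.2).eq⟩)
        fun v v' e => Subtype.ext (F.hom_injective (Subtype.mk.inj e))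
    exact hC.balance_at hF (hconj _ hf.1 hf1) (inf_le_right.trans inf_le_right) (F.T.2.to_le inf_le_left) hA8
      inf_le_right (odd_of_le inf_le_left (odd_card_OC _))
      (CfsgLib.Coprime.inf_le_normalizer ((inf_le_right.trans inf_le_left).trans (le_normalizer_OC_self _))
        ((inf_le_right.trans inf_le_right).trans le_normalizer))

end Frame.Core

end CfsgLib.Invol.MTwelveType
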